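import Cfsg.Agent.H48.DP1Spec
import Cfsg.Agent.H87.KM1

/-! # S3275, chapter C+KM: the functor `O_{3'}(C(x))` and the Klinger-Mason case

Definitions and job statements; proofs in `blueprints/DPC57.md`. -/

set_option autoImplicit false

namespace H57.DPC

open Subgroup Cfsg H98 H48.DP

universe u

structure Hyp2 (G : Type u) [Group G] : Prop extends Hyp G where
  char : IsCharacteristicTwoType G

/-! ### The three groups -/

/-- Basic facts on elements of order 2 and 3. -/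
structure Fa (L : Type*) [Group L] : Prop where
  loc : ∃ (V : Subgroup L) (y : L), IsPGroup 2 V ∧ V ≠ ⊥ ∧ orderOf y = 3 ∧ y ∈ No V
  f3 : ∀ y s t : L, orderOf y = 3 → orderOf s = 2 → orderOf t = 2 → Commute y s → Commute y t →
    Commute s t → s = t
  c9 : ∀ t : L, orderOf t = 2 → ¬ 9 ∣ Nat.card (C1 t)
  c3 : Nat.card L = 168 → ∀ t y : L, orderOf t = 2 → orderOf y = 3 → ¬ Commute y t

def JobF27 : Prop := ∀ (L : Type u) [Group L] [Finite L], IsL27 L → Fa L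
def JobF33 : Prop := ∀ (L : Type u) [Group L] [Finite L], IsL33 L → Fa L
def JobFU : Prop := JobUM0.{u} → JobUM.{u} → ∀ (L : Type u) [Group L] [Finite L], IsU33 L → Fa L

def FA : Prop := ∀ (L : Type u) [Group L] [Finite L], Three L → Fa L

theorem fa_of (a : JobF27.{u}) (b : JobF33.{u}) (c : JobFU.{u}) (d : JobUM0.{u}) (e : JobUM.{u}) :
    FA.{u} := fun L _ _ h => h.elim (a L) fun h => h.elim (b L) (c d e L)

/-- Centralisers of elements of order 3 have no normal `3'`-subgroup. -/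
def FB : Prop := ∀ (L : Type u) [Group L] [Finite L], Three L →
  ∀ y : L, orderOf y = 3 → centralizerPPrimeCore 3 y = ⊥

def JobFB : Prop := JobCen.{u} → JobKN.{u} → FA.{u} → FB.{u}

/-- Covers with a centre of odd order are trivial. -/
def JobCov3 : Prop := ∀ (L : Type u) [Group L] [Finite L], IsQuasisimple L →
  Odd (Nat.card (center L)) → Three (L ⧸ center L) → Three L

variable {G : Type*} [Group G]

/-- The facts on a subgroup `K` that is one of the three groups. -/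
structure Sm (K : Subgroup G) : Prop where
  simple : ∀ N : Subgroup G, N ≤ K → K ≤ No N → N = ⊥ ∨ N = K
  cen : K ⊓ Ce K = ⊥
  gen : ∀ X : Subgroup G, (∀ g ∈ K, orderOf g = 2 → g ∈ X) → K ≤ X
  four : ∃ s ∈ K, ∃ t ∈ K, orderOf s = 2 ∧ orderOf t = 2 ∧ Commute s t ∧ s ≠ t
  loc : ∃ V : Subgroup G, V ≤ K ∧ ∃ y ∈ K, IsPGroup 2 V ∧ V ≠ ⊥ ∧ orderOf y = 3 ∧ y ∈ No V
  f3 : ∀ y ∈ K, ∀ s ∈ K, ∀ t ∈ K, orderOf y = 3 → orderOf s = 2 → orderOf t = 2 → Commute y s →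
    Commute y t → Commute s t → s = t
  f4 : ∀ P S : Subgroup G, P ≤ K → S ≤ K → IsElementaryAbelian 3 P → IsPGroup 2 S → P ≤ No S →
    S = ⊥ ∨ Nat.card P ≤ 3
  rk : ∀ P : Subgroup G, P ≤ K → IsElementaryAbelian 3 P → Nat.card P ≤ 9

def SM : Prop := ∀ (G : Type u) [Group G] [Finite G] (K : Subgroup G), Three K → Sm K

def JobSm : Prop := JobCen.{u} → JobKN.{u} → FA.{u} → SM.{u}

/-! ### Components -/

/-- The normaliser of `K` acts by inner automorphisms. -/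
def Inn (K : Subgroup G) : Prop := ∀ g ∈ No K, ∃ l ∈ K, l⁻¹ * g ∈ Ce K

/-- A component `K` of `H` that is one of the three groups. -/
structure Cm (H K : Subgroup G) : Prop where
  comp : IsComponentOf K H
  sm : Sm K
  two : ∀ g ∈ H, IsPGroup 2 (zpowers g) → g ∈ No K
  inn : Inn K

def CM : Prop := ∀ (G : Type u) [Group G] [Finite G], Hyp G → ∀ H K : Subgroup G, H ≠ ⊤ →
  O2 H = ⊥ → IsComponentOf K H → Cm H K

def JobCm : Prop := Act.{u} → JobCov3.{u} → SM.{u} → CM.{u}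

/-- A 2-subgroup that centralises `O₃(H)` and the components is trivial. -/
def JobFs : Prop := ∀ (G : Type u) [Group G] [Finite G], ND G → ∀ H E : Subgroup G, O2 H = ⊥ →
  E ≤ H → IsPGroup 2 E → E ≤ Ce (pCoreOf 3 H) → (∀ K, IsComponentOf K H → E ≤ Ce K) → E = ⊥

/-- The projection of `B ≤ K × C(K)` on `K`. -/
def pr (K B : Subgroup G) : Subgroup G := K ⊓ (B ⊔ Ce K)

def JobPr : Prop := ∀ (G : Type u) [Group G] [Finite G] (K : Subgroup G), K ⊓ Ce K = ⊥ → Inn K →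
  (∃ π : No K →* G, (∀ g, π g ∈ K) ∧ (∀ g : No K, (π g)⁻¹ * g ∈ Ce K) ∧
    ∀ g : No K, π g = 1 ↔ (g : G) ∈ Ce K) ∧
  ∀ B : Subgroup G, B ≤ No K → Nat.card B = Nat.card ↥(B ⊓ Ce K) * Nat.card (pr K B) ∧
    (∀ p : ℕ, IsPGroup p B → IsPGroup p (pr K B)) ∧
    (∀ p : ℕ, IsElementaryAbelian p B → IsElementaryAbelian p (pr K B)) ∧
    (pr K B = ⊥ → B ≤ Ce K) ∧ ∀ T : Subgroup G, T ≤ No K → B ≤ No T → pr K B ≤ No (pr K T)

/-- A subgroup of the largest order normalises the components. -/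
def RR : Prop := ∀ (G : Type u) [Group G] [Finite G] (N : ℕ) (B H J : Subgroup G),
  H87.KM.Mx G 3 N → IsElementaryAbelian 3 B → N ≤ Nat.card B → B ≤ H → Cm H J → B ≤ No J

def JobR : Prop := JobPr.{u} → RR.{u}

/-- A component of `C(x)` centralised by `u` is a component of `C(u)`. -/
def TR : Prop := ∀ (G : Type u) [Group G] [Finite G], ND G → ∀ (x w : G) (K : Subgroup G),
  orderOf x = 3 → Commute x w → Cm (C1 x) K → w ∈ Ce K → O2 (C1 w) = ⊥ →
  (∀ J, IsComponentOf J (C1 w) → Cm (C1 w) J ∧ x ∈ No J) → Cm (C1 w) K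

def JobTr : Prop := JobFs.{u} → JobPr.{u} → TR.{u}

def JobA : Prop := ∀ (G : Type u) [Group G] [Finite G], IsCharacteristicTwoType G →
  ∀ U K : Subgroup G, IsElementaryAbelian 3 U → 9 ≤ Nat.card U → U ≤ Ce K →
  (∀ w ∈ U, w ≠ 1 → Cm (C1 w) K) → False

/-- `B` has the largest order `N ≥ 27` among the elementary abelian 3-subgroups of 2-locals. -/
structure Top (N : ℕ) (B : Subgroup G) : Prop where
  mx : H87.KM.Mx G 3 N
  cube : 27 ≤ N
  el : IsElementaryAbelian 3 B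
  big : N ≤ Nat.card B
  loc : ∃ T : Subgroup G, IsPGroup 2 T ∧ T ≠ ⊥ ∧ B ≤ No T

/-- The case of chapter KM. -/
def ZO (G : Type*) [Group G] (N : ℕ) : Prop :=
  ∀ B : Subgroup G, Top N B → ∀ x ∈ B, x ≠ 1 → O2 (C1 x) = ⊥

def B1 : Prop := ∀ (G : Type u) [Group G] [Finite G], Hyp2 G → ∀ N : ℕ, ZO G N →
  ∀ B K : Subgroup G, Top N B → ∀ x ∈ B, x ≠ 1 → IsComponentOf K (C1 x) →
  Nat.card ↥(B ⊓ Ce K) < 9

def JobB1 : Prop := CM.{u} → RR.{u} → TR.{u} → JobA.{u} → B1.{u}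

/-- The components lemma. -/
def BB : Prop := ∀ (G : Type u) [Group G] [Finite G], Hyp2 G → ∀ N : ℕ, ZO G N →
  ∀ B T : Subgroup G, Top N B → IsPGroup 2 T → T ≠ ⊥ → B ≤ No T → ∀ x ∈ B, x ≠ 1 → T ≤ C1 x →
  ∀ K, ¬ IsComponentOf K (C1 x)

def JobB : Prop := CM.{u} → JobFs.{u} → JobPr.{u} → RR.{u} → B1.{u} → BB.{u}

/-- The result of chapter KM. -/
def KM : Prop := ∀ (G : Type u) [Group G] [Finite G], Hyp2 G → ¬ TwoLocalPRankLE 3 2 G →
  ∃ (N : ℕ) (B : Subgroup G), Top N B ∧ ∃ x ∈ B, x ≠ 1 ∧ O2 (C1 x) ≠ ⊥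

def JobKM : Prop := JobFs.{u} → BB.{u} → KM.{u}

/-! ### The signalizer functor -/

/-- `θ(x) = O_{3'}(C(x))`. -/
abbrev th (x : G) : Subgroup G := centralizerPPrimeCore 3 x

def Bal3 (G : Type*) [Group G] : Prop :=
  ∀ x y : G, orderOf x = 3 → orderOf y = 3 → Commute x y → th x ⊓ C1 y ≤ th y

def BAL : Prop := ∀ (G : Type u) [Group G] [Finite G], Hyp G → Bal3 G

def JobBal3 : Prop := Act.{u} → FB.{u} → BAL.{u}

/-- Proper `3'`-subgroups are solvable and 2-closed. -/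
def O3 : Prop := ∀ (G : Type u) [Group G] [Finite G], Hyp G → ∀ Y : Subgroup G, Y ≠ ⊤ →
  ¬ 3 ∣ Nat.card Y → Group.IsSolvable Y ∧ ∀ S : Subgroup G, S ≤ Y → IsPGroup 2 S → S ≤ O2 Y

def JobO3 : Prop := JobKN.{u} → O3.{u}

/-- The closure `W(B)` of the functor. -/
abbrev WW (B : Subgroup G) : Subgroup G := signalizerClosure B (fun x => th x)

/-- The result of chapter C. -/
def SF : Prop := ∀ (G : Type u) [Group G] [Finite G], Hyp G → ∀ B : Subgroup G,
  IsElementaryAbelian 3 B → 27 ≤ Nat.card B → ¬ 3 ∣ Nat.card (WW B) ∧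
    (∀ x ∈ B, x ≠ 1 → WW B ⊓ C1 x = th x ∧ O2 (WW B) ⊓ C1 x = O2 (C1 x)) ∧
    Group.IsSolvable (WW B) ∧ No B ≤ No (WW B) ∧
    ∀ S : Subgroup G, S ≤ WW B → IsPGroup 2 S → S ≤ O2 (WW B)

def JobSF : Prop := BAL.{u} → O3.{u} → SF.{u}

end H57.DPC
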