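import Cfsg.Agent.H96.U2ISpec

/-! # S3275, chapter U2F: sub-amalgams `(T F, P)` and `(T F, L)`

Definitions and job statements; proofs in `blueprints/U2C.md`. -/

set_option autoImplicit false

namespace H57.U2C

open Subgroup Cfsg H98 H96 H97 H48.DP H57.DPC H48.DP2 H96.U2I
open scoped commutatorElement

universe u

/-! ### Quadratic action on an `F₂`-module -/

section mod

variable {W : Type u} [AddCommGroup W]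

structure Qd (F B : Subgroup (Au W)) : Prop where
  two : ∀ w : W, w + w = 0
  F3 : IsPGroup 3 F
  nr : B ≤ No F
  fd : B ⊓ Ce F = ⊥
  qd : Quad W B

/-- `[W, x] = {0, c, x c, c + x c}`. -/
def Tp (x : Au W) (c : W) : Prop :=
  x • c ≠ c ∧ ∀ w : W, dl x w = 0 ∨ dl x w = c ∨ dl x w = x • c ∨ dl x w = c + x • c

def Tc (F : Subgroup (Au W)) (c : W) : Prop := ∃ x ∈ F, orderOf x = 3 ∧ Tp x c

/-- `[W, x]`. -/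
abbrev Wx (x : Au W) : AddSubgroup W := cm ⊤ (zpowers x)

/-- `|[W, x] : C(a)|`. -/
noncomputable abbrev nI (a x : Au W) : ℕ := (fx W (zpowers a)).relIndex (Wx x)

structure Fam (F B : Subgroup (Au W)) {d : ℕ} (a x : Fin d → Au W) : Prop where
  card : Nat.card B = 2 ^ d
  aB : ∀ i, a i ∈ B
  xF : ∀ i, x i ∈ F
  x3 : ∀ i, orderOf (x i) = 3
  inv : ∀ i, a i * x i * (a i)⁻¹ = (x i)⁻¹
  gen : ⨆ i, zpowers (a i) = B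
  f1 : ∀ i j, i ≠ j → ∀ w ∈ Wx (x i), a j • w = w
  f2 : ∀ i j, i ≠ j → ∀ w ∈ Wx (x i), x j • w = w

/-- One dihedral pair. -/
structure Pr (a x : Au W) : Prop where
  fpf : ∀ w ∈ Wx x, x • w = w → w = 0
  mem : ∀ w ∈ Wx x, a • w ∈ Wx x
  two : 2 ≤ nI a x
  img : Set.ncard (dl a '' (Wx x : Set W)) = nI a x
  sq : Nat.card (Wx x) ≤ nI a x * nI a x
  tp : nI a x = 2 → ∃ w : W, Tp x (dl a w) ∧ ∀ h ∈ Wx x, dl a h = 0 ∨ dl a h = dl a w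

structure Cnt (B : Subgroup (Au W)) {d : ℕ} (a x : Fin d → Au W) : Prop where
  c1 : ∀ N : AddSubgroup W, (∀ h ∈ N, ∀ i, dl (a i) h ∈ Wx (x i) → a i • h = h) →
    ∏ i, nI (a i) (x i) ≤ N.index
  c2 : (fx W B).index ≤ ∏ i, nI (a i) (x i) → ∀ i w, ∃ h ∈ Wx (x i), dl (a i) w = dl (a i) h

end mod

def DH : Prop := ∀ (W : Type u) [AddCommGroup W] [Finite W] (F B : Subgroup (Au W)), Qd F B →
  ∃ (d : ℕ) (a x : Fin d → Au W), Fam F B a x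

def PR : Prop := ∀ (W : Type u) [AddCommGroup W] [Finite W] (a x : Au W), (∀ w : W, w + w = 0) →
  a * a = 1 → orderOf x = 3 → a * x * a⁻¹ = x⁻¹ → Pr a x

def CN : Prop := ∀ (W : Type u) [AddCommGroup W] [Finite W] (F B : Subgroup (Au W)) (d : ℕ)
  (a x : Fin d → Au W), Qd F B → Fam F B a x → (∀ i, Pr (a i) (x i)) → Cnt B a x

def BD : Prop := ∀ (W : Type u) [AddCommGroup W] [Finite W] (F B : Subgroup (Au W)), Qd F B →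
  Nat.card B ≤ (fx W B).index

def OFF : Prop := ∀ (W : Type u) [AddCommGroup W] [Finite W] (F B : Subgroup (Au W)), Qd F B →
  (fx W B).index ≤ Nat.card B → ∀ w : W, w ∉ fx W B → ∃ a ∈ B, dl a w ≠ 0 ∧
    (∀ w' : W, dl a w' = 0 ∨ dl a w' = dl a w) ∧ Tc F (dl a w)

def F2 : Prop := ∀ (W : Type u) [AddCommGroup W] [Finite W] (F B : Subgroup (Au W)), Qd F B →
  (fx W B).index ≤ 2 * Nat.card B → 4 ≤ Nat.card B → ∃ a ∈ B, ∃ w : W, Tc F (dl a w)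

def JobM1 : Prop := DH.{u} → PR.{u} → CN.{u} → BD.{u} ∧ OFF.{u} ∧ F2.{u}

/-- An element `b` normalises `[W, x]`, or two conjugates of `x` centralise it. -/
def TA : Prop := ∀ (W : Type u) [AddCommGroup W] [Finite W] (F : Subgroup (Au W)) (x b : Au W)
  (c : W), (∀ w : W, w + w = 0) → IsPGroup 3 F → x ∈ F → b ∈ F → orderOf x = 3 → b ^ 3 = 1 →
  Tp x c → ((b • c = c ∨ b • c = x • c ∨ b • c = c + x • c) ∧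
      (b • x • c = c ∨ b • x • c = x • c ∨ b • x • c = c + x • c)) ∨
    ((b * x * b⁻¹) • c = c ∧ (b⁻¹ * x * b) • c = c ∧ b⁻¹ * x * b ∉ zpowers (b * x * b⁻¹))

/-- An involution with a small centraliser on a 3-group of rank at least 3. -/
def L3 : Prop := ∀ (X : Type u) [Group X] [Finite X] (F : Subgroup X) (a : X), IsPGroup 3 F →
  E27 F → a ∈ No F → a * a = 1 → Nat.card ↥(F ⊓ C1 a) ≤ 3 →
  (∃ x ∈ F, x ∈ Ce F ∧ orderOf x = 3 ∧ a * x * a⁻¹ = x⁻¹) ∨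
  ∃ x ∈ F, ∃ x' ∈ F, orderOf x = 3 ∧ orderOf x' = 3 ∧ Commute x x' ∧ x' ∉ zpowers x ∧
    a * x * a⁻¹ = x⁻¹ ∧ a * x' * a⁻¹ = x'⁻¹

def QBk (k : ℕ → Prop) : Prop := ∀ (W : Type u) [AddCommGroup W] [Finite W]
  (F B : Subgroup (Au W)) (N : AddSubgroup W) (s : W), Qd F B → E27 F → k (Nat.card B) →
  N.index ≤ Nat.card B → (∀ e ∈ F, e • s = s → e = 1) →
  (∀ h ∈ N, ∀ a ∈ B, dl a h = 0 ∨ dl a h = s) → N.index = Nat.card B ∧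
    ∃ a ∈ B, ∃ x ∈ F, ∃ w : W, orderOf x = 3 ∧ a * x * a⁻¹ = x⁻¹ ∧ Tp x (dl a w)

def JobQ1 : Prop := DH.{u} → PR.{u} → TA.{u} → L3.{u} → QBk.{u} (· = 2)

def JobQ2 : Prop := DH.{u} → PR.{u} → CN.{u} → QBk.{u} (· = 2) → QBk.{u} (· ≠ 1)

/-! ### Sections `U / ⟨z⟩` -/

variable {G : Type u} [Group G]

/-- `u` is centralised by a subgroup `3²` of `F`. -/
def Gd (F : Subgroup G) (u : G) : Prop :=
  ∃ E : Subgroup G, E ≤ F ∧ IsElementaryAbelian 3 E ∧ 9 ≤ Nat.card E ∧ E ≤ C1 u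

/-- `u` is centralised by an element of order 3 of `F`. -/
def Fx (F : Subgroup G) (u : G) : Prop := ∃ e ∈ F, orderOf e = 3 ∧ Commute e u

/-- The kernel of the action on `U / ⟨z⟩`. -/
abbrev St (U : Subgroup G) (z : G) : Subgroup G := stab U (zpowers z)

structure Md (K F U : Subgroup G) (z : G) : Prop where
  ea : IsElementaryAbelian 2 U
  zU : z ∈ U
  KU : K ≤ No U
  Kz : K ≤ C1 z
  FK : F ≤ K
  F3 : IsPGroup 3 F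
  e27 : E27 F
  nF : ∀ k ∈ K, ∀ f ∈ F, ∃ f' ∈ F, f'⁻¹ * (k * f * k⁻¹) ∈ St U z
  fd : ∀ t ∈ K, IsPGroup 2 (zpowers t) → (∀ f ∈ F, ⁅f, t⁆ ∈ St U z) → t ∈ St U z

/-- `B` is a 2-subgroup of `K` that is quadratic on `U / ⟨z⟩`. -/
structure Qz (K U B : Subgroup G) (z : G) : Prop where
  le : B ≤ K
  two : IsPGroup 2 B
  qd : ∀ a ∈ B, ∀ b ∈ B, ∀ w ∈ U, ⁅a, ⁅b, w⁆⁆ ∈ zpowers z

def BR : Prop := ∀ (G : Type u) [Group G] [Finite G] (K F U B : Subgroup G) (z : G)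
  (W : Type u) [AddCommGroup W] (s : Sec W U (zpowers z)), Md K F U z → Qz K U B z →
  K ≤ nn U (zpowers z) ∧ Qd (s.bar F) (s.bar B) ∧
    ∀ N : Subgroup G, N ≤ U → z ∈ N → (s.im N).index = N.relIndex U

def TG : Prop := ∀ (G : Type u) [Group G] [Finite G] (K F U : Subgroup G) (z u : G)
  (W : Type u) [AddCommGroup W] (s : Sec W U (zpowers z)), Md K F U z → u ∈ U →
  Tc (s.bar F) (s.ψ u) → Gd F u

def JobTG : Prop := TA.{u} → TG.{u}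

def GBD : Prop := ∀ (G : Type u) [Group G] [Finite G] (K F U B N : Subgroup G) (z : G),
  Md K F U z → Qz K U B z → N ≤ U → z ∈ N → (∀ h ∈ N, ∀ a ∈ B, ⁅a, h⁆ ∈ zpowers z) →
  (St U z).relIndex B ≤ N.relIndex U

def GOFF : Prop := ∀ (G : Type u) [Group G] [Finite G] (K F U B N : Subgroup G) (z : G),
  Md K F U z → Qz K U B z → N ≤ U → z ∈ N → (∀ h ∈ N, ∀ a ∈ B, ⁅a, h⁆ ∈ zpowers z) →
  N.relIndex U ≤ (St U z).relIndex B → ∀ w ∈ U, ∀ b ∈ B, ⁅b, w⁆ ∉ zpowers z →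
  ∃ a ∈ B, ⁅a, w⁆ ∉ zpowers z ∧ Gd F ⁅a, w⁆ ∧
    ∀ w' ∈ U, ⁅a, w'⁆ ∈ zpowers z ∨ ⁅a, w'⁆ * ⁅a, w⁆ ∈ zpowers z

def GF2 : Prop := ∀ (G : Type u) [Group G] [Finite G] (K F U B N : Subgroup G) (z : G),
  Md K F U z → Qz K U B z → N ≤ U → z ∈ N → (∀ h ∈ N, ∀ a ∈ B, ⁅a, h⁆ ∈ zpowers z) →
  N.relIndex U ≤ 2 * (St U z).relIndex B → 4 ≤ (St U z).relIndex B →
  ∃ a ∈ B, ∃ w ∈ U, ⁅a, w⁆ ∉ zpowers z ∧ Gd F ⁅a, w⁆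

def JobG1 : Prop := BD.{u} → OFF.{u} → F2.{u} → BR.{u} → TG.{u} → GBD.{u} ∧ GOFF.{u} ∧ GF2.{u}

def GQB : Prop := ∀ (G : Type u) [Group G] [Finite G] (K F U B N : Subgroup G) (z s : G),
  Md K F U z → Qz K U B z → N ≤ U → z ∈ N → s ∈ U → ¬ Fx F s → ¬ B ≤ St U z →
  (∀ h ∈ N, ∀ a ∈ B, ⁅a, h⁆ ∈ zpowers z ∨ ⁅a, h⁆ * s ∈ zpowers z) →
  N.relIndex U ≤ (St U z).relIndex B → N.relIndex U = (St U z).relIndex B ∧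
    ∃ a ∈ B, (∃ w ∈ U, ⁅a, w⁆ ∉ zpowers z ∧ Gd F ⁅a, w⁆) ∧
      ∀ p ∈ U, ∀ q ∈ U, Commute a p → Commute a q → Fx F p ∨ Fx F q ∨ Fx F (p * q)

def JobG2 : Prop := QBk.{u} (· ≠ 1) → BR.{u} → TG.{u} → GQB.{u}

/-! ### The groups `T F` -/

structure Kq (T Q₀ F : Subgroup G) : Prop where
  T2 : IsPGroup 2 T
  F3 : IsPGroup 3 F
  le : Q₀ ≤ T
  TQ : T ≤ No Q₀
  FQ : F ≤ No Q₀
  TF : T ≤ No (Q₀ ⊔ F)

def KK : Prop := ∀ (G : Type u) [Group G] [Finite G] (T Q₀ F : Subgroup G), Kq T Q₀ F →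
  (∀ k ∈ T ⊔ F, ∃ f ∈ F, ∃ t ∈ T, k = f * t) ∧ IsSyl 2 T (T ⊔ F) ∧
  Nat.card ↥(T ⊔ F) = Nat.card T * Nat.card F ∧ T ⊓ (Q₀ ⊔ F) = Q₀ ∧
  (∀ N : Subgroup G, N ≤ T ⊔ F → (∀ e ∈ N, orderOf e ≠ 3) → IsPGroup 2 N) ∧
  (∀ t ∈ T, (∀ f ∈ F, ⁅f, t⁆ ∈ Q₀) → t ∈ O2 (T ⊔ F)) ∧
  ∀ t ∈ T, ∃ φ : MulAut F, ∀ f : F, ((φ f : F) : G)⁻¹ * (t * f * t⁻¹) ∈ Q₀

def MD : Prop := ∀ (G : Type u) [Group G] [Finite G] (T Q₀ F D : Subgroup G) (z : G),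
  Kq T Q₀ F → E27 F → IsElementaryAbelian 2 (ncl (T ⊔ F) D) → z ∈ D → T ⊔ F ≤ C1 z →
  (∀ d ∈ D, ∀ t ∈ T, ⁅t, d⁆ ∈ zpowers z) →
  Md (T ⊔ F) F (ncl (T ⊔ F) D) z ∧ Q₀ ≤ St (ncl (T ⊔ F) D) z

def JobMD : Prop := KK.{u} → MD.{u}

/-- The critical distance. -/
def WK : Prop := ∀ (G : Type u) [Group G] (A B R X : Subgroup G), R ≤ A → B ≤ No R → A ≤ No X →
  (¬ ∀ g ∈ A ⊔ B, X ≤ cj g R) → ¬ X ≤ R ∨ ∃ S : Set G, (∀ g ∈ S, g⁻¹ ∈ S) ∧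
    (∀ g ∈ S, X ≤ cj g A) ∧ (∀ e ∈ B, e ∈ S) ∧
    ∃ g ∈ S, ¬ X ≤ cj g R ∧ ∃ p ∈ B, ∀ e ∈ B, e * g⁻¹ * p ∈ S

/-! ### Input from the other chapters -/

def EQ : Prop := ∀ (G : Type u) [Group G] [Finite G] (M Q : Subgroup G), Uw M Q →
  ∀ H E : Subgroup G, O2 H ≠ ⊥ → E ≤ H → E ≤ M → IsElementaryAbelian 3 E → 9 ≤ Nat.card E → H ≤ M

def EX : Prop := ∀ (G : Type u) [Group G] [Finite G] (M Q T R : Subgroup G) (y t : G),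
  Uq M Q → Am M T R y t → ∃ Q₀ F : Subgroup G, Q ≤ Q₀ ∧ Kq T Q₀ F ∧ F ≤ M ∧ E27 F

def EL : Prop := ∀ (G : Type u) [Group G] [Finite G] (M Q T R : Subgroup G) (y t : G),
  Uq M Q → Am M T R y t → ∀ T₁ Y : Subgroup G, Q ≤ T₁ → Kq T T₁ Y → Y ≤ M → ¬ IsCyclic Y →
  ¬ ∀ d ∈ cj y (Q ⊓ R), d * d ∈ T₁

def LX : Prop := ∀ (G : Type u) [Group G] [Finite G] (M Q T R : Subgroup G) (y t : G),
  Uq M Q → Am M T R y t → ∀ x ∈ M, orderOf x = 3 → T.relIndex (T ⊔ zpowers x) = 3 →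
  LT T (T ⊔ zpowers x) (T ⊔ zpowers y) ((T ⊔ zpowers x) ⊔ (T ⊔ zpowers y)) ∧
    CharP 2 ((T ⊔ zpowers x) ⊔ (T ⊔ zpowers y))

/-- The standing situation. -/
structure Ct (M Q T R : Subgroup G) (y t : G) : Prop where
  syl : IsSyl 2 T ⊤
  TM : T ≤ M
  QT : Q ≤ T
  RT : R ≤ T
  MQ : M ≤ No Q
  TR : T ≤ No R
  yR : y ∈ No R
  y3 : orderOf y = 3
  yM : y ∉ M
  idx : R.relIndex T = 2
  mul : ∀ a ∈ T, ∀ b ∈ T, a ∉ R → b ∉ R → a * b ∈ R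
  nQ : ∃ q ∈ Q, q ∉ R
  inv : ∀ q ∈ T, q ∉ R → q * y * q⁻¹ * y ∈ R
  tT : t ∈ T
  tR : t ∉ R
  ty : t * y * t⁻¹ = y⁻¹
  pm : ∀ e ∈ T ⊔ zpowers y, ∃ s ∈ T, e = s ∨ e = y * s ∨ e = y⁻¹ * s
  oR : O2 (T ⊔ zpowers y) = R
  o2 : ∀ K : Subgroup G, K ≤ M → M ≤ No K → IsPGroup 2 K → K ≤ Q
  cq : Ce Q ≤ Q
  cR : Ce R ≤ R
  nt : Q ≠ ⊥
  ti : TI M
  up : ∀ g : G, cj g Q ≤ M → g ∈ M
  eq : ∀ X E : Subgroup G, IsPGroup 2 X → X ≠ ⊥ → E ≤ No X → E ≤ M → IsElementaryAbelian 3 E →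
    9 ≤ Nat.card E → No X ≤ M
  gd : ∀ F : Subgroup G, F ≤ M → ∀ u : G, u ≠ 1 → u * u = 1 → Gd F u → C1 u ≤ M
  el : ∀ T₁ Y : Subgroup G, Q ≤ T₁ → Kq T T₁ Y → Y ≤ M → ¬ IsCyclic Y →
    ¬ ∀ d ∈ cj y (Q ⊓ R), d * d ∈ T₁
  lx : ∀ x ∈ M, orderOf x = 3 → T.relIndex (T ⊔ zpowers x) = 3 →
    LT T (T ⊔ zpowers x) (T ⊔ zpowers y) ((T ⊔ zpowers x) ⊔ (T ⊔ zpowers y)) ∧
      CharP 2 ((T ⊔ zpowers x) ⊔ (T ⊔ zpowers y))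

def JobCT : Prop := EQ.{u} → EL.{u} → LX.{u} → ∀ (G : Type u) [Group G] [Finite G]
  (M Q T R : Subgroup G) (y t : G), Uq M Q → Am M T R y t → Ct M Q T R y t

structure Sb (M Q T R Q₀ F : Subgroup G) (y t : G) : Prop extends Ct M Q T R y t where
  QQ : Q ≤ Q₀
  kq : Kq T Q₀ F
  FM : F ≤ M
  e27 : E27 F

/-- Critical distance 1 is impossible. -/
def L1 : Prop := ∀ (G : Type u) [Group G] [Finite G] (M Q T R Q₀ F : Subgroup G) (y t : G),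
  Sb M Q T R Q₀ F y t → (∀ X : Subgroup G, X ≤ Q → T ≤ No X →
    (∀ d ∈ cj y (X ⊓ R), d * d ∈ Q₀) → X ≤ R) ∧
  IsElementaryAbelian 2 (ncl M (oZ 2 T)) ∧ ncl M (oZ 2 T) ≤ Q ∧ ncl M (oZ 2 T) ≤ Ce Q ∧
  ncl M (oZ 2 T) ≤ R

/-- No invariant `3²` has an invariant line. -/
def NL : Prop := ∀ (G : Type u) [Group G] [Finite G] (M Q T R Q₀ F U : Subgroup G) (y t x : G),
  Sb M Q T R Q₀ F y t → U ≤ F → IsElementaryAbelian 3 U → Nat.card U = 9 → T ≤ No (Q₀ ⊔ U) →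
  x ∈ U → x ≠ 1 → ¬ T ≤ No (Q₀ ⊔ zpowers x)

def JobNL : Prop := KK.{u} → NL.{u}

/-- `F` can be chosen of exponent 3. -/
def XP : Prop := ∀ (G : Type u) [Group G] [Finite G] (M Q T R Q₀ F : Subgroup G) (y t : G),
  Sb M Q T R Q₀ F y t → ∃ F' : Subgroup G, Sb M Q T R Q₀ F' y t ∧ ∀ f ∈ F', f ^ 3 = 1

def JobXP : Prop := KK.{u} → NL.{u} → XP.{u}

/-- The non-central case. -/
structure Nd (M Q T R Q₀ F Y V : Subgroup G) (y t : G) : Prop extends Sb M Q T R Q₀ F y t where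
  eV : V = ncl (T ⊔ F) (oZ 2 T)
  YF : Y ≤ F
  nc : ¬ IsCyclic Y
  kq1 : Kq T (T ⊓ Ce V) Y
  big : ¬ F ≤ Ce V

/-- The central case. -/
structure Cd (M Q T R Q₀ F : Subgroup G) (y t z : G) : Prop extends Sb M Q T R Q₀ F y t where
  zZ : z ∈ oZ 2 T
  z1 : z ≠ 1
  Fz : F ≤ C1 z
  gz : ∀ w ∈ oZ 2 T, w ≠ 1 → C1 w ≤ M

/-- The mixed case. -/
structure Xd (M Q T R Q₀ E : Subgroup G) (y t x : G) : Prop extends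
    Sb M Q T R Q₀ (E ⊔ zpowers x) y t where
  ea : IsElementaryAbelian 3 E
  c9 : Nat.card E = 9
  x3 : orderOf x = 3
  Ex : E ≤ C1 x
  kE : T ≤ No (Q₀ ⊔ E)
  kx : T ≤ No (Q₀ ⊔ zpowers x)
  EZ : E ≤ Ce (oZ 2 T)
  xZ : oZ 2 T ⊓ C1 x = ⊥

/-- `F = C_F(V) Y` with `Y = N_F(C_T(V))`. -/
def TY : Prop := ∀ (G : Type u) [Group G] [Finite G] (T Q₀ F V : Subgroup G), Kq T Q₀ F →
  T ⊔ F ≤ No V → Q₀ ≤ Ce V → Kq T (T ⊓ Ce V) (F ⊓ No (T ⊓ Ce V)) ∧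
    T ≤ No (Q₀ ⊔ (F ⊓ No (T ⊓ Ce V))) ∧ T ≤ No (Q₀ ⊔ (F ⊓ Ce V)) ∧
    ∀ f ∈ F, ∃ k ∈ F ⊓ Ce V, ∃ e ∈ F ⊓ No (T ⊓ Ce V), f = k * e

def JobTY : Prop := KK.{u} → TY.{u}

/-- The case of a cyclic `Y`. -/
def TZ : Prop := ∀ (G : Type u) [Group G] [Finite G] (M Q T R Q₀ F C : Subgroup G) (y t x : G),
  Sb M Q T R Q₀ F y t → C ≤ F → F ≤ No C → x ∈ F → x ∉ C → orderOf x = 3 → F = C ⊔ zpowers x →
  T ≤ No (Q₀ ⊔ C) → T ≤ No (Q₀ ⊔ zpowers x) → C ≤ Ce (oZ 2 T) → ¬ E27 C →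
  oZ 2 T ⊓ C1 x = ⊥ → ∃ E : Subgroup G, Xd M Q T R Q₀ E y t x

def JobTZ : Prop := KK.{u} → NL.{u} → TZ.{u}

def TRI : Prop := ∀ (G : Type u) [Group G] [Finite G] (M Q T R Q₀ F : Subgroup G) (y t : G),
  Sb M Q T R Q₀ F y t → (∀ f ∈ F, f ^ 3 = 1) → (∃ Y V : Subgroup G, Nd M Q T R Q₀ F Y V y t) ∨
    (∃ (F' : Subgroup G) (z : G), Cd M Q T R Q₀ F' y t z) ∨
    ∃ (E : Subgroup G) (x : G), Xd M Q T R Q₀ E y t x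

def JobTRI : Prop := L1.{u} → TY.{u} → TZ.{u} → TRI.{u}

/-! ### The non-central case -/

structure Np (M Q K F V : Subgroup G) : Prop extends Md K F V 1 where
  KM : K ≤ M
  KQ : K ≤ No Q
  QV : Q ≤ Ce V
  gd : ∀ u ∈ V, u ≠ 1 → Gd F u → C1 u ≤ M
  big : ¬ F ≤ Ce V

structure Cp (M K F U : Subgroup G) (z : G) : Prop extends Md K F U z where
  KM : K ≤ M
  z1 : z ≠ 1
  cz : C1 z ≤ M
  gd : ∀ u ∈ U, u ≠ 1 → Gd F u → C1 u ≤ M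

def TP : Prop := ∀ (G : Type u) [Group G] (M Q K F U : Subgroup G) (z g : G),
  (Np M Q K F U → Np (cj g M) (cj g Q) (cj g K) (cj g F) (cj g U)) ∧
  (Cp M K F U z → Cp (cj g M) (cj g K) (cj g F) (cj g U) (g * z * g⁻¹)) ∧
  St (cj g U) (g * z * g⁻¹) = cj g (St U z)

def HY : Prop := ∀ (G : Type u) [Group G] [Finite G] (M Q K F V I : Subgroup G), Np M Q K F V →
  (∀ u ∈ V, u ∈ I → u ≠ 1 → ¬ Gd F u) → 4 ≤ I.relIndex V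

def NE : Prop := ∀ (G : Type u) [Group G] [Finite G] (M Q K F V M' Q' K' F' V' : Subgroup G),
  Np M Q K F V → Np M' Q' K' F' V' → ¬ Q' ≤ M → ¬ Q ≤ M' → V ≤ K' → V' ≤ K → V ≤ Ce V'

def JobNE : Prop := GOFF.{u} → NE.{u}

def N1 : Prop := ∀ (G : Type u) [Group G] [Finite G] (M Q K F V M' Q' K' F' V' H : Subgroup G)
  (v : G), Np M Q K F V → Np M' Q' K' F' V' → ¬ Q' ≤ M → ¬ Q ≤ M' → H ≤ V → H.relIndex V = 2 →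
  H ≤ K' → v ∈ V → v ∉ H → V' ≤ Ce (cj v V') → ¬ cj v Q' ≤ M' → ¬ V' ≤ K

def JobN1 : Prop := GBD.{u} → GOFF.{u} → HY.{u} → N1.{u}

def N2 : Prop := ∀ (G : Type u) [Group G] [Finite G] (M Q K F V M' Q' K' F' V' H H' : Subgroup G)
  (v v' : G), Np M Q K F V → Np M' Q' K' F' V' → H ≤ V → H.relIndex V = 2 → H ≤ K' → v ∈ V →
  v ∉ H → V' ≤ Ce (cj v V') → ¬ cj v Q' ≤ M' → H' ≤ V' → H'.relIndex V' = 2 → H' ≤ K → v' ∈ V' →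
  v' ∉ H' → V ≤ Ce (cj v' V) → ¬ cj v' Q ≤ M →
  (cj v' V).relIndex V ≤ 4 ∨ (cj v V').relIndex V' ≤ 4

def JobN2 : Prop := GF2.{u} → HY.{u} → N2.{u}

def NP : Prop := ∀ (G : Type u) [Group G] [Finite G] (M Q T R Q₀ F Y V : Subgroup G) (y t : G),
  Nd M Q T R Q₀ F Y V y t → Np M Q (T ⊔ F) F V ∧ V ≤ R ∧ (∀ m ∈ M, V ≤ Ce (cj m V)) ∧
    (∀ s ∈ T ⊔ Y, s * s = 1 → s ∈ Ce V → s ∈ T) ∧
    ¬ ∀ g ∈ (T ⊔ Y) ⊔ (T ⊔ zpowers y), V ≤ cj g R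

def JobNP : Prop := KK.{u} → MD.{u} → L1.{u} → NP.{u}

def N3 : Prop := ∀ (G : Type u) [Group G] [Finite G] (M Q T R Q₀ F Y V : Subgroup G) (y t : G),
  Nd M Q T R Q₀ F Y V y t → ∀ e ∈ T ⊔ zpowers y, e ∉ M → ¬ (cj e V).relIndex V ≤ 4

def JobN3 : Prop := GOFF.{u} → HY.{u} → NP.{u} → N3.{u}

def JobNO : Prop := WK.{u} → TP.{u} → NP.{u} → NE.{u} → N1.{u} → N2.{u} → N3.{u} →
  ∀ (G : Type u) [Group G] [Finite G] (M Q T R Q₀ F Y V : Subgroup G) (y t : G),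
  ¬ Nd M Q T R Q₀ F Y V y t

/-! ### The central case -/

/-- `D = ⟨z, z^y⟩`. -/
abbrev Dz (y z : G) : Subgroup G := zpowers z ⊔ zpowers (y * z * y⁻¹)

structure Ca (M Q T R : Subgroup G) (y z : G) : Prop where
  vq : ∀ s ∈ T, s ∉ R → ⁅s, y * z * y⁻¹⁆ = z
  vR : R ≤ C1 (y * z * y⁻¹)
  ea : IsElementaryAbelian 2 (ncl (C1 z) (Dz y z))
  UQ : ncl (C1 z) (Dz y z) ≤ Q
  UR : ncl (C1 z) (Dz y z) ≤ R

def CA : Prop := ∀ (G : Type u) [Group G] [Finite G] (M Q T R Q₀ F : Subgroup G) (y t z : G),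
  Cd M Q T R Q₀ F y t z → Ca M Q T R y z

def JobCA : Prop := L1.{u} → CA.{u}

def CB : Prop := ∀ (G : Type u) [Group G] [Finite G] (M Q T R Q₀ F : Subgroup G) (y t z : G),
  Cd M Q T R Q₀ F y t z → Ca M Q T R y z → Cp M (T ⊔ F) F (ncl (T ⊔ F) (Dz y z)) z ∧
    Q ≤ St (ncl (T ⊔ F) (Dz y z)) z ∧ (T ⊔ F) ⊓ St (ncl (T ⊔ F) (Dz y z)) z ≤ T ∧
    ¬ ∀ g ∈ (T ⊔ F) ⊔ (T ⊔ zpowers y), ncl (T ⊔ F) (Dz y z) ≤ cj g R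

def JobCB : Prop := KK.{u} → MD.{u} → CB.{u}

def CEk (k : Prop → Prop → Prop) : Prop := ∀ (G : Type u) [Group G] [Finite G]
  (M K F U M' K' F' U' : Subgroup G) (z z' : G), Cp M K F U z → Cp M' K' F' U' z' →
  (∀ e ∈ M, e ∈ M' → orderOf e ≠ 3) → U ≤ K' → U' ≤ K → k (z ∈ U') (z' ∈ U) → U ≤ St U' z'

def JobC1 : Prop := GBD.{u} → GOFF.{u} → CEk.{u} fun a b => ¬ a ∧ ¬ b

def JobC2 : Prop := GBD.{u} → GOFF.{u} → GQB.{u} → CEk.{u} fun a _ => a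

def JobC3 : Prop := GBD.{u} → (CEk.{u} fun a b => ¬ a ∧ ¬ b) → (CEk.{u} fun a _ => a) →
  CEk.{u} fun _ _ => True

def JobCO : Prop := WK.{u} → TP.{u} → CA.{u} → CB.{u} → (CEk.{u} fun _ _ => True) →
  ∀ (G : Type u) [Group G] [Finite G] (M Q T R Q₀ F : Subgroup G) (y t z : G),
  ¬ Cd M Q T R Q₀ F y t z

/-! ### The mixed case -/

/-- `L = ⟨T, x, y⟩`. -/
abbrev Lx (T : Subgroup G) (x y : G) : Subgroup G := (T ⊔ zpowers x) ⊔ (T ⊔ zpowers y)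

structure Xa (M Q T : Subgroup G) (y x z : G) : Prop where
  lt : LT T (T ⊔ zpowers x) (T ⊔ zpowers y) (Lx T x y)
  ea : IsElementaryAbelian 2 (ncl (Lx T x y) (zpowers z))
  nt : ncl (Lx T x y) (zpowers z) ≠ ⊥
  WD : ncl (Lx T x y) (zpowers z) ≤ O2 (Lx T x y)
  DW : O2 (Lx T x y) ≤ Ce (ncl (Lx T x y) (zpowers z))
  fr : Fr T (Lx T x y) (ncl (Lx T x y) (zpowers z)) ⊥
  fg : ∃ q ∈ Q, ∃ w ∈ ncl (Lx T x y) (zpowers z), ⁅q, w⁆ ≠ 1 ∧ C1 ⁅q, w⁆ ≤ cj y M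

def XA : Prop := ∀ (G : Type u) [Group G] [Finite G] (M Q T R Q₀ E : Subgroup G) (y t x : G),
  Xd M Q T R Q₀ E y t x → ∃ z : G, Xa M Q T y x z

def JobXA : Prop := KK.{u} → JobFree.{u} → XA.{u}

/-- The Steinberg module `W` of `L / D`. -/
structure Xs (L D W : Subgroup G) : Prop where
  ea : IsElementaryAbelian 2 W
  LW : L ≤ No W
  WD : W ≤ D
  DW : D ≤ Ce W
  fa : ∀ w ∈ L, w * w = 1 → w ∉ D → 16 ≤ (C1 w).relIndex W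
  fb : ∀ A : Subgroup G, A ≤ L → IsElementaryAbelian 2 A → D.relIndex A ∣ 4
  fc : ∀ A : Subgroup G, A ≤ L → IsElementaryAbelian 2 A → D.relIndex A = 4 →
    64 ≤ (Ce A).relIndex W

def XS : Prop := ∀ (G : Type u) [Group G] [Finite G] (T P R L W : Subgroup G), IsSyl 2 T ⊤ →
  LT T P R L → IsElementaryAbelian 2 W → L ≤ No W → W ≤ O2 L → O2 L ≤ Ce W → Fr T L W ⊥ →
  Xs L (O2 L) W

structure Xk (K L D Q₁ W : Subgroup G) : Prop where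
  QL : Q₁ ≤ L
  KQ : K ≤ No Q₁
  fd : ∀ p ∈ K, ∀ A : Subgroup G, A ≤ cj p D → IsElementaryAbelian 2 A → Q₁.relIndex A ≤ 4
  core : ¬ ∀ g ∈ L ⊔ K, W ≤ cj g Q₁

def XK : Prop := ∀ (G : Type u) [Group G] [Finite G] (M Q T R Q₀ E : Subgroup G) (y t x z : G),
  Xd M Q T R Q₀ E y t x → Xa M Q T y x z → Xk (T ⊔ (E ⊔ zpowers x)) (Lx T x y) (O2 (Lx T x y))
    (O2 (T ⊔ (E ⊔ zpowers x))) (ncl (Lx T x y) (zpowers z))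

def JobXK : Prop := KK.{u} → XK.{u}

/-- An involution of `D` outside `Q₁` moves a plane far enough. -/
def Mf (K D Q₁ W : Subgroup G) : Prop := ∀ w ∈ D, w * w = 1 → w ∉ Q₁ →
  ∃ e ∈ K, ¬ (cj (e⁻¹ * w * e) W).relIndex W ≤ 4

def XM : Prop := ∀ (G : Type u) [Group G] [Finite G] (M Q T R Q₀ E : Subgroup G) (y t x z : G),
  Xd M Q T R Q₀ E y t x → Xa M Q T y x z → Mf (T ⊔ (E ⊔ zpowers x)) (O2 (Lx T x y))
    (O2 (T ⊔ (E ⊔ zpowers x))) (ncl (Lx T x y) (zpowers z))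

def JobXM : Prop := KK.{u} → XM.{u}

def JobXO : Prop := WK.{u} → ∀ (G : Type u) [Group G] [Finite G] (K L D Q₁ W : Subgroup G),
  Xs L D W → Xk K L D Q₁ W → ¬ Mf K D Q₁ W

theorem u2f_of (eq : EQ.{u}) (ex : EX.{u}) (el : EL.{u}) (lx : LX.{u}) (fr : JobFree.{u})
    (dh : DH.{u}) (pr : PR.{u}) (cn : CN.{u}) (m1 : JobM1.{u}) (ta : TA.{u}) (l3 : L3.{u})
    (q1 : JobQ1.{u}) (q2 : JobQ2.{u}) (br : BR.{u}) (tg : JobTG.{u}) (g1 : JobG1.{u})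
    (g2 : JobG2.{u}) (kk : KK.{u}) (md : JobMD.{u}) (wk : WK.{u}) (ct : JobCT.{u}) (l1 : L1.{u})
    (nl : JobNL.{u}) (xp : JobXP.{u}) (ty : JobTY.{u}) (tz : JobTZ.{u}) (tri : JobTRI.{u}) (tp : TP.{u}) (hy : HY.{u})
    (ne : JobNE.{u}) (n1 : JobN1.{u}) (n2 : JobN2.{u}) (np : JobNP.{u}) (n3 : JobN3.{u})
    (no : JobNO.{u}) (ca : JobCA.{u}) (cb : JobCB.{u}) (c1 : JobC1.{u}) (c2 : JobC2.{u})
    (c3 : JobC3.{u}) (co : JobCO.{u}) (xa : JobXA.{u}) (xs : XS.{u}) (xk : JobXK.{u})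
    (xm : JobXM.{u}) (xo : JobXO.{u}) : U2F.{u} := by
  intro G _ _ M Q T R y t hu ha
  obtain ⟨bd, off, f2⟩ := m1 dh pr cn
  obtain ⟨gbd, goff, gf2⟩ := g1 bd off f2 br (tg ta)
  have gqb := g2 (q2 dh pr cn (q1 dh pr ta l3)) br (tg ta)
  obtain ⟨Q₀, F₀, h1, h2, h3, h4⟩ := ex G M Q T R y t hu ha
  obtain ⟨F, sb, h5⟩ := xp kk (nl kk) G M Q T R Q₀ F₀ y t
    ⟨ct eq el lx G M Q T R y t hu ha, h1, h2, h3, h4⟩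
  have np' := np kk (md kk) l1
  rcases tri l1 (ty kk) (tz kk (nl kk)) G M Q T R Q₀ F y t sb h5 with
    ⟨Y, V, h⟩ | ⟨F', z, h⟩ | ⟨E, x, h⟩
  · exact no wk tp np' (ne goff) (n1 gbd goff hy) (n2 gf2 hy) (n3 goff hy np') G M Q T R Q₀ F Y V
      y t h
  · exact co wk tp (ca l1) (cb kk (md kk)) (c3 gbd (c1 gbd goff) (c2 gbd goff gqb)) G M Q T R Q₀
      F' y t z h
  · obtain ⟨z, a⟩ := xa kk fr G M Q T R Q₀ E y t x h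
    exact xo wk G _ _ _ _ _ (xs G T _ _ _ _ h.syl a.lt a.ea (le_normalizer_ncl _ _) a.WD a.DW a.fr)
      (xk kk G M Q T R Q₀ E y t x z h a) (xm kk G M Q T R Q₀ E y t x z h a)

end H57.U2C
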