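import Cfsg.Agent.H85.L3Spec

/-! L33-CT: the amalgam of `SL₃(3)` and `Sp₄(3)` generates an image of `Sp₆(3)`. -/

set_option autoImplicit false

namespace H57.L3CT

open Subgroup Matrix H85.L33
open scoped MatrixGroups

universe u

theorem bk_ext {I I' F : Type*} [Fintype I] [DecidableEq I] [Fintype I'] [DecidableEq I'] [Field F]
    (e : I ↪ I') {A : Matrix I I F} {M : Matrix I' I' F} (h1 : ∀ i k, M (e i) (e k) = A i k)
    (h2 : ∀ a b, (M - 1) a b ≠ 0 → a ∈ Set.range e ∧ b ∈ Set.range e) : M = bk e A := by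
  ext a b
  by_cases ha : a ∈ Set.range e
  · by_cases hb : b ∈ Set.range e
    · obtain ⟨i, rfl⟩ := ha
      obtain ⟨k, rfl⟩ := hb
      rw [h1, bk_apply]
    · rw [bk_apply_right e A a fun i h => hb ⟨i, h.symm⟩]
      by_contra hc
      exact hb (h2 a b (sub_ne_zero.2 hc)).2
  · rw [bk_apply_left e A fun i h => ha ⟨i, h.symm⟩]
    by_contra hc
    exact ha (h2 a b (sub_ne_zero.2 hc)).1

theorem graph {G Y : Type*} [Group G] [Group Y] (H : Subgroup (G × Y))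
    (h1 : ∀ g ∈ H, MonoidHom.snd G Y g = 1 → g = 1) (h2 : H.map (MonoidHom.snd G Y) = ⊤) :
    ∃ Θ : Y →* G, Θ.range = H.map (MonoidHom.fst G Y) := by
  let f : H →* Y := (MonoidHom.snd G Y).comp H.subtype
  have hf : Function.Bijective f := by
    refine ⟨(injective_iff_map_eq_one f).2 fun a ha => Subtype.ext (h1 a a.2 ha), fun y => ?_⟩
    obtain ⟨g, hg, rfl⟩ := h2.ge (mem_top y)
    exact ⟨⟨g, hg⟩, rfl⟩
  let e := MulEquiv.ofBijective f hf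
  refine ⟨((MonoidHom.fst G Y).comp H.subtype).comp e.symm.toMonoidHom, le_antisymm ?_ ?_⟩
  · rintro _ ⟨y, rfl⟩
    exact ⟨_, (e.symm y).2, rfl⟩
  · rintro _ ⟨g, hg, rfl⟩
    exact ⟨e ⟨g, hg⟩, by simp⟩

theorem lev_coe (m : ℕ) (g : SL(m, F3)) :
    ((lvSp F3 m).lev g).1 = fromBlocks g.1 0 0 (g⁻¹).1ᵀ := by
  ext (k | k) (l | l)
  · exact (lvSp F3 m).uu g k l
  · exact (lvSp F3 m).ud g k l
  · exact (lvSp F3 m).du g k l
  · exact (lvSp F3 m).dd g k l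

theorem mu_coe {m : ℕ} {k : Fin m} {μ : SL(2, F3) →* Sp m} (h : IsMu (lgSp F3 m) k μ)
    (g : SL(2, F3)) :
    (μ g).1 = bk (pairE (Sum.inl_ne_inr : (Sum.inl k : Fin m ⊕ Fin m) ≠ Sum.inr k)) g.1 := by
  have key : ∀ a : Fin m ⊕ Fin m, (H54.cdSp F3 m).wt a ∈ pm {k} →
      a ∈ Set.range (pairE (Sum.inl_ne_inr : (Sum.inl k : Fin m ⊕ Fin m) ≠ Sum.inr k)) := by
    rintro (l | l) hl
    · rw [show (H54.cdSp F3 m).wt (.inl l) = _ from (lvSp F3 m).wt_up l, single_mem_pm] at hl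
      exact ⟨0, by rw [hl]; rfl⟩
    · rw [show (H54.cdSp F3 m).wt (.inr l) = _ from (lvSp F3 m).wt_dn l, neg_mem_pm,
        single_mem_pm] at hl
      exact ⟨1, by rw [hl]; rfl⟩
  refine bk_ext _ (fun i j => ?_) fun a b hab => ⟨key a (h.on g a b hab).1, key b (h.on g a b hab).2⟩
  fin_cases i <;> fin_cases j
  · exact h.at_.e00 g
  · exact (h.at_.e01 g).trans (one_mul _)
  · exact (h.at_.e10 g).trans (by simp [lgSp])
  · exact h.at_.e11 g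

theorem lv_lev (g : SL(2, F3)) : Lv g ((lvSp F3 2).lev g) := lev_coe 2 g

theorem mu_mu {μ : SL(2, F3) →* Sp 2} (h : IsMu (lgSp F3 2) 1 μ) (g : SL(2, F3)) : Mu g (μ g) := by
  rw [Mu, mu_coe h]
  ext (k | k) (l | l) <;> fin_cases k <;> fin_cases l <;>
    simp [bk, mul_apply, one_apply]

/-- The indices `1, 2`. -/
def E : Fin 2 ⊕ Fin 2 ↪ Fin 3 ⊕ Fin 3 := (pairE (pen_ne 1)).sumMap (pairE (pen_ne 1))

theorem E0 : E (.inl 0) = .inl 1 := rfl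
theorem E1 : E (.inl 1) = .inl 2 := rfl
theorem E2 : E (.inr 0) = .inr 1 := rfl
theorem E3 : E (.inr 1) = .inr 2 := rfl
theorem pen1 : (Fin.last 1).castSucc = 1 := rfl

theorem lev_bk (g : SL(2, F3)) : ((lvSp F3 3).lev (b12 g)).1 = bk E ((lvSp F3 2).lev g).1 := by
  rw [lev_coe, lev_coe, ← map_inv, b12, bkSL_coe, bkSL_coe]
  generalize (g⁻¹).1 = B
  generalize g.1 = A
  ext (k | k) (l | l) <;> fin_cases k <;> fin_cases l <;>
    simp [bk, mul_apply, one_apply, E0, E1, E2, E3, pen1]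

theorem mu_bk {μ : SL(2, F3) →* Sp 2} (h : IsMu (lgSp F3 2) 1 μ) {ν : SL(2, F3) →* Sp 3}
    (h' : IsMu (lgSp F3 3) 2 ν) (g : SL(2, F3)) : (ν g).1 = bk E (μ g).1 := by
  rw [mu_coe h, mu_coe h']
  generalize g.1 = A
  ext (k | k) (l | l) <;> fin_cases k <;> fin_cases l <;>
    simp [bk, mul_apply, one_apply, E0, E1, E2, E3, pen1]

/-- The graph of `θ` over the block `Sp₄ ≤ Sp₆`. -/
def Gr {G : Type*} [Group G] (θ : Sp 2 →* G) : Subgroup (G × Sp 3) where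
  carrier := {p | ∃ y, p.1 = θ y ∧ p.2.1 = bk E y.1}
  one_mem' := ⟨1, by simp, (bk_one E).symm⟩
  mul_mem' := by
    rintro a b ⟨y, h1, h2⟩ ⟨y', h1', h2'⟩
    exact ⟨y * y', by simp [h1, h1'], by simp [h2, h2', bk_mul]⟩
  inv_mem' := by
    rintro a ⟨y, h1, h2⟩
    refine ⟨y⁻¹, by simp [h1], ?_⟩
    have e1 : (a⁻¹.2).1 * a.2.1 = 1 := by
      rw [← Submonoid.coe_mul]; simp
    have e2 : a.2.1 * bk E (y⁻¹).1 = 1 := by
      rw [h2, ← bk_mul, ← Submonoid.coe_mul]; simp [bk_one]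
    rw [← mul_one (a⁻¹.2).1, ← e2, ← mul_assoc, e1, one_mul]

theorem jobCT : JobCT.{u} := by
  intro G _ _ Λ θ hl hm
  obtain ⟨μ, hμ⟩ := (lgSp F3 2).exists_mu (Fin.last _)
  obtain ⟨ν, hν⟩ := (lgSp F3 3).exists_mu (Fin.last _)
  have g2 := gen_top (n := 0) hμ fun _ _ => ⟨_, rfl⟩
  have g3 := gen_top (n := 1) hν fun _ _ => ⟨_, rfl⟩
  have inj := full_inj (n := 1) hν (f := MonoidHom.snd G (Sp 3)) (Λ := Λ.prod (lvSp F3 3).lev)
    (β := (θ.comp μ).prod ν) (fun _ => rfl) (fun _ => rfl) (fun _ _ _ _ _ g hg e => ?_)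
    fun g y => ?_
  · obtain ⟨Θ, hΘ⟩ := graph _ inj (by
      rw [Subgroup.map_sup, ← MonoidHom.range_comp, ← MonoidHom.range_comp]; exact g3)
    refine ⟨Θ, hΘ.trans ?_⟩
    rw [Subgroup.map_sup, ← MonoidHom.range_comp, ← MonoidHom.range_comp]
    refine le_antisymm (sup_le_sup le_rfl ?_) (sup_le le_sup_left ?_)
    · rintro _ ⟨y, rfl⟩
      exact ⟨_, rfl⟩
    · rw [MonoidHom.range_eq_map θ, ← g2, Subgroup.map_sup]
      refine sup_le_sup ?_ ?_ <;> rintro _ ⟨_, ⟨y, rfl⟩, rfl⟩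
      exacts [⟨b12 y, (hl _ _ (lv_lev y)).symm⟩, ⟨y, rfl⟩]
  · obtain ⟨y, h1, h2⟩ : g ∈ Gr θ := by
      refine (sup_le ?_ ?_ : _ ≤ Gr θ) hg <;> rintro _ ⟨y, rfl⟩
      exacts [⟨_, (hl _ _ (lv_lev y)).symm, lev_bk y⟩, ⟨μ y, rfl, mu_bk hμ hν y⟩]
    have e' : g.2 = 1 := e
    obtain rfl : y = 1 := Subtype.ext (by
      ext i j
      rw [← bk_apply E y.1 i j, ← h2, e']
      simp [one_apply])
    exact Prod.ext (by simp [h1]) e'
  · exact Prod.ext (hm g y _ (mu_mu hμ y)).eq (far_comm (n := 1) hν g y).eq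

end H57.L3CT
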