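import Cfsg.Agent.H57.L3CT

/-! L33-E2: the conjugate of `J` inside `Sp₄(3)` is a long root subgroup. -/

set_option autoImplicit false

namespace H57.L3CT

open Subgroup Matrix H85.L33 H98 H1.Gold
open scoped MatrixGroups commutatorElement

universe u

theorem sq_one : ∀ h : SL(2, F3), h * h = 1 → h = 1 ∨ h = -1 := by decide +kernel
theorem cen_sq : ∀ h : SL(2, F3), (∀ k, h * k = k * h) → h * h = 1 := by decide +kernel

/-- The cyclic permutation matrix. -/
def P : SL(3, F3) := ⟨!![0, 1, 0; 0, 0, 1; 1, 0, 0], by decide⟩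

theorem P_b : ∀ g, P * b12 g * P⁻¹ = b01 g := by decide +kernel
theorem P_z : b12 (-1) * (P⁻¹ * b12 (-1) * P) = P⁻¹ * b12 (-1) * P * b12 (-1) := by decide +kernel
theorem b_ne : b12 (-1) ≠ b01 (-1) := by decide +kernel

theorem lev_neg : ((lvSp F3 2).lev (-1)).1 = -1 := by rw [lev_coe]; decide +kernel

section mu

variable {μ ν : SL(2, F3) →* Sp 2} (h0 : IsMu (lgSp F3 2) 0 μ) (h1 : IsMu (lgSp F3 2) 1 ν)
include h0 h1

theorem mu_comm (a b : SL(2, F3)) : Commute (μ a) (ν b) :=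
  (h0.on a).commute (h1.on b) (pm_disj (by simp))

theorem mu_ne : μ (-1) ≠ ν (-1) := fun e => by
  have := congrArg Subtype.val e
  rw [mu_coe h0, mu_coe h1] at this
  exact absurd this (by decide +kernel)

theorem mu_inj : Function.Injective μ := fun a b e => by
  have := congrArg Subtype.val e
  rw [mu_coe h0, mu_coe h0] at this
  ext i j
  exact (bk_apply _ a.1 i j).symm.trans ((congrFun (congrFun this _) _).trans (bk_apply _ b.1 i j))

theorem cent {y : Sp 2} (hy : y * ν (-1) = ν (-1) * y) : ∃ a b, y = ν a * μ b := by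
  have e := congrArg Subtype.val hy
  rw [Submonoid.coe_mul, Submonoid.coe_mul, mu_coe h1, show bk _ (-1 : SL(2, F3)).1 =
    diagonal (Sum.elim ![1, -1] ![1, -1]) by decide +kernel] at e
  have two : ∀ c : F3, (c = -c → c = 0) ∧ (-c = c → c = 0) := by decide
  have z := fun i j => congrFun (congrFun e i) j
  simp only [mul_diagonal, diagonal_mul] at z
  have a1 := (two _).2 (by simpa using z (.inl 0) (.inl 1))
  have a2 := (two _).2 (by simpa using z (.inl 0) (.inr 1))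
  have a3 := (two _).2 (by simpa using z (.inr 0) (.inl 1))
  have a4 := (two _).2 (by simpa using z (.inr 0) (.inr 1))
  have b1 := (two _).1 (by simpa using z (.inl 1) (.inl 0))
  have b2 := (two _).1 (by simpa using z (.inl 1) (.inr 0))
  have b3 := (two _).1 (by simpa using z (.inr 1) (.inl 0))
  have b4 := (two _).1 (by simpa using z (.inr 1) (.inr 0))
  have s := SymplecticGroup.mem_iff.1 y.2
  have s0 := congrFun (congrFun s (.inl 0)) (.inr 0)
  have s1 := congrFun (congrFun s (.inl 1)) (.inr 1)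
  simp [mul_apply, J, one_apply, a1, a2, a3, a4, b1, b2, b3, b4] at s0 s1
  refine ⟨⟨!![y.1 (.inl 1) (.inl 1), y.1 (.inl 1) (.inr 1); y.1 (.inr 1) (.inl 1),
    y.1 (.inr 1) (.inr 1)], by rw [det_fin_two_of]; linear_combination -s1⟩,
    ⟨!![y.1 (.inl 0) (.inl 0), y.1 (.inl 0) (.inr 0); y.1 (.inr 0) (.inl 0),
    y.1 (.inr 0) (.inr 0)], by rw [det_fin_two_of]; linear_combination -s0⟩, Subtype.ext ?_⟩
  refine Eq.trans ?_ (congrArg₂ (· * ·) (mu_coe h1 _) (mu_coe h0 _)).symm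
  ext (k | k) (l | l) <;> fin_cases k <;> fin_cases l <;>
    simp [bk, mul_apply, one_apply, a1, a2, a3, a4, b1, b2, b3, b4]

end mu

theorem mu_eq {ν : SL(2, F3) →* Sp 2} (h1 : IsMu (lgSp F3 2) 1 ν) {h : SL(2, F3)} {y : Sp 2}
    (e : Mu h y) : y = ν h := Subtype.ext (e.trans (mu_mu h1 h).symm)

variable {G : Type u} [Group G] [Finite G]

theorem comm_of {J K : Subgroup G} (h1 : J ≤ nor K) (h2 : K ≤ nor J)
    (o3 : ∀ W ≤ J, J ≤ nor W → Odd (Nat.card W) → W = ⊥)
    (h : ∀ r ∈ J, r ∈ K → r * r = 1 → r = 1) : ∀ a ∈ J, ∀ b ∈ K, a * b = b * a := by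
  have e := o3 (J ⊓ K) inf_le_left (le_normalizer_inf le_normalizer h1) (by
    refine Nat.not_even_iff_odd.1 fun hd => ?_
    obtain ⟨r, hr⟩ := exists_prime_orderOf_dvd_card' 2 hd.two_dvd
    have := h r r.2.1 r.2.2 (by rw [← sq, ← coe_pow, ← hr, pow_orderOf_eq_one, coe_one])
    rw [show r = 1 from Subtype.ext this, orderOf_one] at hr
    exact absurd hr (by decide))
  intro a ha b hb
  have : a * b * a⁻¹ * b⁻¹ ∈ J ⊓ K :=
    mem_inf.2 ⟨by
      simpa only [mul_assoc] using mul_mem ha (conj_mem_of_mem_normalizer (h2 hb) (inv_mem ha)),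
      mul_mem (conj_mem_of_mem_normalizer (h1 ha) hb) (inv_mem hb)⟩
  rw [e, mem_bot, mul_inv_eq_one, mul_inv_eq_iff_eq_mul] at this
  exact this

theorem o3_cj {J : Subgroup G} (p : G) (o3 : ∀ W ≤ J, J ≤ nor W → Odd (Nat.card W) → W = ⊥) :
    ∀ W ≤ H98.cj p J, H98.cj p J ≤ nor W → Odd (Nat.card W) → W = ⊥ := fun W h1 h2 h3 =>
  cj_eq_bot_iff.1 (o3 (H98.cj p⁻¹ W) (le_cj_iff.1 h1) (by
    rw [nor, ← cj_normalizer]; exact cj_le_iff.1 h2) (by rwa [card_cj]))

theorem pow8 {J : Subgroup G} (c : Nat.card J = 24)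
    (o3 : ∀ W ≤ J, J ≤ nor W → Odd (Nat.card W) → W = ⊥) {j : G} (hj : j ∈ J)
    (h : ∀ a ∈ J, a * j = j * a) : j ^ 8 = 1 := by
  have e : (j ^ 8) ^ 3 = 1 := by
    have := pow_card_eq_one' (x := (⟨j, hj⟩ : J))
    rw [c] at this
    rw [← pow_mul]
    exact congrArg Subtype.val this
  refine zpowers_eq_bot.1 (o3 _ (zpowers_le.2 (pow_mem hj 8)) (le_normalizer_of_le_centralizer
    (le_centralizer_iff.1 (zpowers_le.2 (pow_mem (mem_centralizer_iff.2 h) 8)))) ?_)
  rw [Nat.card_zpowers]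
  exact Odd.of_dvd_nat (by decide) (orderOf_dvd_of_pow_eq_one e)

theorem jobE2 : JobE2.{u} := by
  intro G _ _ X A t z θ J Λ st m e
  obtain ⟨μ, h0⟩ := (lgSp F3 2).exists_mu 0
  obtain ⟨ν, h1⟩ := (lgSp F3 2).exists_mu 1
  have ez : θ ((lvSp F3 2).lev (-1)) = z := m.neg _ lev_neg
  have ez' : z = Λ (b12 (-1)) := ez.symm.trans (e.lv _ _ (lv_lev _))
  have ev : θ (ν (-1)) = Λ P * z * (Λ P)⁻¹ := by
    rw [e.mu _ (mu_mu h1 _), ez', ← map_inv, ← map_mul, ← map_mul, P_b]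
  have zv : z ≠ θ (ν (-1)) := by
    rw [e.mu _ (mu_mu h1 _), ez']
    exact fun h => b_ne (e.inj h)
  have pA : Λ P ∈ A := e.rg.le ⟨_, rfl⟩
  have pX := st.AX pA
  set p := Λ P with hp
  have JM : ∀ j ∈ J, ∀ y, θ y * j = j * θ y := fun j hj y => m.JM hj _ ⟨y, rfl⟩
  have nJ : X ⊓ cen1 z ≤ nor J := m.cz ▸ sup_le le_normalizer
    (le_normalizer_of_le_centralizer (le_centralizer_iff.1 m.JM))
  have nJ' : ∀ r ∈ X, r * θ (ν (-1)) = θ (ν (-1)) * r → r ∈ nor (H98.cj p J) := fun r hr h => by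
    rw [nor, ← cj_normalizer, mem_cj]
    refine nJ (mem_inf.2 ⟨mul_mem (mul_mem (inv_mem pX) hr) pX, mem_centralizer_singleton_iff.2 ?_⟩)
    rw [ev] at h
    calc _ = p⁻¹ * (r * (p * z * p⁻¹)) * p := by group
      _ = _ := by rw [h]; group
  have J'M : ∀ r ∈ H98.cj p J, ∀ y, r * (p * θ y * p⁻¹) = p * θ y * p⁻¹ * r := fun r hr y => by
    calc _ = p * (p⁻¹ * r * p * θ y) * p⁻¹ := by group
      _ = _ := by rw [← JM _ (mem_cj.1 hr)]; group
  have J'z : H98.cj p J ≤ X ⊓ cen1 z := fun r hr => by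
    refine ⟨cj_le_of_le_of_mem m.JX pX hr, mem_centralizer_singleton_iff.2 ?_⟩
    obtain ⟨y, hy⟩ := m.AM (x := Λ (P⁻¹ * b12 (-1) * P)) ⟨e.rg.le ⟨_, rfl⟩,
      mem_centralizer_singleton_iff.2 (by rw [ez', ← map_mul, ← map_mul, P_z])⟩
    have := J'M r hr y
    rw [hy, map_mul, map_mul, map_inv, ← ez', ← hp] at this
    simpa [mul_assoc] using this
  have dec : ∀ r ∈ H98.cj p J, ∃ j ∈ J, ∃ a b, r = j * θ (ν a) * θ (μ b) := fun r hr => by
    obtain ⟨j, hj, _, ⟨y, rfl⟩, rfl⟩ := (mem_sup_right_norm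
      (le_normalizer_of_le_centralizer (le_centralizer_iff.1 m.JM))).1 (m.cz.le (J'z hr))
    have := J'M _ hr ((lvSp F3 2).lev (-1))
    rw [ez, ← ev, ← mul_assoc, JM j hj, mul_assoc, mul_assoc, mul_right_inj, ← map_mul,
      ← map_mul] at this
    obtain ⟨a, b, rfl⟩ := cent h0 h1 (m.inj this)
    exact ⟨j, hj, a, b, by rw [map_mul, mul_assoc]⟩
  have u2' : ∀ r ∈ H98.cj p J, r * r = 1 → r = 1 ∨ r = θ (ν (-1)) := fun r hr h => by
    refine (m.u2 _ (mem_cj.1 hr) (by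
      calc _ = p⁻¹ * (r * r) * p := by group
        _ = 1 := by rw [h]; group)).imp (fun k => ?_) fun k => by rw [ev, ← k]; group
    calc r = p * (p⁻¹ * r * p) * p⁻¹ := by group
      _ = 1 := by rw [k]; group
  have cm : ∀ a b, Commute (θ (μ a)) (θ (ν b)) := fun a b => (mu_comm h0 h1 a b).map θ
  have c1 := comm_of (J := J) (K := H98.cj p J) (fun j hj => nJ' j (m.JX hj) (JM j hj _).symm)
    (J'z.trans nJ) m.o3 fun r a b h => (m.u2 r a h).elim id fun k =>
      (u2' r b h).elim id fun k' => absurd (k.symm.trans k') zv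
  have c2 := comm_of (J := H98.cj p J) (K := (θ.comp μ).range) (fun r hr => by
      obtain ⟨j, hj, a, b, rfl⟩ := dec r hr
      refine mul_mem (mul_mem (centralizer_le_normalizer _ ?_) (centralizer_le_normalizer _ ?_))
        (le_normalizer ⟨b, rfl⟩) <;> rintro _ ⟨c, rfl⟩
      exacts [JM j hj _, cm c a])
    (by rintro _ ⟨b, rfl⟩; exact nJ' _ (m.MX ⟨_, rfl⟩) (cm b _)) (o3_cj p m.o3) (by
      rintro _ hr ⟨b, rfl⟩ h
      rcases sq_one b (mu_inj h0 h1 (m.inj (by simpa using h))) with rfl | rfl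
      · exact map_one _
      · exact (u2' _ hr h).elim id fun k => absurd (m.inj k) (mu_ne h0 h1))
  have le : H98.cj p J ≤ (θ.comp ν).range := by
    rw [cj_le_iff]
    refine m.J3.trans ((closure_le _).2 fun r ⟨hr, r3⟩ => ?_)
    have hr' := conj_mem_cj (g := p) hr
    obtain ⟨j, hj, a, b, k⟩ := dec _ hr'
    have j8 := pow8 m.cJ m.o3 hj fun c hc => by
      have := c1 c hc _ hr'
      rw [k, mul_assoc j, ← map_mul, mul_assoc j, JM c hc, ← mul_assoc, ← mul_assoc,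
        mul_left_inj] at this
      exact this
    have b2 := cen_sq b fun c => mu_inj h0 h1 (m.inj (by
      have := c2 _ hr' _ ⟨c, rfl⟩
      rw [k, MonoidHom.comp_apply, ← mul_assoc, ← mul_assoc, JM j hj, mul_assoc j (θ (μ c)), cm c a,
        ← mul_assoc j, mul_assoc, mul_assoc (j * _), mul_right_inj] at this
      simpa using this))
    have : p * r * p⁻¹ = θ (ν (a ^ 16)) := by
      calc _ = (p * r * p⁻¹) ^ 16 := by
            rw [conj_pow, show 16 = 3 * 5 + 1 from rfl, pow_succ, pow_mul, r3]; simp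
        _ = _ := by
            rw [k, Commute.mul_pow (Commute.mul_left (JM j hj _).symm (cm b a).symm),
              Commute.mul_pow (JM j hj _).symm, ← map_pow, ← map_pow, ← map_pow, ← map_pow,
              show j ^ 16 = (j ^ 8) ^ 2 by group, show b ^ 16 = (b * b) ^ 8 by rw [← sq, ← pow_mul], j8, b2]
            simp
    exact mem_cj.2 ⟨a ^ 16, by simpa using this.symm⟩
  have eq := eq_of_le_of_card_ge le (by
    rw [card_cj, m.cJ, ← H7.GW.card_sl23]
    exact Nat.card_le_card_of_surjective _ (θ.comp ν).rangeRestrict_surjective)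
  refine ⟨fun g h y hy => ?_, fun j hj => ?_⟩
  · have := J'M _ (eq.ge ⟨h, rfl⟩) ((lvSp F3 2).lev g)
    rw [e.lv _ _ (lv_lev g), hp, ← map_inv, ← map_mul, ← map_mul, P_b] at this
    rw [mu_eq h1 hy]
    exact this.symm
  · obtain ⟨a, ha⟩ := le (conj_mem_cj (g := p) hj)
    rw [show j = p⁻¹ * θ (ν a) * p by rw [← MonoidHom.comp_apply, ha]; group]
    exact mul_mem (mul_mem (mem_sup_left (inv_mem pA)) (mem_sup_right ⟨_, rfl⟩)) (mem_sup_left pA)

end H57.L3CT
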