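import Cfsg.Agent.H57.S3A0

/-! S3 (`blueprints/S3.md`), `JobKT` and `JobR5`. -/

set_option autoImplicit false
set_option linter.unusedSectionVars false

namespace H57.S3A

open Subgroup Cfsg H98 H1.Gold H85.FZ H49.D8 H85.S3

universe u

variable {G : Type u} [Group G] [Finite G] {t v s z j σ n x y e c u a w : G} {A K T Q E U : Subgroup G}

theorem two_of_elem (h2 : ∀ e ∈ E, e * e = 1) : IsPGroup 2 E :=
  isPGroup_iff_forall.2 fun x hx => ⟨1, by rw [pow_one, pow_two, h2 x hx]⟩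

theorem comm_of_elem (h2 : ∀ e ∈ E, e * e = 1) (hx : x ∈ E) (hy : y ∈ E) : x * y = y * x := by
  rw [← inv_eq_of_mul_eq_one_right (h2 _ (mul_mem hx hy)), mul_inv_rev,
    inv_eq_of_mul_eq_one_right (h2 _ hx), inv_eq_of_mul_eq_one_right (h2 _ hy)]

section SA

variable (h : SA t v s z j σ n)
include h

theorem sa_cj (g : G) : SA (g * t * g⁻¹) (g * v * g⁻¹) (g * s * g⁻¹) (g * z * g⁻¹) (g * j * g⁻¹)
    (g * σ * g⁻¹) (g * n * g⁻¹) := by
  have e : cl [g * v * g⁻¹, g * s * g⁻¹, g * j * g⁻¹, g * t * g⁻¹] = cj g (cl [v, s, j, t]) :=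
    (cj_cl g [v, s, j, t]).symm
  refine ⟨h.toSD.cj g, by rw [conj_mul, h.tt]; group, by rw [conj_mul, conj_mul, h.vt],
    by rw [conj_mul, conj_mul, h.st], by rw [conj_mul, conj_mul, h.jt],
    by rw [conj_mul, conj_mul, h.σt], fun k => h.tS ?_, ?_, h.tri.cj g, ?_, ?_⟩
  · rw [show cl [g * v * g⁻¹, g * s * g⁻¹, g * j * g⁻¹] = cj g (cl [v, s, j]) from (cj_cl g [v, s, j]).symm,
      mem_cj] at k
    simpa [mul_assoc] using k
  · rw [e, cen1, ← H14.cj_centralizer_singleton]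
    exact h.syl.cj g
  · rw [e, nor, ← cj_normalizer]
    exact conj_mem_cj h.nT
  · rw [conj_mul (a := t), ← h.nt]; group

theorem red (hx : IsConj t x) (hQ : IsPGroup 2 Q) (hc : Q ≤ cen1 x) :
    ∃ v s z j σ n, SA x v s z j σ n ∧ Q ≤ cl [v, s, j, x] := by
  obtain ⟨g, rfl⟩ := isConj_iff.1 hx
  obtain ⟨d, d1, d2⟩ := (sa_cj h g).syl.exists_le_cj hQ hc
  have k := sa_cj (sa_cj h g) d
  rw [cj_cl] at d2
  simp only [List.map] at d2
  rw [mc1.1 d1, mul_inv_cancel_right] at k d2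
  exact ⟨_, _, _, _, _, _, k, d2⟩

theorem card32 : Nat.card (cl [v, s, j, t]) ≤ 32 := by
  have := Nat.le_of_dvd (by norm_num) ((pres5 h).card_dvd rfl (k := 5) le_rfl)
  rw [H_val] at this
  exact (card_le_of_le (cl_mono (by simp))).trans this

theorem card16 : Nat.card (cl [z, v, s, t]) ≤ 16 := by
  have P : Pres (.of 4 [(2, 1, [1, 0])]) (val [z, v, s, t]) := (pres5 h).derive' _ [(3, [4])]
    (fun i hi => by change i < 4 at hi; interval_cases i <;> wsimp) rfl (by decide +kernel)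
  have := Nat.le_of_dvd (by norm_num) (P.card_dvd rfl (k := 4) le_rfl)
  rwa [H_val] at this

theorem cardA' : Nat.card (cl [z, s, t]) ≤ 8 := by
  have P : Pres (.of 3 []) (val [z, s, t]) := (pres5 h).derive' _ [(1, [2]), (2, [4])]
    (fun i hi => by change i < 3 at hi; interval_cases i <;> wsimp) rfl (by decide +kernel)
  have := Nat.le_of_dvd (by norm_num) (P.card_dvd rfl (k := 3) le_rfl)
  rwa [H_val] at this

omit h in
theorem W_in {l l' : List G} {S w : List ℕ} (k : w.all (· ∈ S) = true) (m : ∀ i ∈ S, val l i ∈ l') :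
    W (val l) w ∈ cl l' :=
  W_mem_of fun r hr => mem_cl (m r (by simpa using List.all_eq_true.1 k r hr))

theorem le_or5 (hU : U ≤ cl [v, s, j, t]) (h2 : ∀ e ∈ U, e * e = 1) :
    U ≤ cl [z, v, t] ∨ U ≤ cl [z, s, t] := by
  by_contra! k
  obtain ⟨a, a1, a2⟩ := SetLike.not_le_iff_exists.1 k.1
  obtain ⟨b, b1, b2⟩ := SetLike.not_le_iff_exists.1 k.2
  obtain ⟨w, hw, rfl⟩ := word5 h (hU a1)
  obtain ⟨w', hw', rfl⟩ := word5 h (hU b1)
  have P := fun {a b : List ℕ} => (pres5 h).ne (ind5 h) (w := a) (w' := b)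
  rcases (by decide +kernel : ∀ w ∈ subs 5, ∀ w' ∈ subs 5, tb5.eqv (w ++ w) [] = false ∨
    tb5.eqv (w' ++ w') [] = false ∨ tb5.eqv (w ++ w' ++ (w ++ w')) [] = false ∨
    w.all (· ∈ [0, 1, 4]) = true ∨ w'.all (· ∈ [0, 2, 4]) = true) w hw w' hw' with a | a | a | a | a
  · exact P a (by simpa using h2 _ a1)
  · exact P a (by simpa using h2 _ b1)
  · exact P a (by simpa [mul_assoc] using h2 _ (mul_mem a1 b1))
  · exact a2 (W_in a (by simp))
  · exact b2 (W_in a (by simp))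

theorem eq_or5 (hU : U ≤ cl [v, s, j, t]) (h2 : ∀ e ∈ U, e * e = 1) (h8 : Nat.card U = 8) :
    U = cl [z, v, t] ∨ U = cl [z, s, t] := (le_or5 h hU h2).imp
  (fun k => eq_of_le_of_card_ge k (by rw [h8, cardA h])) fun k => eq_of_le_of_card_ge k (h8 ▸ cardA' h)

theorem inv5 (hx : x ∈ cl [v, s, j, t]) (h2 : x * x = 1) : x ∈ cl [z, v, s, t] := by
  obtain ⟨w, hw, rfl⟩ := word5 h hx
  rcases (by decide +kernel : ∀ w ∈ subs 5, tb5.eqv (w ++ w) [] = false ∨
    w.all (· ∈ [0, 1, 2, 4]) = true) w hw with a | a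
  · exact absurd (by simpa using h2) ((pres5 h).ne (ind5 h) a)
  · exact W_in a (by simp)

theorem jobKT' : KT t := by
  have P := fun {t v s z j σ n : G} (h : SA t v s z j σ n) {a b : List ℕ} =>
    (pres5 h).ne (ind5 h) (w := a) (w' := b)
  have cE : ∀ {x : G} {E : Subgroup G}, x ∈ E → (∀ e ∈ E, e * e = 1) → E ≤ cen1 x :=
    fun hx h2 e he => mc1.2 (comm_of_elem h2 he hx)
  refine ⟨fun y k => ?_, fun x k Q c hQ => ?_, fun x k E c h2 => ?_, fun x k E hx h2 h8 Q c hQ => ?_,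
    fun x k E hx h2 h8 Q c hQ => ?_, fun x k l h2 c hQ => ?_, fun x k e he y hy e2 ey y8 => ?_⟩
  · obtain ⟨g, hg⟩ := isConj_iff.1 k
    obtain ⟨v, s, z, j, σ, n, h', k'⟩ := red h k (isPGroup_zpowers (x := y) (k := 2) (by
      rw [show y ^ 2 ^ 2 = y * y * (y * y) by simp [pow_succ, mul_assoc], ← hg, conj_mul, h.tt]; group))
      (zpowers_le.2 (mc1.2 (mul_assoc y y y).symm))
    obtain ⟨w, hw, e⟩ := word5 h' (k' (mem_zpowers y))
    exact P h' ((by decide +kernel : ∀ w ∈ subs 5, tb5.eqv (w ++ w) [4] = false) w hw)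
      (by rw [W_append, ← e]; simp)
  · obtain ⟨v, s, z, j, σ, n, h', k'⟩ := red h k hQ c
    exact (card_le_of_le k').trans (card32 h')
  · obtain ⟨v, s, z, j, σ, n, h', k'⟩ := red h k (two_of_elem h2) c
    exact (le_or5 h' k' h2).elim (fun a => (card_le_of_le a).trans (cardA h').le)
      fun a => (card_le_of_le a).trans (cardA' h')
  · obtain ⟨v, s, z, j, σ, n, h', k'⟩ := red h k (H14.isPGroup_sup_of_le_normalizer hQ (two_of_elem h2)
      (c.trans (centralizer_le_normalizer _))) (sup_le (fun q hq => mc1.2 (c hq x hx).symm) (cE hx h2))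
    intro q hq
    obtain ⟨w, hw, rfl⟩ := word5 h' (k' (mem_sup_left hq))
    obtain ⟨a, b⟩ := (by decide +kernel : ∀ w ∈ subs 5,
      (tb5.eqv (1 :: w) (w ++ [1]) = false ∨ w.all (· ∈ [0, 1, 4]) = true) ∧
      (tb5.eqv (2 :: w) (w ++ [2]) = false ∨ w.all (· ∈ [0, 2, 4]) = true)) w hw
    rcases eq_or5 h' (le_sup_right.trans k') h2 h8 with rfl | rfl
    · exact W_in (a.resolve_left fun a => P h' a (by simpa using c hq v (mem_cl (by simp)))) (by simp)
    · exact W_in (b.resolve_left fun a => P h' a (by simpa using c hq s (mem_cl (by simp)))) (by simp)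
  · obtain ⟨v, s, z, j, σ, n, h', k'⟩ := red h k (H14.isPGroup_sup_of_le_normalizer hQ (two_of_elem h2)
      (c.trans inf_le_right)) (sup_le (c.trans inf_le_left) (cE hx h2))
    refine (card_le_of_le fun q hq => ?_).trans (card16 h')
    obtain ⟨w, hw, rfl⟩ := word5 h' (k' (mem_sup_left hq))
    have m := fun a b (ha : a ∈ E) (hb : b ∈ E) =>
      comm_of_elem h2 (conj_mem_of_mem_normalizer (c hq).2 ha) hb
    refine W_in (((by decide +kernel : ∀ w ∈ subs 5, w.all (· ∈ [0, 1, 2, 4]) = true ∨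
      ∃ a ∈ subs 1, ∃ b ∈ subs 1, tb5.same (w ++ [1]) (2 :: a ++ w) = true ∧
        tb5.same (w ++ [2]) (1 :: b ++ w) = true ∧ tb5.eqv (2 :: a ++ [1]) (1 :: 2 :: a) = false ∧
        tb5.eqv (1 :: b ++ [2]) (2 :: 1 :: b) = false) w hw).resolve_right ?_) (by simp)
    rintro ⟨a, -, b, -, a1, a2, a3, a4⟩
    have b1 := (pres5 h').W_eq a1
    have b2 := (pres5 h').W_eq a2
    rw [W_append, W_append, ← mul_inv_eq_iff_eq_mul] at b1 b2
    rcases eq_or5 h' (le_sup_right.trans k') h2 h8 with rfl | rfl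
    · exact P h' a3 (by rw [W_append, W_cons _ 1 (2 :: a), ← b1]; simpa using m v v (mem_cl (by simp)) (mem_cl (by simp)))
    · exact P h' a4 (by rw [W_append, W_cons _ 2 (1 :: b), ← b2]; simpa using m s s (mem_cl (by simp)) (mem_cl (by simp)))
  · obtain ⟨v, s, z, j, σ, n, h', k'⟩ := red h k hQ c
    exact (card_le_of_le (cl_le.2 fun y hy => inv5 h' (k' (mem_cl hy)) (h2 y hy))).trans (card16 h')
  · obtain ⟨v, s, z, j, σ, n, h', k'⟩ := red h k (H30.DZ.two_sup_zpowers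
      (isPGroup_zpowers (x := y) (k := 3) y8) (x := e) (mem_normalizer_of_cj_le
        (map_le_iff_le_comap.2 (zpowers_le.2 (by simp [mem_comap, ey])))) (k := 1)
      (by rw [pow_one, pow_two, e2]; exact one_mem _)) (sup_le (zpowers_le.2 hy) (zpowers_le.2 he))
    obtain ⟨w, hw, rfl⟩ := word5 h' (k' (mem_sup_right (mem_zpowers e)))
    obtain ⟨w', hw', rfl⟩ := word5 h' (k' (mem_sup_left (mem_zpowers y)))
    rcases (by decide +kernel : ∀ w ∈ subs 5, ∀ w' ∈ subs 5, tb5.eqv (w ++ w) [] = false ∨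
      tb5.eqv (w ++ w' ++ w ++ w') [] = false ∨ tb5.same (w' ++ w' ++ w' ++ w') [] = true) w hw w' hw'
      with a | a | a
    · exact absurd (by simpa using e2) (P h' a)
    · rw [inv_eq_of_mul_eq_one_right e2] at ey
      exact absurd (by rw [W_append, W_append, W_append, ey]; simp) (P h' a)
    · simpa [pow_succ, mul_assoc] using (pres5 h').W_eq a

end SA

theorem jobKT : JobKT.{u} := fun _ _ _ _ _ _ _ _ _ _ h => jobKT' h

/-- One half of the local data. -/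
theorem half {T0 : Subgroup G} (D : SD v s z j) (h : H85.S3.Ct t A K) (hT : IsSyl 2 T (cen1 t))
    (hS : T ⊓ A = cl [v, s, j]) (r : Tr t v s u a) (hz : u * a = z) (e : T0 = cl [a, u, v, t, s])
    (le : T0 ≤ T) (hU : ∀ x ∈ T, ∀ U ≤ cl [v, s, j], (∀ e ∈ U, e * e = 1) → 4 ≤ Nat.card U →
      x ∈ nor U → x ∈ T0) (hσ : σ ∈ A) (k : Tri σ z v) (hu : σ * u = u * σ) :
    Half' t v s u a σ := by
  have VA : cl [v, z] ≤ A := (D.toDH.V_le.trans D.D_le).trans (hS.ge.trans inf_le_right)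
  have nV : ∀ g, g * t = t * g → g ∈ nor (cl [a, u, v, t]) → g ∈ nor (cl [v, z]) := fun g h1 h2 => by
    have : cl [a, u, v, t] ⊓ A = cl [v, z] := le_antisymm (fun x hx => D.cenv
      (hS ▸ ⟨le (e.ge (cl_mono (by simp) hx.1)), hx.2⟩) (r.A_comm (mem_cl (by simp)) hx.1))
      (le_inf (cl2_le (mem_cl (by simp)) (hz ▸ mul_mem (mem_cl (by simp)) (mem_cl (by simp)))) VA)
    exact this ▸ inf_normalizer_le_normalizer_inf ⟨h2, h.nA (mc1.2 h1)⟩
  refine ⟨mul_inv_eq_iff_eq_mul.2 (mc1.1 (h.AN hσ)), mul_inv_eq_iff_eq_mul.2 hu, ?_, hz ▸ k.2,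
    ⟨le_inf (e.ge.trans (le.trans hT.le)) r.le_norA, r.isPGroup, fun Q hQ k1 k2 => ?_⟩, hz ▸ nV⟩
  · rw [show a = u * z by rw [← hz, ← mul_assoc, r.uu, one_mul], ← mul_assoc, hu, ← r.uv, ← k.1]
    group
  obtain ⟨g, hg, k3⟩ := hT.exists_cj_le hQ (k2.trans inf_le_left)
  have k4 : cl [v, z] ≤ Q := (cl2_le (mem_cl (by simp))
    (hz ▸ mul_mem (mem_cl (by simp)) (mem_cl (by simp)))).trans k1
  refine (eq_of_le_of_card_ge k1 ?_).symm
  rw [← card_cj g Q, ← e]
  refine card_le_of_le fun x hx => hU x (k3 hx) (cj g (cl [v, z]))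
    (hS ▸ le_inf ((cj_mono g k4).trans k3) (cj_le_of_le VA (h.nA hg))) ?_
    (by rw [card_cj, D.toDH.cardV]) ?_
  · rintro _ ⟨y, hy, rfl⟩
    rw [← map_mul, D.toDH.sqV hy, map_one]
  · rw [nor, ← cj_normalizer]
    exact cj_mono g (fun q hq => nV q (mc1.1 (k2 hq).1) (k2 hq).2) hx

theorem jobR5 : JobR5.{u} := by
  intro G _ _ t A K T v s z j n h f hK hn nt
  have D := f.toSD
  have tt : t * t = 1 := by rw [← pow_two, ← h.o, pow_orderOf_eq_one]
  have tT := f.tT h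
  have ct : ∀ {x}, x ∈ T → x * t = t * x := fun hx => mc1.1 (f.syl.le hx)
  have zT := f.S_le D.z_mem
  have zK := f.zK h.toSc
  have tA : t ∉ A := fun k => H14.ne_one_of_two h.o (f.one h.toSc tT k h.tK)
  have cz : ∀ {x}, x ∈ T → x * z = z * x := fun hx => D.fixz (f.nS h.nA hx)
  have TK : ∀ {x}, x ∈ T → x ∈ K → x = 1 ∨ x = t := fun h1 h2 => (H48.mem_zp2 tt).1 (hK.le ⟨h1, h2⟩)
  have zt : cl [z, t] ≤ T ⊓ cen T :=
    cl2_le ⟨zT, fun _ hy => cz hy⟩ ⟨tT, fun _ hy => ct hy⟩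
  have ofin : ∀ {x}, x ∈ T → In K z x → x ∈ cl [z, t] := fun {x} hx e => by
    have k : ∀ {x}, x ∈ T → x ∈ K → x ∈ cl [z, t] := fun h1 h2 => by
      rcases TK h1 h2 with rfl | rfl
      exacts [one_mem _, m2 _ _]
    exact e.elim (k hx) fun e => (mul_mem_cancel_right (m1 z t)).1 (k (mul_mem hx zT) e)
  have sq : ∀ {x}, x ∈ T → In K z x → x * x = 1 := fun {x} hx e => by
    rcases e with e | e
    · rcases TK hx e with rfl | rfl
      exacts [mul_one 1, tt]
    · have : x * z * (x * z) = x * x := by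
        rw [mul_assoc, ← mul_assoc z, ← cz hx, mul_assoc x z, D.zz, mul_one]
      rcases TK (mul_mem hx zT) e with a | a <;> rw [← this, a]
      exacts [mul_one 1, tt]
  by_cases k : ∀ c ∈ T ⊓ cen (cl [v, s]), In K z c
  · obtain ⟨σ, s1, s2⟩ := f.tri
    have e : T = cl [v, s, j, t] := le_antisymm (fun x hx => by
      obtain ⟨c, hc, d, hd, rfl⟩ := f.dec h.nA hx
      exact mul_mem (cl2_le (cl_mono (by simp) D.z_mem) (mem_cl (by simp)) (ofin hc.1 (k c hc)))
        (cl_mono (by simp) hd)) (cl_le.2 (by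
          simp [tT, f.S_le D.j_mem, f.S_le (D.D_le (m1 v s)), f.S_le (D.D_le (m2 v s))]))
    exact .inl ⟨σ, D, tt, ct (f.S_le (D.D_le (m1 v s))), ct (f.S_le (D.D_le (m2 v s))),
      ct (f.S_le D.j_mem), mc1.1 (h.AN s1), fun a => tA (f.S_leA a), e ▸ f.syl, s2, e ▸ hn, nt⟩
  push Not at k
  obtain ⟨c, hc, nc⟩ := k
  obtain ⟨c1, -, w, hw, σ, s1, s2, s3⟩ := f.out c hc nc
  have C0 : ∀ {c x}, c ∈ T ⊓ cen (cl [v, s]) → ¬ In K z c → x ∈ T ⊓ cen (cl [v, s]) →
      x ∈ cl [z, t] ∨ c * x ∈ cl [z, t] := fun {c x} hc nc hx =>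
    ((f.idx c hc x hx).resolve_left nc).imp (ofin hx.1) (ofin (mul_mem hc.1 hx.1))
  rcases TK (mul_mem hc.1 hc.1) c1 with e | e
  swap
  · have k1 : ∀ x ∈ T, x * x = 1 → x * c = c * x := fun x hx xx => by
      obtain ⟨b, hb, d, hd, rfl⟩ := f.dec h.nA hx
      by_cases ib : In K z b
      · have b1 := (zt (ofin hb.1 ib)).2
        rw [mul_assoc, ← mul_assoc d, b1 d (f.S_le hd), mul_assoc, ← mul_assoc b b, sq hb.1 ib,
          one_mul] at xx
        rw [mul_assoc, hc.2 d (D.inv hd xx), ← mul_assoc, ← b1 c hc.1, mul_assoc]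
      have b2 : b * b = t := by
        have a := ((f.idx c hc b hb).resolve_left nc).resolve_left ib
        have a1 := (zt (ofin (mul_mem hc.1 hb.1) a)).2 c hc.1
        have a2 := sq (mul_mem hc.1 hb.1) a
        have a3 : b * c = c * b := mul_left_cancel (a := c) (by rw [a1, mul_assoc])
        rw [mul_assoc, ← mul_assoc b, a3, mul_assoc, ← mul_assoc, e, mul_eq_one_iff_inv_eq,
          inv_eq_of_mul_eq_one_right tt] at a2
        exact a2.symm
      refine absurd ?_ tA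
      have a : d * b * d⁻¹ * b⁻¹ ∈ A := by
        rw [mul_assoc, mul_assoc, ← mul_assoc b]
        exact mul_mem (f.S_leA hd) (conj_mem_of_mem_normalizer (h.nA (f.syl.le hb.1))
          (inv_mem (f.S_leA hd)))
      have a' := mul_mem (conj_mem_of_mem_normalizer (h.nA (f.syl.le hb.1)) a)
        (conj_mem_of_mem_normalizer (h.nA (f.syl.le tT)) (mul_mem (f.S_leA hd) (f.S_leA hd)))
      rwa [← b2, show b * (d * b * d⁻¹ * b⁻¹) * b⁻¹ * (b * b * (d * d) * (b * b)⁻¹) =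
        b * d * (b * d) * (b * b)⁻¹ by group, xx, one_mul, inv_mem_iff, b2] at a'
    have k2 : ∀ x ∈ T, x * x = 1 → x * (n * c * n⁻¹) = n * c * n⁻¹ * x := fun x hx xx => by
      have := k1 _ (conj_mem_of_mem_normalizer (inv_mem hn) hx) (by rw [conj_mul, xx]; group)
      calc _ = n * (n⁻¹ * x * n⁻¹⁻¹ * c) * n⁻¹ := by group
        _ = _ := by rw [this]; group
    have k3 : n * c * n⁻¹ ∈ T ⊓ cen (cl [v, s]) := ⟨conj_mem_of_mem_normalizer hn hc.1, cen_cl.2 (by
      simp only [List.mem_cons, List.not_mem_nil, or_false, forall_eq_or_imp, forall_eq]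
      exact ⟨k2 v (f.S_le (D.D_le (m1 v s))) D.vv, k2 s (f.S_le (D.D_le (m2 v s))) D.ss⟩)⟩
    have k4 : n * c * n⁻¹ * (n * c * n⁻¹) ∈ K := by
      by_cases i : In K z (n * c * n⁻¹)
      · exact sq k3.1 i ▸ one_mem _
      · exact (f.out _ k3 i).1
    rw [conj_mul, e, nt, mul_mem_cancel_left h.tK] at k4
    exact absurd k4 zK
  have zc : z ∈ T ⊓ cen (cl [v, s]) := ⟨zT, D.toDH.z_cen⟩
  have sq' : ∀ x ∈ T, x * x = 1 → x * z * (x * z) = 1 := fun x hx e => by
    rw [mul_assoc, ← mul_assoc z, ← cz hx, mul_assoc x z, D.zz, mul_one, e]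
  obtain ⟨w1, w2, w3⟩ : w ∈ T ⊓ cen (cl [v, s]) ∧ ¬ In K z w ∧ w * w = 1 := by
    rcases hw with rfl | rfl
    exacts [⟨hc, nc, e⟩, ⟨mul_mem hc zc, (In.mul_z D.toDH).not.2 nc, sq' c hc.1 e⟩]
  have jw := (f.out w w1 w2).2.1
  have jz : j * z * j⁻¹ = z := by rw [D.jz, mul_inv_cancel_right]
  have a1 := mul_mem w1 zc
  have hz : w * (w * z) = z := by rw [← mul_assoc, w3, one_mul]
  have hz' : w * z * w = z := by rw [mul_assoc, ← cz w1.1, hz]
  have vT := f.S_le (D.D_le (m1 v s))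
  have sT := f.S_le (D.D_le (m2 v s))
  have jT := f.S_le D.j_mem
  have wv := w1.2 v (m1 v s)
  have ws := w1.2 s (m2 v s)
  have e0 : cl [z, t, w, v, s] = cl [w * z, w, v, t, s] := by
    refine le_antisymm (cl_le.2 ?_) (cl_le.2 ?_) <;>
      simp only [List.mem_cons, List.not_mem_nil, or_false, forall_eq_or_imp, forall_eq]
    · exact ⟨(mul_mem_cancel_left (mem_cl (y := w) (by simp))).1 (mem_cl (by simp)),
        mem_cl (by simp), mem_cl (by simp), mem_cl (by simp), mem_cl (by simp)⟩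
    · exact ⟨mul_mem (mem_cl (by simp)) (mem_cl (by simp)),
        mem_cl (by simp), mem_cl (by simp), mem_cl (by simp), mem_cl (by simp)⟩
  have P : Pres (.of 5 [(4, 3, [3, 0])]) (val [z, t, w, v, s]) := by
    refine ⟨fun i hi k hk => ?_, fun i hi => ?_⟩ <;> change i < 5 at hi
    · interval_cases i <;> interval_cases k <;> wsimp
      exacts [ct zT, (cz w1.1).symm, (ct w1.1).symm, D.vz.symm, (ct vT).symm, wv.symm, D.sz.symm,
        (ct sT).symm, ws.symm, D.vs]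
    · interval_cases i <;> wsimp
      exacts [D.zz, tt, w3, D.vv, D.ss]
  have I : Ind (val [z, t, w, v, s]) 5 := fun i hi => by
    rw [H_val]
    interval_cases i
    · exact fun e => D.z1 (mem_bot.1 (cl_le.2 (by simp) e))
    · exact fun e => tA (cl_le.2 (by simpa using f.S_leA D.z_mem) e)
    · exact fun e => D.z1 (by rwa [show j * w = w * j from (zt e).2 j jT, mul_inv_cancel_right, left_eq_mul] at jw)
    · exact fun e => D.toDH.nc (mc1.1 ((cl_le (K := cen1 s)).2 (by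
        simp [mc1, D.sz, ct sT, ws]) e))
    · exact fun e => D.toDH.nc (mc1.1 ((cl_le (K := cen1 v)).2 (by
        simp [mc1, D.vz, ct vT, wv]) e)).symm
  have r : Tr t v s w (w * z) := ⟨tt, D.vv, D.ss, w3, sq' w w1.1 w3, hz'.trans hz.symm,
    (a1.2 v (m1 _ _)).symm, ct a1.1, (a1.2 s (m2 _ _)).symm, wv.symm, ct w1.1, ws.symm, ct vT, ct sT,
    hz.symm ▸ D.vs, by
      have := P.card rfl (k := 5) le_rfl I
      rwa [H_val, show List.take 5 [z, t, w, v, s] = [z, t, w, v, s] from rfl, e0] at this⟩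
  have wT : w ∈ T := w1.1
  have le : cl [z, t, w, v, s] ≤ T := cl_le.2 (by simp [zT, tT, wT, vT, sT])
  have c0 : T ⊓ cen (cl [v, s]) ≤ cl [z, t, w, v, s] := fun x hx => (C0 w1 w2 hx).elim
    (fun k => cl_mono (by simp) k) fun k => (mul_mem_cancel_left (mem_cl (y := w) (by simp))).1
      (cl_mono (by simp) k)
  have hU : ∀ x ∈ T, ∀ U ≤ cl [v, s, j], (∀ e ∈ U, e * e = 1) → 4 ≤ Nat.card U → x ∈ nor U →
      x ∈ cl [z, t, w, v, s] := fun x hx U u1 u2 u3 u4 => by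
    obtain ⟨b, hb, d, hd, rfl⟩ := f.dec h.nA hx
    obtain ⟨k1, k2⟩ : U ≤ cl [v, s] ∧ cl [v, s] ≤ nor U := by
      rcases D.eq_or u1 u2 u3 with rfl | rfl
      exacts [⟨D.toDH.V_le, D.toDH.le_norV⟩, ⟨D.toDH.V'_le, cl_sw s v ▸ D.toDH.swap.le_norV⟩]
    refine mul_mem (c0 hb) (cl_mono (by simp) ((D.mem hd).resolve_right fun k => D.not_nor u1 u2 u3 ?_))
    rw [mul_mem_cancel_left (centralizer_le_normalizer _ (centralizer_le k1 hb.2))] at u4
    simpa using mul_mem u4 (inv_mem (k2 k))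
  have eT : T = cl [w * z, w, v, t, s, j * w] := le_antisymm (fun x hx => by
    obtain ⟨b, hb, d, hd, rfl⟩ := f.dec h.nA hx
    refine mul_mem (cl_mono (by simp) (e0.le (c0 hb))) ((cl_le.2 ?_) hd)
    simp only [List.mem_cons, List.not_mem_nil, or_false, forall_eq_or_imp, forall_eq]
    exact ⟨mem_cl (by simp), mem_cl (by simp),
      (mul_mem_cancel_right (mem_cl (y := w) (by simp))).1 (mem_cl (by simp))⟩)
    (cl_le.2 (by simp [mul_mem wT zT, wT, vT, tT, sT, mul_mem jT wT]))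
  have cm : ∀ x, x * w = w * x → j * w * x * (j * w)⁻¹ = j * x * j⁻¹ := fun x e => by
    rw [mul_assoc j, ← e]; group
  have S' : cl [s, v, j] = cl [v, s, j] := le_antisymm (cl_mono (by simp)) (cl_mono (by simp))
  refine .inr ⟨w, w * z, σ, j * σ * j⁻¹, j * w, ⟨r, half D h f.syl f.S r hz e0 le hU s1 s2 s3,
    half D.swap h f.syl (S' ▸ f.S) r.swap hz' (e0.trans (cl_swap _ _ _ _ _).symm) le (S' ▸ hU)
      (conj_mem_of_mem_normalizer (h.nA (f.syl.le jT)) s1) (by simpa only [jz, D.jv] using s2.cj j)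
      (by rw [← jw, conj_mul, conj_mul, s3])⟩,
    ⟨by rw [ct (mul_mem jT w1.1), mul_inv_cancel_right], by rw [cm v wv, D.jv], by rw [cm s ws, D.js],
      by rw [cm _ (hz'.trans hz.symm), ← conj_mul, jw, jz, mul_assoc, D.zz, mul_one],
      by rw [cm w rfl, jw], .inl ?_, eT ▸ f.syl⟩, eT⟩
  rw [mul_inv_eq_iff_eq_mul] at jw
  nth_rewrite 1 [jw]
  rw [mul_assoc, ← mul_assoc j j, D.jj, mul_assoc, ← mul_assoc z, D.zz, one_mul, w3]

end H57.S3A
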