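import Cfsg.Agent.H57.DZC

/-! DZ: the narrow data (`JobN`). -/

set_option autoImplicit false
set_option linter.unusedSectionVars false

namespace H57.DZ

open Subgroup Cfsg H14 H98 H1.Gold H31.S2 H85.FZ H49.D8 H85.DZ H62.FZ

universe u

variable {G : Type u} [Group G] [Finite G] {t v s u a σ ρ p q y d g x c : G} {P Q R : Subgroup G}

theorem not_norB (c : Cy t v s u a y) (h : Tr t v s u a) {Y : G} (e : Y * t * Y⁻¹ = t * v)
    {K : Subgroup G} (hK : K ≤ cl [a, u, v, t, s, y]) : Y ∉ K := fun hY => by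
  have h1 : cl [a, u, v, t, s, y] ≤ nor (cl [u, a, s, t]) := cl_le.2 fun z hz => by
    rcases List.mem_append.1 (show z ∈ [a, u, v, t, s] ++ [y] from hz) with hz | hz
    · exact h.le_norB (mem_cl hz)
    · exact List.mem_singleton.1 hz ▸ (c.swap h).norA
  have h2 : t ∈ cl [u, a, s, t] := mem_cl (by simp)
  have h3 := conj_mem_of_mem_normalizer (h1 (hK hY)) h2
  rw [e, mul_mem_cancel_left h2] at h3
  exact h.swap.s_notMem h3

theorem side {σ₀ : G} (h : Lc t v s u a σ₀ ρ) (S : Sd t v s u a σ P R) (c : Cy t v s u a y)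
    (yP : y ∈ P) (hy : y * y ∈ cl [a, u]) :
    y * y = u * a ∨ (y * y = 1 ∧ ∃ Z k, SdN t v s u a σ y Z k) := by
  obtain ⟨Y, hY⟩ : ∃ Y, Y = σ * y * σ⁻¹ := ⟨_, rfl⟩
  have P4 := presA h.toTr [y, Y]
  have yR : y ∈ R := S.mem y yP ⟨c.yu, Or.inl c.ya, Or.inl c.yv, by
    rw [c.yt, mul_assoc, (show Commute u t from h.ut).mul_left (show Commute a t from h.ta)
      |>.inv_right.eq, mul_inv_cancel_left]
    exact mul_mem (mem_cl (by simp)) (mem_cl (by simp))⟩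
  have YR : Y ∈ R := hY ▸ conj_mem_of_mem_normalizer S.σR yR
  have aσ := hact S.half [y, Y]
  have aσi := hacti S.half h.toTr [y, Y]
  have ay := c.act [y, Y]
  have aY : Act (val [a, u, v, t, y, Y]) Y [0, 1, 2, 3] [(3, [3, 2])] := by
    have := act_agree P4 (act_cp P4 aσ (act_cp P4 ay aσi rfl) rfl) (f' := [(3, [3, 2])]) rfl
    rwa [← mul_assoc, ← hY] at this
  have a2 : Act (val [a, u, v, t, y, Y]) (σ * Y * σ⁻¹) [0, 1, 2, 3] [(3, [3, 2, 1, 0])] := by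
    have := act_agree P4 (act_cp P4 aσ (act_cp P4 aY aσi rfl) rfl) (f' := [(3, [3, 2, 1, 0])]) rfl
    rwa [← mul_assoc] at this
  have ayi := act_inv P4 ay rfl rfl
  have aYi := act_inv P4 aY rfl rfl
  obtain ⟨ζ, hζ, eζ⟩ := P4.mem_cl rfl 2 (by decide) hy
  obtain ⟨cw, hc, ec⟩ := P4.mem_cl rfl 4 le_rfl (ca2' h S.two
    (mul_mem (inv_mem yR) (mul_mem (inv_mem YR) (mul_mem yR YR))) (act_agree P4
    (act_cp P4 ayi (act_cp P4 aYi (act_cp P4 ay aY rfl) rfl) rfl) rfl))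
  obtain ⟨e, he, ee⟩ := P4.mem_cl rfl 4 le_rfl (ca2' h S.two
    (mul_mem yR (mul_mem YR (conj_mem_of_mem_normalizer S.σR YR))) (act_agree P4
    (act_cp P4 ay (act_cp P4 aY a2 rfl) rfl) rfl))
  obtain ⟨k1, k2, k3, k4, k5, k6⟩ := (by decide +kernel : ∀ ζ ∈ subs 2, ∀ c ∈ subs 4, ∀ e ∈ subs 4,
    ζ.all (· ∈ [0, 1, 2, 3]) = true ∧ tA.same (ζ ++ ζ) [] = true ∧
      tA.same (app sg ζ ++ app sg ζ) [] = true ∧ (w2 ζ e).all (· ∈ [5, 4, 0, 1, 2, 3]) = true ∧
      (app sg ζ).all (· ∈ [5, 4, 0, 1, 2, 3]) = true ∧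
      (5 :: 4 :: c).all (· ∈ [5, 4, 0, 1, 2, 3]) = true) ζ hζ cw hc e he
  have eY : Y * Y = W (val [a, u, v, t, y, Y]) (app sg ζ) := by
    rw [← aσ.w k1, ← eζ, hY, conj_mul]
  have yY : y * Y = W (val [a, u, v, t, y, Y]) (5 :: 4 :: cw) := by
    rw [W_cons, W_cons, ← ec]; change _ = Y * (y * _); group
  have P : Pres (tbR ζ cw) (val [a, u, v, t, y, Y]) :=
    pres_top (pres_top P4 ayi eζ) (act_mono (act_cons aYi (r := 4) (w := 4 :: cw) (by
      rw [W_cons, ← ec]; change Y⁻¹ * y * Y⁻¹⁻¹ = y * _; group)) rfl) eY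
  have I : Ind (val [a, u, v, t, y, Y]) 6 := by
    refine ind_top (ind_top (ind_congr (fun i hi => by interval_cases i <;> rfl)
      (h.ind.mono (show 4 ≤ 5 by decide))) fun e => ?_) ?_
    · rw [H_val] at e
      have := c.yt
      rw [h.A_comm (x := y) (y := t) e (mem_cl (by simp)), mul_inv_cancel_right, left_eq_mul] at this
      exact z_ne h.toTr this
    · rw [H_val]
      exact not_norB c h.toTr (by simpa [app] using aY 3 (by simp)) (cl_mono (by simp))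
  have e2 : σ * Y * σ⁻¹ = W (val [a, u, v, t, y, Y]) (w2 ζ e) := by
    have i1 := P4.W_eq k2
    have i2 := P4.W_eq k3
    rw [W_append, W_nil] at i1 i2
    rw [← eζ] at i1
    rw [← eY] at i2
    rw [w2, W_cons, W_append, W_cons, W_append, ← eY, ← eζ, ← ee]
    change _ = Y * (Y * Y * (y * (y * y * _)))
    calc σ * Y * σ⁻¹ = Y * Y * (Y * Y) * (σ * Y * σ⁻¹) := by rw [i2, one_mul]
      _ = Y * (Y * Y * (y * y * (y * y) * (Y * (σ * Y * σ⁻¹)))) := by rw [i1]; group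
      _ = _ := by group
  have e3 : σ * (σ * Y * σ⁻¹) * σ⁻¹ = y := by
    calc _ = σ * σ * σ * y * (σ * σ * σ)⁻¹ := by rw [hY]; group
      _ = y := by rw [mem_cen_iff.1 S.σ3 y yR, mul_inv_cancel_right]
  have sσ : s * σ * s⁻¹ = σ⁻¹ := by rw [inv_eq_of_mul_eq_one_right h.ss, S.σs]
  have sy : s * y * s⁻¹ = y := by
    rw [← mul_inv_eq_iff_eq_mul.1 c.ys, mul_inv_cancel_right]
  have sY : s * Y * s⁻¹ = σ * Y * σ⁻¹ := by
    calc _ = s * σ * s⁻¹ * (s * y * s⁻¹) * (s * σ * s⁻¹)⁻¹ := by rw [hY]; group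
      _ = σ⁻¹ * (σ * (σ * Y * σ⁻¹) * σ⁻¹) * σ⁻¹⁻¹ := by rw [sσ, sy, e3]
      _ = _ := by group
  have bσ : Act (val [a, u, v, t, y, Y]) σ [5, 4, 0, 1, 2, 3] (fσ ζ e) :=
    act_cons (act_cons aσ (r := 4) (w := [5]) (by simpa using hY.symm)) (r := 5) e2
  have bs : Act (val [a, u, v, t, y, Y]) s [5, 4, 0, 1, 2, 3] (fs ζ e) := by
    refine act_cons (act_cons ?_ (r := 4) (w := [4]) (by simpa using sy)) (r := 5) (sY.trans e2)
    simp only [Act, List.mem_cons, List.not_mem_nil, or_false, forall_eq_or_imp, forall_eq]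
    wsimp
    refine ⟨by rw [← h.sa]; group, by rw [← h.us]; group, ?_, by rw [h.st]; group⟩
    rw [inv_eq_of_mul_eq_one_right h.ss, mul_assoc, h.vs, ← mul_assoc, h.ss, one_mul]
  rcases keyR ζ hζ cw hc e he (by
    simp only [Bool.and_eq_true]
    exact ⟨⟨⟨P.eqv I (by rw [← bσ.w k4, ← e2, e3]; simp),
      P.eqv I (by rw [← bσ.w rfl, ← bσ.w k5, ← eY]; simp)⟩, P.eqv I (by
        rw [← bs.w k4, ← e2, ← sY, inv_eq_of_mul_eq_one_right h.ss, ← mul_assoc, ← mul_assoc, h.ss,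
          mul_assoc, mul_assoc, h.ss]; simp)⟩,
      P.eqv I (by rw [← bσ.w rfl, ← bσ.w k6, ← yY]; simp)⟩) with rfl | ⟨rfl, Z, k, rfl, rfl⟩
  · exact Or.inl (by simpa using eζ)
  have yy : y * y = 1 := eζ
  have YY : Y * Y = 1 := eY
  have P6 := c.pres h.toTr yy
  have tr : ∀ i < 4, val [a, u, v, t, y, Y] i = val [a, u, v, t, s, y] i := fun i hi => by
    interval_cases i <;> rfl
  rw [W_congr tr (by cases Z <;> rfl)] at ec
  rw [W_congr tr (by cases Z <;> cases k <;> rfl)] at ee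
  have e4 : σ * Y * σ⁻¹ = Y * W (val [a, u, v, t, s, y]) (dY Z k) := by
    rw [dY, W_cons, ← ee]
    change _ = Y * (y * _)
    rw [← mul_assoc y, yy, one_mul, ← mul_assoc Y, YY, one_mul]
  refine Or.inr ⟨yy, Z, k, ?_, by rw [← hY, e4]⟩
  rw [← hY]
  refine act_agree P6 (act_mono (act_cons (act_cons (act_congr (fun i hi => (tr i hi).symm) aY rfl)
    (r := 4) (w := dY Z k ++ [4]) ?_) (r := 5) (w := 5 :: ow Z [2, 1, 0]) ?_) rfl)
    (by cases Z <;> cases k <;> rfl)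
  · rw [W_append, ← mul_right_inj Y, ← mul_assoc Y (W _ _), ← e4, ← sY,
      inv_eq_of_mul_eq_one_right YY]
    change Y * (Y * s * Y) = _ * (s * 1)
    rw [← mul_assoc, ← mul_assoc, YY]; group
  · rw [W_cons, ← ec, inv_eq_of_mul_eq_one_right YY]
    change Y * y * Y = y * _
    group

theorem conj_v (h : H85.DZ.Nar t v s u a σ ρ) (hy : y ∈ N0 t v s u a) (yt : y * t * y⁻¹ = t * (u * a))
    (yz : y * (u * a) * y⁻¹ = u * a) :
    ∃ i, y * v * y⁻¹ = W (val [a, u, v, t, s]) (2 :: ow i [1, 0]) := by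
  obtain ⟨w, hw, e⟩ := h.pres.mem_cl rfl 4 (by decide)
    (conj_mem_of_mem_normalizer hy.1.2 (mem_cl (l := [a, u, v, t]) (y := v) (by simp)))
  have nσ := hnorA h.A
  have e1 : y * (σ * y * σ⁻¹) * t * (y * (σ * y * σ⁻¹))⁻¹ =
      W (val [a, u, v, t, s]) ([3, 1, 0] ++ w) := by
    have e0 : σ⁻¹ * t * σ = t := by
      rw [mul_assoc, ← mul_inv_eq_iff_eq_mul.1 h.A.σt, inv_mul_cancel_left]
    have e2 : σ * (t * (u * a)) * σ⁻¹ = t * v := by
      rw [← conj_mul, ← conj_mul, h.A.σt, h.A.σu, h.A.σa, ← h.uv, ← mul_assoc u, h.uu, one_mul]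
    calc _ = y * (σ * (y * (σ⁻¹ * t * σ) * y⁻¹) * σ⁻¹) * y⁻¹ := by group
      _ = _ := by rw [e0, yt, e2, ← conj_mul, yt, e]; simp [mul_assoc]
  have n1 : y * (σ * y * σ⁻¹) ∈ nor (cl [a, u, v, t]) :=
    mul_mem hy.1.2 (mul_mem (mul_mem nσ hy.1.2) (inv_mem nσ))
  generalize y * (σ * y * σ⁻¹) = g at e1 n1
  rcases (by decide +kernel : ∀ w ∈ subs 4, w.all (· ∈ [0, 1, 3]) = true ∨
      (∃ i, w = 2 :: ow i [1, 0]) ∨ (tbT.col ([3, 1, 0] ++ w)).all (· < 3) = true ∨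
      (([3, 1, 0] ++ w).all (· ∈ [0, 1, 2, 3]) = true ∧ (tbT.same (app sg ([3, 1, 0] ++ w)) [3, 0] = true ∨
        tbT.same (app sgi ([3, 1, 0] ++ w)) [3, 0] = true))) w hw with k | ⟨i, rfl⟩ | k | ⟨k, k'⟩
  · refine (h.toTr.swap.s_notMem ((mem_normalizer_iff.1 hy.2 v).2 ?_)).elim
    rw [e]
    refine W_mem_of fun r hr => mem_cl ?_
    have := of_decide_eq_true (List.all_eq_true.1 k r hr)
    simp only [List.mem_cons, List.not_mem_nil, or_false] at this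
    rcases this with rfl | rfl | rfl <;> simp
  · exact ⟨i, e⟩
  · refine (h.notD (W_mem_cl [a, u, v, t, s] 3 k) (isConj_iff.2 ⟨g, ?_⟩)).elim
    rw [e1, h.pres.W_col]
  · exfalso
    rcases k' with k' | k'
    · refine (h.narA _ (mul_mem nσ n1)).2 ?_
      have := ((hact h.A [s]).w k).trans (h.pres.W_eq k')
      rw [← e1] at this
      simpa [mul_assoc] using this
    · refine (h.narA _ (mul_mem (inv_mem nσ) n1)).2 ?_
      have := ((hacti h.A h.toTr [s]).w k).trans (h.pres.W_eq k')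
      rw [← e1] at this
      simpa [mul_assoc] using this

theorem exists_Cy (h : H85.DZ.Nar t v s u a σ ρ) (hy : y ∈ N0 t v s u a) (yt : y * t * y⁻¹ = t * (u * a))
    (yu : y * u = u * y) : ∃ w ∈ cl [a, u, v, t, s], Cy t v s u a (y * w) := by
  have yz : y * (u * a) * y⁻¹ = u * a := by
    have e : v * s * (v * s) = u * a := by
      simpa [mul_assoc] using h.pres.W_eq (w := [2, 4, 2, 4]) (w' := [1, 0]) rfl
    have := h.sq_T (conj_mem_of_mem_normalizer hy.1.1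
      (mul_mem (mem_cl (y := v) (by simp)) (mem_cl (y := s) (by simp))))
    rw [conj_mul, e] at this
    exact this.resolve_left fun e' => z_ne h.toTr (conj_eq_one_iff.1 e')
  have yu' : y * u * y⁻¹ = u := by rw [yu, mul_inv_cancel_right]
  have ya : y * a * y⁻¹ = a := by rwa [← conj_mul, yu', mul_right_inj] at yz
  obtain ⟨i, ei⟩ := conj_v h hy yt yz
  obtain ⟨j, ej⟩ := conj_v h.swap (N0_swap t v s u a ▸ hy) (h.au ▸ yt) (h.au ▸ yz)
  have ay : Act (val [a, u, v, t, s]) y [0, 1, 2, 3, 4]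
      [(2, 2 :: ow i [1, 0]), (3, [3, 1, 0]), (4, 4 :: ow j [0, 1])] := by
    simp only [Act, List.mem_cons, List.not_mem_nil, or_false, forall_eq_or_imp, forall_eq]
    refine ⟨by simpa [app] using ya, by simpa [app] using yu', by simpa [app] using ei,
      by simpa [app] using yt, ?_⟩
    cases j <;> simpa [app, ow] using ej
  have := act_agree h.pres (act_cp h.pres ay (act_inn h.pres (fun _ => rfl)
    (w := ow i [4] ++ ow j [2]) (by cases i <;> cases j <;> rfl) [0, 1, 2, 3, 4])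
    (by cases i <;> cases j <;> rfl)) (f' := fy) (by cases i <;> cases j <;> rfl)
  refine ⟨W (val [a, u, v, t, s]) (ow i [4] ++ ow j [2]),
    W_mem_cl [a, u, v, t, s] 5 (by cases i <;> cases j <;> rfl), ?_⟩
  generalize y * W _ _ = y' at this ⊢
  exact ⟨by simpa [app, fy] using this 0 (by simp), by simpa [app, fy] using this 1 (by simp),
    by simpa [app, fy] using this 2 (by simp), by simpa [app, fy] using this 4 (by simp),
    by simpa [app, fy] using this 3 (by simp)⟩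

theorem sq_mem (c : Cy t v s u a y) (h : Lc t v s u a σ ρ) (hP : IsPGroup 2 P)
    (hT : cl [a, u, v, t, s] ≤ P) (yP : y ∈ P) : y * y ∈ cl [a, u] := by
  have ay := c.actT []
  have a2 := act_agree h.pres (act_cp h.pres ay ay rfl) (f' := []) rfl
  obtain ⟨w, hw, e⟩ := h.pres.mem_cl rfl 5 le_rfl (two h hP hT (mul_mem yP yP)
    (mul_inv_eq_iff_eq_mul.1 (by simpa [app] using a2 3 (by decide))) (mul_mem c.norA c.norA))
  have k : ∀ r < 5, tbT.eqv (w ++ [r]) (r :: w) = true := fun r hr => h.pres.eqv h.ind (by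
    rw [W_append, W_cons _ r w, ← e]
    exact mul_inv_eq_iff_eq_mul.1 (by simpa [app] using a2 r (List.mem_range.2 hr)))
  rw [e]
  exact W_mem_cl [a, u, v, t, s] 2 ((by decide +kernel : ∀ w ∈ subs 5,
    tbT.eqv (w ++ [2]) (2 :: w) = true → tbT.eqv (w ++ [4]) (4 :: w) = true →
    (w.all (· ∈ List.range 5) = true → tbT.eqv (app fy w) w = true) → w.all (· < 2) = true) w hw
    (k 2 (by decide)) (k 4 (by decide)) fun hw' => h.pres.eqv h.ind (by rw [← ay.w hw', ← e]; group))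


/-- `N₀` maps `t` to `t` or `t z`. -/
theorem n0_t (h : H85.DZ.Nar t v s u a σ ρ) (hg : g ∈ N0 t v s u a) :
    g * t * g⁻¹ = t ∨ g * t * g⁻¹ = t * (u * a) := by
  obtain ⟨w, hw, e⟩ := h.conj_zw hg.1.1 (c := [3]) (by decide)
  have c : IsConj t (W (val [a, u, v, t, s]) w) := isConj_iff.2 ⟨g, by simpa using e⟩
  simp only [ZW, List.mem_cons, List.not_mem_nil, or_false] at hw
  rcases hw with rfl | rfl | rfl | rfl | rfl | rfl | rfl | rfl <;>
    simp only [W_cons, W_nil, val_zero, val_succ, mul_one] at c e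
  · exact (h.toBase.notD (one_mem _) c).elim
  · exact (h.na c).elim
  · exact (h.nu c).elim
  · exact (h.toLoc.nz c).elim
  · exact Or.inl e
  · exact ((h.narA g hg.1.2).2 e).elim
  · exact ((h.narA g hg.1.2).1 e).elim
  · exact Or.inr e

theorem exY (h : H85.DZ.Nar t v s u a σ ρ) (hy : y ∈ N0 t v s u a) (yt : y * t * y⁻¹ = t * (u * a))
    (yu : y * u = u * y) : ∃ (y : G) (P : Subgroup G), Cy t v s u a y ∧ IsPGroup 2 P ∧ cl [a, u, v, t, s] ≤ P ∧ y ∈ P ∧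
      (∀ x ∈ P, x ∈ cl [a, u, v, t, s] ∨ y⁻¹ * x ∈ cl [a, u, v, t, s]) ∧ Nd t v s u a P := by
  obtain ⟨P, hP, hT, nd⟩ := exP1 h.toLoc
  have z2 := zz h.toTr
  have flip : ∀ {g : G}, g ∈ N0 t v s u a → g * t * g⁻¹ = t * (u * a) →
      g * (t * (u * a)) * g⁻¹ = t := fun {g} hg e => by
    rw [← conj_mul, e, h.gz hg.1.1, mul_assoc, z2, mul_one]
  have back : ∀ {g x : G}, g ∈ N0 t v s u a → g * t * g⁻¹ = t * (u * a) →
      x * t * x⁻¹ = t * (u * a) → g⁻¹ * x * t = t * (g⁻¹ * x) := fun {g x} _ e e' => by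
    calc g⁻¹ * x * t = g⁻¹ * (x * t * x⁻¹) * x := by group
      _ = _ := by rw [e', ← e]; group
  have fu : ∀ g ∈ N0 t v s u a, g * u = u * g := fun g hg => by
    rcases n0_t h hg with e | e
    · exact mul_inv_eq_iff_eq_mul.1 (nA_fix h.toLc (mul_inv_eq_iff_eq_mul.1 e) hg.1.2).1
    · have := mul_inv_eq_iff_eq_mul.1 (nA_fix h.toLc (back hy yt e)
        (mul_mem (inv_mem hy.1.2) hg.1.2)).1
      calc g * u = y * (y⁻¹ * g * u) := by group
        _ = _ := by rw [this, ← mul_assoc, yu]; group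
  obtain ⟨m, hm, n, hn, e⟩ := ex2 hP hy
  have y2 : Commute (y ^ 2) t := by
    rw [Commute, SemiconjBy, ← mul_inv_eq_iff_eq_mul, pow_two,
      show y * y * t * (y * y)⁻¹ = y * (y * t * y⁻¹) * y⁻¹ by group, yt, flip hy yt]
  have ym : y ^ m * t * (y ^ m)⁻¹ = t * (u * a) := by
    rw [show m = 1 + 2 * (m / 2) by omega, pow_add, pow_mul, pow_one, mul_assoc y,
      (y2.pow_left _).eq, ← yt]
    group
  have hm0 : y ^ m ∈ N0 t v s u a := pow_mem hy m
  generalize y ^ m = y1 at e ym hm0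
  have h1 : n * y1 * n⁻¹ * t * (n * y1 * n⁻¹)⁻¹ = t * (u * a) := by
    rw [show n * y1 * n⁻¹ * t * (n * y1 * n⁻¹)⁻¹ = n * (y1 * (n⁻¹ * t * n⁻¹⁻¹) * y1⁻¹) * n⁻¹ by group]
    rcases n0_t h (inv_mem hn) with k | k <;> rw [k]
    · rw [ym, ← conj_mul, h.gz hn.1.1]
      nth_rw 1 [← k]; group
    · rw [flip hm0 ym]
      have := flip (inv_mem hn) k
      nth_rw 1 [← this]; group
  generalize n * y1 * n⁻¹ = y2 at e h1
  obtain ⟨w, hw, c⟩ := exists_Cy h (hP.le e) h1 (fu _ (hP.le e))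
  have yP : y2 * w ∈ P := mul_mem e (hT hw)
  generalize y2 * w = y3 at c yP
  refine ⟨y3, P, c, hP.isPGroup, hT, yP, fun x hx => ?_, nd⟩
  rcases n0_t h (hP.le hx) with k | k
  · exact Or.inl (two h.toLc hP.isPGroup hT hx (mul_inv_eq_iff_eq_mul.1 k) (hP.le hx).1.2)
  · exact Or.inr (two h.toLc hP.isPGroup hT (mul_mem (inv_mem yP) hx) (back (hP.le yP) c.yt k)
      (hP.le (mul_mem (inv_mem yP) hx)).1.2)

theorem cy_nor0 (c : Cy t v s u a y) : y ∈ nor (cl [a, u, v]) :=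
  centralizer_le_normalizer _ (le_cen1_iff.1 (cl_le.2 (by
    simpa [mem_cen1] using ⟨(mul_inv_eq_iff_eq_mul.1 c.ya).symm,
      (mul_inv_eq_iff_eq_mul.1 c.yu).symm, (mul_inv_eq_iff_eq_mul.1 c.yv).symm⟩)))

theorem T_nor0 (h : Tr t v s u a) : cl [a, u, v, t, s] ≤ nor (cl [a, u, v]) := by
  have k := A_le_cen h (cl_mono (l := [a, u, v]) (by simp))
  have := Act.nor (k := 3) (f := [(2, [2, 1, 0])]) (fun r hr => act_s h [] r (by
    have := List.mem_range.1 hr; interval_cases r <;> simp)) (by decide)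
  rw [H_val] at this
  refine cl_le.2 fun y hy => ?_
  rcases List.mem_append.1 (show y ∈ [a, u, v, t] ++ [s] from hy) with hy | hy
  · exact centralizer_le_normalizer _ (k (mem_cl hy))
  · exact List.mem_singleton.1 hy ▸ this

theorem T_u (h : Tr t v s u a) (hx : x ∈ cl [a, u, v, t, s]) : x * u * x⁻¹ = u := by
  have := mem_cen_iff.1 (h.zw_mem (w := [1]) (by decide)) x hx
  simp only [W_cons, W_nil, val_zero, val_succ, mul_one] at this
  rw [← this, mul_inv_cancel_right]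

theorem sideN (h : Lc t v s u a σ ρ) (c : Cy t v s u a y) (hP : IsPGroup 2 P)
    (hT : cl [a, u, v, t, s] ≤ P) (yP : y ∈ P)
    (hg : ∀ x ∈ P, x ∈ cl [a, u, v, t, s] ∨ y⁻¹ * x ∈ cl [a, u, v, t, s])
    (hy : y * y ∈ cl [a, u]) : ∃ σ', Half' t v s u a σ' ∧
      (y * y = u * a ∨ (y * y = 1 ∧ ∃ Z k, SdN t v s u a σ' y Z k)) := by
  have k : ∀ K : Subgroup G, cl [a, u, v, t, s] ≤ K → y ∈ K → P ≤ K := fun K k1 k2 x hx =>
    (hg x hx).elim (fun e => k1 e) fun e => (mul_mem_cancel_left (inv_mem k2)).1 (k1 e)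
  obtain ⟨σ', R, S⟩ := exSd h hP hT (k _ h.le_norA c.norA) (k _ (T_nor0 h.toTr) (cy_nor0 c))
    fun x hx => mul_inv_eq_iff_eq_mul.2 (mem_cen1.1 (k (cen1 u)
      (fun x hx => mem_cen1.2 (mul_inv_eq_iff_eq_mul.1 (T_u h.toTr hx)))
      (mem_cen1.2 (mul_inv_eq_iff_eq_mul.1 c.yu)) hx))
  exact ⟨σ', S.half, side h S c yP hy⟩

theorem jobN : H85.DZ.JobN.{u} := by
  rintro G _ _ t v s u a σ ρ h ⟨y, hy, yt, yu⟩
  obtain ⟨y, P, c, hP, hT, yP, hg, nd⟩ := exY h hy yt yu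
  have ht : t ∈ cl [a, u, v, t, s] := mem_cl (by simp)
  obtain ⟨y, c, yP, hg, yy⟩ : ∃ y, Cy t v s u a y ∧ y ∈ P ∧
      (∀ x ∈ P, x ∈ cl [a, u, v, t, s] ∨ y⁻¹ * x ∈ cl [a, u, v, t, s]) ∧ y * y = 1 := by
    obtain ⟨_, -, e | e⟩ := sideN h.toLc c hP hT yP hg (sq_mem c h.toLc hP hT yP)
    · refine ⟨t * y, ⟨?_, ?_, ?_, ?_, ?_⟩, mul_mem (hT ht) yP, fun x hx => ?_, ?_⟩
      · rw [mul_inv_rev, ← mul_assoc, mul_assoc t, mul_assoc t, c.ya, ← h.ta]; group
      · rw [mul_inv_rev, ← mul_assoc, mul_assoc t, mul_assoc t, c.yu, ← h.ut]; group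
      · rw [mul_inv_rev, ← mul_assoc, mul_assoc t, mul_assoc t, c.yv, ← h.vt]; group
      · rw [mul_inv_rev, ← mul_assoc, mul_assoc t, mul_assoc t, c.ys, ← h.st]; group
      · rw [mul_inv_rev, ← mul_assoc, mul_assoc t, mul_assoc t, c.yt,
          mul_inv_eq_iff_eq_mul, mul_assoc t,
          (show Commute u t from h.ut).mul_left (show Commute a t from h.ta)]
      · rcases hg (t⁻¹ * x) (mul_mem (inv_mem (hT ht)) hx) with k | k
        · exact Or.inl ((mul_mem_cancel_left (inv_mem ht)).1 k)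
        · exact Or.inr (by rwa [mul_inv_rev, mul_assoc])
      · calc t * y * (t * y) = t * (y * t * y⁻¹) * (y * y) := by group
          _ = 1 := by rw [c.yt, e, ← mul_assoc t, h.tt, one_mul, zz h.toTr]
    · exact ⟨y, c, yP, hg, e.1⟩
  obtain ⟨σ', s1, e1⟩ := sideN h.toLc c hP hT yP hg (yy ▸ one_mem _)
  obtain ⟨-, Z, k, h1⟩ := e1.resolve_left fun e => z_ne h.toTr (e.symm.trans yy)
  obtain ⟨ρ', s2, e2⟩ := sideN (lc_swap h.toLc) (c.swap h.toTr) hP (cl_swap a u v t s ▸ hT) yP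
    (cl_swap a u v t s ▸ hg) (yy ▸ one_mem _)
  obtain ⟨-, Z', k', h2⟩ := e2.resolve_left fun e => z_ne h.toTr.swap (e.symm.trans yy)
  have eP : cl [a, u, v, t, s, y] = P := le_antisymm (cl_le.2 fun x hx => by
    rcases List.mem_append.1 (show x ∈ [a, u, v, t, s] ++ [y] from hx) with hx | hx
    · exact hT (mem_cl hx)
    · exact List.mem_singleton.1 hx ▸ yP) fun x hx => (hg x hx).elim
      (fun e => cl_mono (by simp) e) fun e =>
        (mul_mem_cancel_left (inv_mem (mem_cl (y := y) (by simp)))).1 (cl_mono (by simp) e)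
  exact ⟨σ', ρ', y, Z, k, Z', k', ⟨⟨⟨⟨⟨h.toTr, s1, s2⟩, h.top⟩, h.nu, h.na⟩, h.narA, h.narB⟩,
    c.pres h.toTr yy, eP ▸ nd⟩, h1, h2⟩

end H57.DZ
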