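import Cfsg.Agent.H85.DZKit
import Cfsg.Agent.H30.DZL

/-! DZ: common lemmas for the slots DZ-N and DZ-W. -/

set_option autoImplicit false
set_option linter.unusedSectionVars false

namespace H57.DZ

open Subgroup Cfsg H14 H98 H1.Gold H31.S2 H85.FZ H49.D8 H85.DZ H62.FZ

universe u

variable {G : Type u} [Group G] [Finite G] {t v s u a σ ρ p q y d g x c : G} {P Q R : Subgroup G}

theorem T_le_N0 (h : Tr t v s u a) : cl [a, u, v, t, s] ≤ N0 t v s u a :=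
  le_inf (le_inf le_normalizer h.le_norA) h.le_norB

/-- A Sylow subgroup of `N₀` that is normalized by `d`. -/
theorem exP1 (h : H85.DZ.Loc t v s u a σ ρ) :
    ∃ P, IsSyl 2 P (N0 t v s u a) ∧ cl [a, u, v, t, s] ≤ P ∧ Nd t v s u a P := by
  have k : ∀ Q : Subgroup G, IsPGroup 2 Q → cl [a, u, v, t, s] ≤ Q → Q ≤ nor (cl [a, u, v, t, s]) →
      ∃ P, IsSyl 2 P (N0 t v s u a) ∧ cl [a, u, v, t, s] ≤ P ∧ Q ≤ nor P := fun Q h1 h2 h3 => by
    obtain ⟨S, hS, le⟩ := exists_isSyl_le h1 h3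
    have n : S ≤ nor (N0 t v s u a) := fun g hg => nor_N0 h.toTr (hS.le hg)
    refine ⟨S ⊓ N0 t v s u a, hS.inf_of_le_normalizer (inf_le_left.trans inf_le_left) n,
      le_inf (h2.trans le) (T_le_N0 h.toTr), fun g hg => ?_⟩
    rw [← cj_eq_self_iff, cj_inf, cj_eq_self_of_mem (le hg), cj_eq_self (n (le hg))]
  rcases h.top with e | ⟨d, e⟩
  · obtain ⟨P, h1, h2, -⟩ := k _ h.isPGroup le_rfl le_normalizer
    exact ⟨P, h1, h2, Or.inl e⟩
  · obtain ⟨P, h1, h2, h3⟩ := k _ e.syl.isPGroup (cl_mono (by simp)) (cl_le.2 fun y hy => by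
      rcases List.mem_append.1 (show y ∈ [a, u, v, t, s] ++ [d] from hy) with hy | hy
      · exact le_normalizer (mem_cl hy)
      · exact List.mem_singleton.1 hy ▸ e.norT)
    exact ⟨P, h1, h2, Or.inr ⟨d, h3 (mem_cl (by simp)), e⟩⟩

/-- An odd power of `g` is conjugate into the Sylow subgroup. -/
theorem ex2 {N : Subgroup G} (hP : IsSyl 2 P N) (hg : g ∈ N) :
    ∃ m, m % 4 = 1 ∧ ∃ n ∈ N, n * g ^ m * n⁻¹ ∈ P := by
  obtain ⟨m, h1, h2⟩ := two_odd g 1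
  obtain ⟨n, h3, h4⟩ := hP.exists_cj_le h2 (zpowers_le.2 (pow_mem hg m))
  exact ⟨m, h1, n, h3, h4 (conj_mem_cj (mem_zpowers _))⟩

theorem comm_mem {L : List G} (hn : ∀ y ∈ L, y ∈ nor Q) (h : ∀ y ∈ L, x * y * x⁻¹ * y⁻¹ ∈ Q) :
    ∀ y ∈ cl L, x * y * x⁻¹ * y⁻¹ ∈ Q := by
  let K : Subgroup G :=
    { carrier := {y | y ∈ nor Q ∧ x * y * x⁻¹ * y⁻¹ ∈ Q}
      one_mem' := ⟨one_mem _, by simp⟩
      mul_mem' := fun {y z} hy hz => ⟨mul_mem hy.1 hz.1, by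
        have := mul_mem hy.2 (conj_mem_of_mem_normalizer hy.1 hz.2)
        rwa [show x * y * x⁻¹ * y⁻¹ * (y * (x * z * x⁻¹ * z⁻¹) * y⁻¹) =
          x * (y * z) * x⁻¹ * (y * z)⁻¹ by group] at this⟩
      inv_mem' := fun {y} hy => ⟨inv_mem hy.1, by
        have := conj_mem_of_mem_normalizer (inv_mem hy.1) (inv_mem hy.2)
        rwa [show y⁻¹ * (x * y * x⁻¹ * y⁻¹)⁻¹ * y⁻¹⁻¹ = x * y⁻¹ * x⁻¹ * y⁻¹⁻¹ by group] at this⟩ }
  exact fun y hy => (cl_le (K := K).2 (fun y hy => ⟨hn y hy, h y hy⟩) hy).2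

theorem A_le_cen (h : Tr t v s u a) (hQ : Q ≤ cl [a, u, v, t]) : cl [a, u, v, t] ≤ cen Q :=
  fun _ hx => mem_cen_iff.2 fun _ hy => h.A_comm hx (hQ hy)

/-- The elements that stabilize the chain `⟨u⟩ ≤ A₀ ≤ A`. -/
structure Tv (t v u a x : G) : Prop where
  xu : x * u * x⁻¹ = u
  xa : x * a * x⁻¹ = a ∨ x * a * x⁻¹ = a * u
  xv : x * v * x⁻¹ = v ∨ x * v * x⁻¹ = v * u
  xt : x * t * x⁻¹ * t⁻¹ ∈ cl [a, u, v]

theorem Tv.triv (h : Tr t v s u a) (k : Tv t v u a x) :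
    Triv x ⊥ ([cl [u], cl [a, u, v]] ++ [cl [a, u, v, t]]) := by
  have n : ∀ {Q : Subgroup G}, Q ≤ cl [a, u, v, t] → ∀ y ∈ [a, u, v, t], y ∈ nor Q := fun hQ y hy =>
    centralizer_le_normalizer _ (A_le_cen h hQ (mem_cl hy))
  have hu : u ∈ cl [u] := mem_cl (by simp)
  have l : cl [u] ≤ cl [a, u, v] := cl_mono (by simp)
  have e1 : x * u * x⁻¹ * u⁻¹ = 1 := by rw [k.xu, mul_inv_cancel]
  have e2 : x * a * x⁻¹ * a⁻¹ ∈ cl [u] := by
    rcases k.xa with e | e <;> rw [e]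
    · simp
    · rwa [h.au, mul_inv_cancel_right]
  have e3 : x * v * x⁻¹ * v⁻¹ ∈ cl [u] := by
    rcases k.xv with e | e <;> rw [e]
    · simp
    · rwa [← h.uv, mul_inv_cancel_right]
  refine ⟨comm_mem (fun y hy => n bot_le y (by simp at hy; simp [hy])) ?_,
    comm_mem (fun y hy => n (cl_mono (by simp)) y (List.mem_append_left [t] hy)) ?_,
    comm_mem (n (cl_mono (by simp))) ?_, trivial⟩ <;>
    simp only [List.mem_cons, List.not_mem_nil, or_false, forall_eq_or_imp, forall_eq]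
  · exact e1 ▸ one_mem _
  · exact ⟨e2, e1 ▸ one_mem _, e3⟩
  · exact ⟨l e2, e1 ▸ one_mem _, l e3, k.xt⟩

theorem half_mul (h : Half' t v s u a σ) (hc : c ∈ cen (cl [a, u, v, t])) :
    Half' t v s u a (c * σ) := by
  have k : ∀ x ∈ [a, u, v, t], ∀ y ∈ cl [a, u, v, t], σ * x * σ⁻¹ = y →
      c * σ * x * (c * σ)⁻¹ = y := fun x _ y hy e => by
    rw [show c * σ * x * (c * σ)⁻¹ = c * (σ * x * σ⁻¹) * c⁻¹ by group, e, mem_cen_iff.1 hc y hy,
      mul_inv_cancel_right]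
  have m : ∀ x ∈ [a, u, v, t], x ∈ cl [a, u, v, t] := fun x => mem_cl
  exact ⟨k t (by simp) _ (m _ (by simp)) h.σt, k u (by simp) _ (m _ (by simp)) h.σu,
    k a (by simp) _ (mul_mem (m _ (by simp)) (m _ (by simp))) h.σa,
    k v (by simp) _ (mul_mem (m _ (by simp)) (mul_mem (m _ (by simp)) (m _ (by simp)))) h.σv,
    h.syl, h.nV⟩

/-- `s` on `A`. -/
theorem act_s (h : Tr t v s u a) (l : List G) :
    Act (val (a :: u :: v :: t :: l)) s [0, 1, 2, 3] [(2, [2, 1, 0])] := by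
  simp only [Act, List.mem_cons, List.not_mem_nil, or_false, forall_eq_or_imp, forall_eq]
  wsimp
  refine ⟨by rw [← h.sa]; group, by rw [← h.us]; group, ?_, by rw [h.st]; group⟩
  rw [inv_eq_of_mul_eq_one_right h.ss, mul_assoc, h.vs, ← mul_assoc, h.ss, one_mul]

/-- The data on one side. -/
structure Sd (t v s u a σ : G) (P R : Subgroup G) : Prop where
  half : Half' t v s u a σ
  two : IsPGroup 2 R
  σR : σ ∈ nor R
  σ3 : σ * σ * σ ∈ cen R
  σs : s * σ * s = σ⁻¹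
  mem : ∀ x ∈ P, Tv t v u a x → x ∈ R

theorem exSd (h : Lc t v s u a σ ρ) (hP : IsPGroup 2 P)
    (hT : cl [a, u, v, t, s] ≤ P) (nA : P ≤ nor (cl [a, u, v, t])) (n0 : P ≤ nor (cl [a, u, v]))
    (nu : ∀ x ∈ P, x * u * x⁻¹ = u) : ∃ σ' R, Sd t v s u a σ' P R := by
  have hL := H30.DZ.jobL.{u}
  have A2 : IsPGroup 2 (cl [a, u, v, t]) := IsPGroup.of_card (n := 4) h.cardA
  obtain ⟨K, hK, mK, nK⟩ := hL.stab G [cl [u], cl [a, u, v]] (cl [a, u, v, t]) (by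
    simp only [List.cons_append, List.nil_append, List.isChain_cons_cons, List.isChain_singleton]
    exact ⟨bot_le, cl_mono (by simp), cl_mono (by simp), trivial⟩) A2
  have fu : ∀ {x : G}, x * u * x⁻¹ = u → x ∈ nor (cl [u]) := fun {x} e =>
    centralizer_le_normalizer _ (le_cen1_iff.1 (cl_le.2 (by
      simpa [mem_cen1] using (mul_inv_eq_iff_eq_mul.1 e).symm)))
  have PK : P ≤ nor K := fun x hx => nK x (by simpa using ⟨fu (nu x hx), n0 hx, nA hx⟩)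
  obtain ⟨R, hR, PR, le, -⟩ := hL.lift0 G _ K P hK hP PK
  have hs : s ∈ P := hT (mem_cl (by simp))
  have P4 := presA h.toTr []
  have aσ := hact h.A []
  have as := act_s h.toTr []
  obtain ⟨c, hc, c1, c2, c3⟩ := hL.lift G _ K R s σ hK ((A_le_cen h.toTr le_rfl).trans hK.ge)
    (fun x x1 x2 => ca2 h (hR.isPGroup.to_le (inf_le_left (b := cen (cl [a, u, v, t]))))
      inf_le_right ⟨x2, x1⟩) hR (PR hs) (nA hs) h.ss
    (nK σ (by simpa using ⟨fu h.A.σu, hnorA0 h.A, hnorA h.A⟩)) (hnorA h.A)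
    (by rw [mul_assoc]; exact cen_of_act (act_agree P4 (act_cp P4 aσ (act_cp P4 aσ aσ rfl) rfl) rfl))
    (by rw [mul_assoc, mul_assoc]
        exact cen_of_act (act_agree P4 (act_cp P4 as (act_cp P4 aσ (act_cp P4 as aσ rfl) rfl) rfl) rfl))
  exact ⟨c * σ, R, half_mul h.A hc, hR.isPGroup, c1, c3, c2,
    fun x hx k => le ⟨hx, (mK x).2 (k.triv h.toTr)⟩⟩

end H57.DZ
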