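/- Counting lemmas for the local analysis of a group of order `443520`. -/
import Cfsg.Agent.H45.MSpec

set_option autoImplicit false

namespace H57.L22
open Subgroup Cfsg H98 H96.CG

variable {G : Type*} [Group G] [Finite G]

theorem mem_cen1 {a g : G} : g ∈ cen1 a ↔ g * a = a * g := mem_centralizer_singleton_iff

theorem cen_zpowers (a : G) : cen (zpowers a) = cen1 a := by
  rw [zpowers_eq_closure]; exact centralizer_closure _

theorem cj_cen1 (g a : G) : cj g (cen1 a) = cen1 (g * a * g⁻¹) := by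
  ext t
  rw [mem_cj, mem_cen1, mem_cen1]
  constructor <;> intro h
  · calc t * (g * a * g⁻¹) = g * (g⁻¹ * t * g * a) * g⁻¹ := by group
      _ = _ := by rw [h]; group
  · calc g⁻¹ * t * g * a = g⁻¹ * (t * (g * a * g⁻¹)) * g := by group
      _ = _ := by rw [h]; group

theorem ncard_diff {K L : Subgroup G} (h : L ≤ K) :
    ((K : Set G) \ L).ncard = Nat.card K - Nat.card L := by
  rw [Set.ncard_sdiff h]; rfl

/-- a group acting on `K ∖ H` whose order does not divide the number of points is not free -/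
theorem exists_fix {S K H : Subgroup G} (hK : S ≤ nor K) (hH : S ≤ nor H) (hHK : H ≤ K)
    (h : ¬ Nat.card S ∣ Nat.card K - Nat.card H) :
    ∃ k ∈ K, k ∉ H ∧ ∃ s ∈ S, s ≠ 1 ∧ s * k = k * s := by
  by_contra hc
  push Not at hc
  let act : MulAction S ((K : Set G) \ H : Set G) :=
    { smul := fun s k => ⟨s * k * (s : G)⁻¹, conj_mem_of_mem_normalizer (hK s.2) k.2.1, fun hm =>
        k.2.2 (by simpa [mul_assoc] using conj_mem_of_mem_normalizer' (hH s.2) hm)⟩
      one_smul := fun k => Subtype.ext (by change ((1 : S) : G) * k * ((1 : S) : G)⁻¹ = k; simp)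
      mul_smul := fun s t k => Subtype.ext (by
        change ((s * t : S) : G) * k * ((s * t : S) : G)⁻¹ = s * (t * k * (t : G)⁻¹) * (s : G)⁻¹
        simp [mul_assoc]) }
  have e := Nat.card_congr (MulAction.selfEquivOrbitsQuotientProd (G := S)
    (X := ((K : Set G) \ H : Set G)) fun b => eq_bot_iff.2 fun s hs => by
      by_contra h1
      have h2 : (s : G) * b * (s : G)⁻¹ = b := congrArg Subtype.val hs
      exact hc b b.2.1 b.2.2 s s.2 (fun h3 => h1 (Subtype.ext h3)) (mul_inv_eq_iff_eq_mul.1 h2))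
  rw [Nat.card_prod, Nat.card_coe_set_eq, ncard_diff hHK] at e
  exact h (e ▸ dvd_mul_left _ _)

theorem relIndex_cen1 (x : G) (D : Subgroup G) :
    (cen1 x).relIndex D = ((fun d => d * x * d⁻¹) '' (D : Set G)).ncard := by
  have h := @MulAction.index_stabilizer D G _
    (MulAction.compHom G ((MulAut.conj : G →* MulAut G).comp D.subtype)) x
  convert h using 2
  · unfold Subgroup.relIndex
    congr 1
    ext d
    rw [mem_subgroupOf, mem_cen1]
    exact mul_inv_eq_iff_eq_mul.symm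
  · ext z
    exact ⟨fun ⟨d, hd, he⟩ => ⟨⟨d, hd⟩, he⟩, fun ⟨d, he⟩ => ⟨d, d.2, he⟩⟩

theorem cl_sub {H K L : Subgroup G} (hK : H ≤ nor K) (hL : H ≤ nor L) {a : G} (ha : a ∈ K)
    (ha' : a ∉ L) : (fun d => d * a * d⁻¹) '' (H : Set G) ⊆ (K : Set G) \ L := by
  rintro _ ⟨d, hd, rfl⟩
  exact ⟨conj_mem_of_mem_normalizer (hK hd) ha, fun hm =>
    ha' (by simpa [mul_assoc] using conj_mem_of_mem_normalizer' (hL hd) hm)⟩

theorem idx_le {H K L : Subgroup G} (hK : H ≤ nor K) (hL : H ≤ nor L) (h : L ≤ K) {a : G}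
    (ha : a ∈ K) (ha' : a ∉ L) : (cen1 a).relIndex H ≤ Nat.card K - Nat.card L := by
  rw [relIndex_cen1, ← ncard_diff h]
  exact Set.ncard_le_ncard (cl_sub hK hL ha ha')

theorem trans_of_idx {H K L : Subgroup G} (hK : H ≤ nor K) (hL : H ≤ nor L) (h : L ≤ K) {a : G}
    (ha : a ∈ K) (ha' : a ∉ L) (e : (cen1 a).relIndex H = Nat.card K - Nat.card L) {b : G}
    (hb : b ∈ K) (hb' : b ∉ L) : ∃ d ∈ H, d * a * d⁻¹ = b := by
  rw [relIndex_cen1, ← ncard_diff h] at e
  have := Set.eq_of_subset_of_ncard_le (cl_sub hK hL ha ha') e.ge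
  exact (this ▸ (⟨hb, hb'⟩ : b ∈ (K : Set G) \ L) : b ∈ (fun d => d * a * d⁻¹) '' (H : Set G))

theorem exists_core (H X : Subgroup G) :
    ∃ K ≤ X, K ≤ H ∧ H ≤ nor K ∧ K.relIndex H ∣ (X.relIndex H).factorial := by
  refine ⟨(X.subgroupOf H).normalCore.map H.subtype, ?_, map_subtype_le _,
    le_normalizer_map_subtype _, ?_⟩
  · rintro _ ⟨a, ha, rfl⟩
    exact normalCore_le (X.subgroupOf H) ha
  · rw [relIndex, ← comap_subtype, comap_map_eq_self_of_injective H.subtype_injective,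
      normalCore_eq_ker, index_ker, relIndex, Subgroup.index, ← Nat.card_perm]
    exact card_subgroup_dvd_card _

theorem burn {p : ℕ} [Fact p.Prime] {T H : Subgroup G} (hT : IsSyl p T H)
    (h : H ⊓ nor T ≤ cen T) : ∃ K ≤ H, H ≤ nor K ∧ Nat.card K * Nat.card T = Nat.card H := by
  obtain ⟨P, hP⟩ := hT.exists_sylow
  have hN : normalizer ((P : Subgroup H) : Set H) ≤ centralizer ((P : Subgroup H) : Set H) := by
    rw [hP, ← subgroupOf_normalizer_eq hT.le, centralizer_subgroupOf hT.le]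
    exact fun x hx => h ⟨x.2, hx⟩
  have c := (MonoidHom.ker_transferSylow_isComplement' P hN).card_mul_card
  refine ⟨(MonoidHom.transferSylow P hN).ker.map H.subtype, map_subtype_le _,
    le_normalizer_map_subtype _, ?_⟩
  have e : Nat.card (P : Subgroup H) = Nat.card T := by
    rw [hP, Nat.card_congr (subgroupOfEquivOfLe hT.le).toEquiv]
  rw [card_map_of_injective H.subtype_injective, ← c, e]

theorem relIndex_nor_modEq {p : ℕ} [Fact p.Prime] {T H : Subgroup G} (hT : IsSyl p T H) :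
    (nor T).relIndex H ≡ 1 [MOD p] := by
  obtain ⟨P, hP⟩ := hT.exists_sylow
  have h1 := card_sylow_modEq_one p H
  rw [P.card_eq_index_normalizer] at h1
  change (normalizer ((P : Subgroup H) : Set H)).index ≡ 1 [MOD p] at h1
  rwa [hP, ← subgroupOf_normalizer_eq hT.le] at h1

theorem exists_of_relIndex_le {T A N : Subgroup G} (hAN : A ≤ N)
    (h : T.relIndex N ≤ T.relIndex A) : ∀ n ∈ N, ∃ a ∈ A, a⁻¹ * n ∈ T := by
  intro n hn
  have hb : Function.Bijective (quotientSubgroupOfEmbeddingOfLE T hAN) :=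
    (Nat.bijective_iff_injective_and_card _).mpr ⟨(quotientSubgroupOfEmbeddingOfLE T hAN).injective,
      le_antisymm (relIndex_le_of_le_right hAN index_ne_zero_of_finite) h⟩
  obtain ⟨q, hq⟩ := hb.2 ((⟨n, hn⟩ : N) : N ⧸ T.subgroupOf N)
  obtain ⟨a, rfl⟩ := QuotientGroup.mk_surjective q
  rw [quotientSubgroupOfEmbeddingOfLE_apply_mk] at hq
  have h2 := QuotientGroup.eq.mp hq
  exact ⟨a, a.2, h2⟩

theorem le_nor_of_two {K H : Subgroup G} (h : K ≤ H) (e : Nat.card H = 2 * Nat.card K) :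
    H ≤ nor K := by
  have h1 := H12.card_mul_relIndex h
  have h2 : 0 < Nat.card K := Nat.card_pos
  have : (K.subgroupOf H).Normal := normal_of_index_eq_two (by
    change K.relIndex H = 2; nlinarith)
  exact (normal_subgroupOf_iff_le_normalizer h).1 this

theorem card_lt {K H : Subgroup G} (h : K < H) : Nat.card K < Nat.card H :=
  lt_of_le_of_ne (card_le_of_le h.le) fun e => h.ne (eq_of_le_of_card_ge h.le e.ge)

theorem exists_inv {U : Subgroup G} (hU : IsPGroup 2 U) (h : U ≠ ⊥) : ∃ a ∈ U, orderOf a = 2 := by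
  obtain ⟨a, ha, h1, h2⟩ := exists_mem_pow_eq_one hU h
  exact ⟨a, ha, orderOf_eq_prime h2 h1⟩

theorem zp_le {a : G} {H K : Subgroup G} (ha : a ∈ H) (h : H ≤ K) : zpowers a ≤ K :=
  zpowers_le.2 (h ha)

theorem two_of_dvd {U : Subgroup G} (h : Nat.card U ∣ 128) : IsPGroup 2 U := by
  obtain ⟨k, -, e⟩ := (Nat.dvd_prime_pow Nat.prime_two (m := 7)).1 h
  exact IsPGroup.of_card e

end H57.L22
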