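/- Local analysis of a group with `D22`: elements of order three and centralizers of involutions. -/
import Cfsg.Agent.H57.ML22a

set_option autoImplicit false

namespace H57.L22
open Subgroup Cfsg H98 H96.CG H45.EX

universe u

variable {G : Type u} [Group G] [Finite G]

instance : Fact (Nat.Prime 3) := ⟨Nat.prime_three⟩

/-- `O₂(C(y))` -/
def O (y : G) : Subgroup G := pCoreOf 2 (cen1 y)

theorem O_le (y : G) : O y ≤ cen1 y := pCoreOf_le _
theorem O_two (y : G) : IsPGroup 2 (O y) := isPGroup_pCoreOf _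
theorem O_nor (y : G) : cen1 y ≤ nor (O y) := self_le_normalizer_pCoreOf _
theorem O_nor' (y : G) : nor (zpowers y) ≤ nor (O y) := by
  have := normalizer_le_normalizer_centralizer (zpowers y)
  rw [show centralizer (zpowers y : Set G) = cen1 y from cen_zpowers y] at this
  exact le_normalizer_pCoreOf this

theorem self_cen1 (y : G) : y ∈ cen1 y := mem_cen1.2 rfl

theorem cen1_nor (y : G) : cen1 y ≤ nor (zpowers y) :=
  cen_zpowers y ▸ centralizer_le_normalizer _

theorem zp_two {z : G} (hz : orderOf z = 2) : IsPGroup 2 (zpowers z) :=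
  IsPGroup.of_card (n := 1) (by rw [Nat.card_zpowers, hz]; rfl)

theorem zp_three {z : G} (hz : orderOf z = 3) : IsPGroup 3 (zpowers z) :=
  IsPGroup.of_card (n := 1) (by rw [Nat.card_zpowers, hz]; rfl)

theorem comm9 {P : Subgroup G} (hP : Nat.card P = 9) : P ≤ cen P := by
  have := IsPGroup.isMulCommutative_of_card_eq_prime_sq (p := 3) (G := P) hP
  exact le_centralizer P

theorem eq_sup_zp {p : ℕ} (hp : p.Prime) {P Y : Subgroup G} (hP : Nat.card P = p ^ 2)
    (hY : Nat.card Y = p) (h : Y ≤ P) {k : G} (hk : k ∈ P) (hk' : k ∉ Y) : Y ⊔ zpowers k = P := by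
  have h1 : Y ⊔ zpowers k ≤ P := sup_le h (zpowers_le.2 hk)
  have h2 := card_lt (show Y < Y ⊔ zpowers k from
    lt_of_le_of_ne le_sup_left fun e => hk' (e ▸ mem_sup_right (mem_zpowers k)))
  obtain ⟨j, hj, e⟩ := (Nat.dvd_prime_pow hp).1 (hP ▸ card_dvd_of_le h1)
  refine eq_of_le_of_card_ge h1 ?_
  rw [hP, e]
  rw [e, hY] at h2
  have := hp.one_lt
  interval_cases j <;> simp at h2 ⊢; omega

section
variable (h : D22 G)
include h

theorem dvd_card (U : Subgroup G) : Nat.card U ∣ 443520 := h.card ▸ card_subgroup_dvd_card U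

theorem two_dvd {U : Subgroup G} (hU : IsPGroup 2 U) : Nat.card U ∣ 128 := by
  obtain ⟨k, e⟩ := IsPGroup.iff_card.1 hU
  have := dvd_card h U
  rw [e] at this ⊢
  exact (Nat.Coprime.pow_left k (by norm_num : Nat.Coprime 2 3465)).dvd_of_dvd_mul_right
    (by simpa using this)

theorem no9 {z : G} (hz : orderOf z = 2) {P : Subgroup G} (hP : Nat.card P = 9) :
    ¬ P ≤ cen1 z := fun k => by
  have := card_dvd_of_le k
  rw [hP, h.c2 z hz] at this
  omega

theorem no9' {U P : Subgroup G} (hU : IsPGroup 2 U) (hP : Nat.card P = 9) (k : U ≤ cen P) :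
    U = ⊥ := by
  by_contra h1
  obtain ⟨a, ha, h2⟩ := exists_inv hU h1
  exact no9 h h2 hP fun g hg => mem_cen1.2 (k ha g hg)

theorem c36 {x : G} (hx : orderOf x = 3) {U : Subgroup G} (hU : IsPGroup 2 U) (h1 : U ≠ ⊥)
    (k : U ≤ cen1 x) : Nat.card (cen1 x) = 36 := by
  obtain ⟨a, ha, h2⟩ := exists_inv hU h1
  have := orderOf_dvd_natCard (⟨a, k ha⟩ : cen1 x)
  rw [orderOf_mk, h2] at this
  rcases h.c3 x hx with e | e <;> omega

end

/-- an element of order three with centralizer of order `36` -/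
structure T3 (y : G) : Prop where
  h : D22 G
  o : orderOf y = 3
  c : Nat.card (cen1 y) = 36

namespace T3
variable {y : G} (t : T3 y)
include t

theorem syl {P : Subgroup G} (hP : Nat.card P = 9) (k : P ≤ cen1 y) : IsSyl 3 P (cen1 y) :=
  isSyl_of_not_dvd_relIndex k (IsPGroup.of_card (n := 2) hP) (by
    have := H12.card_mul_relIndex k
    rw [hP, t.c] at this
    omega)

theorem exP : ∃ P : Subgroup G, Nat.card P = 9 ∧ P ≤ cen1 y := by
  obtain ⟨P, hP⟩ := exists_isSyl 3 (cen1 y)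
  obtain ⟨k, e⟩ := IsPGroup.iff_card.1 hP.isPGroup
  have h1 := hP.not_dvd_relIndex
  have h2 := H12.card_mul_relIndex hP.le
  rw [t.c, e] at h2
  refine ⟨P, e.trans ?_, hP.le⟩
  have : k ≤ 3 := by
    by_contra hk
    have : 3 ^ 4 ∣ 3 ^ k := pow_dvd_pow _ (by omega)
    have := this.trans (Dvd.intro _ h2)
    omega
  interval_cases k <;> omega

theorem mem_P {P : Subgroup G} (hP : Nat.card P = 9) (k : P ≤ cen1 y) : zpowers y ≤ P :=
  (t.syl hP k).le_of_le_normalizer (zp_three t.o) (zpowers_le.2 (self_cen1 y))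
    (k.trans (cen1_nor y))

theorem selfn {P : Subgroup G} (hP : Nat.card P = 9) (k : P ≤ cen1 y) : cen1 y ⊓ nor P ≤ P := by
  have h1 := relIndex_nor_modEq (t.syl hP k)
  have h2 := H12.card_inf_mul_relIndex (nor P) (cen1 y)
  have h3 : P ≤ nor P ⊓ cen1 y := le_inf le_normalizer k
  obtain ⟨c, h4⟩ := card_dvd_of_le h3
  rw [t.c, h4, hP] at h2
  rw [inf_comm]
  by_cases hc : c = 1
  · exact (eq_of_le_of_card_ge h3 (by rw [h4, hc, mul_one])).ge
  exfalso
  have h5 : (nor P).relIndex (cen1 y) = 1 := by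
    have h6 : c * (nor P).relIndex (cen1 y) = 4 := by nlinarith
    have h7 := Nat.le_of_dvd (by norm_num) (Dvd.intro _ h6)
    unfold Nat.ModEq at h1
    interval_cases c <;> omega
  rw [relIndex_eq_one] at h5
  obtain ⟨S, hS⟩ := exists_isSyl 2 (cen1 y)
  have h8 : ¬ Nat.card S ∣ Nat.card P - Nat.card (zpowers y) := by
    have h9 := hS.not_dvd_relIndex
    have h10 := H12.card_mul_relIndex hS.le
    rw [hP, Nat.card_zpowers, t.o]
    rw [t.c] at h10
    intro hd
    have := Nat.le_of_dvd (by norm_num) hd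
    interval_cases Nat.card S <;> omega
  obtain ⟨a, ha, ha', s, hs, h9, h10⟩ :=
    exists_fix (hS.le.trans h5) (hS.le.trans (cen1_nor y)) (t.mem_P hP k) h8
  refine h9 (mem_bot.1 (no9' t.h (hS.isPGroup.to_le (zpowers_le.2 hs)) hP ?_ ▸ mem_zpowers s))
  rw [← eq_sup_zp Nat.prime_three hP (by rw [Nat.card_zpowers, t.o]) (t.mem_P hP k) ha ha',
    zpowers_le]
  change s ∈ centralizer _
  rw [centralizer_sup]
  exact ⟨(cen_zpowers y).ge (hS.le hs), (cen_zpowers a).ge (mem_cen1.2 h10)⟩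

theorem osyl : Nat.card (O y) = 4 ∧ IsSyl 2 (O y) (cen1 y) := by
  obtain ⟨P, hP, k⟩ := t.exP
  obtain ⟨K, h1, h2, h3⟩ := burn (t.syl hP k) ((t.selfn hP k).trans (comm9 hP))
  rw [hP, t.c] at h3
  have h4 : Nat.card K = 4 := by omega
  have h5 : IsSyl 2 K (cen1 y) := isSyl_of_not_dvd_relIndex h1 (IsPGroup.of_card (n := 2) h4) (by
    have := H12.card_mul_relIndex h1
    rw [h4, t.c] at this
    omega)
  have h6 : K = O y := h5.eq_pCoreOf h2
  exact h6 ▸ ⟨h4, h5⟩

theorem card : Nat.card (O y) = 4 := t.osyl.1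

theorem le_O {U : Subgroup G} (hU : IsPGroup 2 U) (k : U ≤ cen1 y) : U ≤ O y :=
  t.osyl.2.le_of_le_normalizer' hU k (k.trans (O_nor y))

/-- a subgroup of order nine acts irreducibly on `O y` -/
theorem irr {P W : Subgroup G} (hP : Nat.card P = 9) (k : P ≤ nor (O y)) (hW : P ≤ nor W)
    (h1 : W ⊓ O y ≠ ⊥) : O y ≤ W := by
  have h2 := card_dvd_of_le (inf_le_right : W ⊓ O y ≤ O y)
  have h3 := Nat.le_of_dvd (t.card ▸ by norm_num) h2
  by_cases h4 : Nat.card ↥(W ⊓ O y) = 4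
  · exact (eq_of_le_of_card_ge inf_le_right (t.card.trans h4.symm).le).ge.trans inf_le_left
  exfalso
  rw [t.card] at h2 h3
  have h5 : Nat.card ↥(W ⊓ O y) ≠ 1 := by rwa [Ne, card_eq_one]
  have h6 : Nat.card ↥(W ⊓ O y) = 2 := by interval_cases Nat.card ↥(W ⊓ O y) <;> omega
  obtain ⟨a, ha, h7⟩ := exists_inv ((O_two y).to_le inf_le_right) h1
  have h8 := idx_le (le_normalizer_inf hW k) (le_normalizer_bot P) bot_le ha
    (fun e => by rw [mem_bot.1 e, orderOf_one] at h7; omega)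
  rw [h6, card_bot] at h8
  have h9 : (cen1 a).relIndex P ≠ 0 := index_ne_zero_of_finite
  exact no9 t.h h7 hP (relIndex_eq_one.1 (by omega))

theorem ne_bot : O y ≠ ⊥ := fun e => by
  have := t.card
  rw [e, card_bot] at this
  omega

theorem ea : IsElementaryAbelian 2 (O y) := by
  obtain ⟨P, hP, k⟩ := t.exP
  have h1 := t.irr hP (k.trans (O_nor y)) (le_normalizer_oz (p := 2) (k.trans (O_nor y))) (by
    rw [inf_eq_left.2 (oz_le _)]; exact oz_ne_bot (O_two y) t.ne_bot)
  rw [le_antisymm h1 (oz_le _)]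
  exact ea_oz _

theorem comm : O y ≤ cen (O y) := by
  have := t.ea.1
  exact le_centralizer _

/-- invariant `2`-groups over `O y` -/
theorem inv {U : Subgroup G} (hU : IsPGroup 2 U) (k : y ∈ nor U) (h1 : O y ≤ U) :
    Nat.card U = 4 ∨ Nat.card U = 16 ∨ Nat.card U = 64 := by
  have h2 := H83.Ord.conj_modEq (p := 3) (t.o ▸ pow_orderOf_eq_one y) k
  rw [le_antisymm (t.le_O (hU.to_le inf_le_left) inf_le_right) (le_inf h1 (O_le y)), t.card] at h2
  obtain ⟨j, hj, e⟩ := (Nat.dvd_prime_pow Nat.prime_two (m := 7)).1 (two_dvd t.h hU)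
  have h3 := card_le_of_le h1
  rw [t.card] at h3
  rw [e] at h2 h3 ⊢
  unfold Nat.ModEq at h2
  interval_cases j <;> omega

end T3

/-- fixed points of a group of order nine on a `2`-group -/
theorem fix9 (h : D22 G) {P K H : Subgroup G} (hP : Nat.card P = 9) (hK : IsPGroup 2 K)
    (h1 : P ≤ nor K) (h2 : P ≤ nor H) (h3 : H ≤ K) (h4 : ¬ 9 ∣ Nat.card K - Nat.card H) :
    ∃ y ∈ P, T3 y ∧ ∃ e ∈ O y, e ∈ K ∧ e ∉ H := by
  obtain ⟨e, he, he', y, hy, h5, h6⟩ := exists_fix h1 h2 h3 (hP ▸ h4)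
  have h7 : IsPGroup 2 (zpowers e) := hK.to_le (zpowers_le.2 he)
  have h8 : zpowers e ≠ ⊥ := fun k => he' (zpowers_eq_bot.1 k ▸ one_mem H)
  have h9 : zpowers e ≤ cen1 y := zpowers_le.2 (mem_cen1.2 h6.symm)
  have h10 : orderOf y = 3 := by
    have h11 := card_dvd_of_le (zpowers_le.2 hy)
    have h12 : Nat.card (zpowers y) ≠ 9 := fun k => h8 (no9' h h7 k (cen_zpowers y ▸ h9))
    rw [Nat.card_zpowers] at h11 h12
    rw [hP] at h11
    have h13 := Nat.le_of_dvd (by norm_num) h11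
    have h14 : orderOf y ≠ 1 := by rwa [Ne, orderOf_eq_one_iff]
    interval_cases orderOf y <;> omega
  have t : T3 y := ⟨h, h10, c36 h h10 h7 h8 h9⟩
  exact ⟨y, hy, t, e, t.le_O h7 h9 (mem_zpowers e), he, he'⟩

/-- an involution `z` and an element `x` of order three in its centralizer -/
structure Pr (z x : G) : Prop where
  h : D22 G
  oz : orderOf z = 2
  o : orderOf x = 3
  xz : x ∈ cen1 z

namespace Pr
variable {z x : G} (p : Pr z x)
include p

theorem zx : zpowers z ≤ cen1 x := zpowers_le.2 (mem_cen1.2 (mem_cen1.1 p.xz).symm)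

theorem z1 : z ≠ 1 := fun e => by
  have := p.oz
  rw [e, orderOf_one] at this
  omega

theorem t : T3 x := ⟨p.h, p.o, c36 p.h p.o (zp_two p.oz) (zpowers_ne_bot.2 p.z1) p.zx⟩

theorem zV : z ∈ O x := p.t.le_O (zp_two p.oz) p.zx (mem_zpowers z)

theorem cV : cen (O x) ≤ cen1 z := centralizer_le (Set.singleton_subset_iff.2 p.zV)

theorem VC : O x ≤ cen1 z := p.t.comm.trans p.cV

theorem aux {U : Subgroup G} (hU : IsPGroup 2 U) (k : x ∈ nor U) (h1 : U ≤ cen1 z)
    (h2 : O x ≤ U ⊔ O z) : U ≤ O z ∧ Nat.card (O z) = 64 := by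
  obtain ⟨T, hT⟩ := exists_isSyl 2 (cen1 z)
  obtain ⟨K, h3, h4, h5, h6⟩ := exists_core (cen1 z) T
  have h7 := H12.card_mul_relIndex hT.le
  have h8 := H12.card_mul_relIndex h4
  have h9 := hT.not_dvd_relIndex
  obtain ⟨j, hj, e⟩ := (Nat.dvd_prime_pow Nat.prime_two (m := 7)).1 (two_dvd p.h hT.isPGroup)
  rw [p.h.c2 z p.oz] at h7 h8
  have h10 : T.relIndex (cen1 z) = 3 := by
    rw [e] at h7
    interval_cases j <;> omega
  rw [h10] at h6
  have h11 := Nat.le_of_dvd (by norm_num) h6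
  have h12 : _ ≤ Nat.card (O z) := card_le_of_le (le_pCoreOf (hT.isPGroup.to_le h3) h4 h5)
  have h13 : 64 ≤ Nat.card (O z) := by
    change _ ≤ 6 at h11
    have := Nat.mul_le_mul_left (Nat.card K) h11
    omega
  have h14 := p.t.inv (hU.to_sup_of_normal_right' (O_two z) (h1.trans (O_nor z)))
    (le_normalizer_sup (H := zpowers x) (zpowers_le.2 k) (zp_le p.xz (O_nor z)) (mem_zpowers x)) h2
  have h15 := card_le_of_le (le_sup_right : O z ≤ U ⊔ O z)
  exact ⟨le_sup_left.trans (eq_of_le_of_card_ge le_sup_right (by omega)).ge, by omega⟩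

theorem VQ : O x ≤ O z := (p.aux (O_two x) (O_nor x (self_cen1 x)) p.VC le_sup_left).1

theorem cQ : Nat.card (O z) = 64 := (p.aux (O_two x) (O_nor x (self_cen1 x)) p.VC le_sup_left).2

theorem le_Q {U : Subgroup G} (hU : IsPGroup 2 U) (k : x ∈ nor U) (h1 : U ≤ cen1 z) : U ≤ O z :=
  (p.aux hU k h1 (p.VQ.trans le_sup_right)).1

theorem xQ : zpowers x ≤ nor (O z) := zp_le p.xz (O_nor z)

theorem xV : zpowers x ≤ nor (O x) := zp_le (self_cen1 x) (O_nor x)

theorem half {H : Subgroup G} (h1 : H ≤ cen1 z) (h2 : H ≤ nor (O x)) :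
    Nat.card H ≤ 2 * Nat.card ↥(cen (O x) ⊓ H) := by
  have hz : Nat.card (zpowers z) = 2 := by rw [Nat.card_zpowers, p.oz]
  obtain ⟨a, ha, ha'⟩ := SetLike.exists_of_lt (lt_of_le_of_ne (zpowers_le.2 p.zV) fun e => by
    have := p.t.card
    rw [← e, hz] at this
    omega)
  have h3 := idx_le h2 (h1.trans (cen1_nor z)) (zpowers_le.2 p.zV) ha ha'
  rw [p.t.card, hz] at h3
  have h4 := H12.card_inf_mul_relIndex (cen1 a) H
  have h5 : cen1 a ⊓ H ≤ cen (O x) ⊓ H := le_inf (by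
    rw [← eq_sup_zp Nat.prime_two p.t.card hz (zpowers_le.2 p.zV) ha ha']
    change _ ≤ centralizer _
    rw [centralizer_sup]
    exact le_inf (inf_le_right.trans (h1.trans (cen_zpowers z).ge))
      (inf_le_left.trans (cen_zpowers a).ge)) inf_le_right
  have h6 := card_le_of_le h5
  nlinarith

/-- an invariant subgroup of order `16` is normal in `O z` -/
theorem le_nor16 {F : Subgroup G} (hF : Nat.card F = 16) (k : x ∈ nor F) (h1 : O x ≤ F)
    (h2 : F ≤ cen1 z) : O z ≤ nor F := by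
  have h3 := p.le_Q (IsPGroup.of_card (n := 4) hF) k h2
  have h4 := lt_inf_normalizer (O_two z) (lt_of_le_of_ne h3 fun e => by
    have := p.cQ
    rw [← e, hF] at this
    omega)
  have h5 := p.t.inv ((O_two z).to_le (inf_le_left : O z ⊓ normalizer (F : Set G) ≤ _))
    (le_normalizer_inf p.xQ (le_normalizer_normalizer (zpowers_le.2 k)) (mem_zpowers x))
    (h1.trans h4.le)
  have h6 := card_lt h4
  have h7 : O z ⊓ normalizer (F : Set G) = O z :=
    eq_of_le_of_card_ge inf_le_left (by rw [p.cQ]; omega)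
  exact h7.ge.trans inf_le_right

end Pr

end H57.L22
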