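/- `JobL22`: a group with `D22` has an elementary subgroup of order `16` with `E0`. -/
import Cfsg.Agent.H57.ML22b

set_option autoImplicit false

namespace H57.L22
open Subgroup Cfsg H98 H96.CG H45.EX

universe u

variable {G : Type u} [Group G] [Finite G]

/-- `O₂(C(O x))` -/
def E (x : G) : Subgroup G := pCoreOf 2 (cen (O x))

theorem E_two (x : G) : IsPGroup 2 (E x) := isPGroup_pCoreOf _
theorem E_le (x : G) : E x ≤ cen (O x) := pCoreOf_le _
theorem E_nor (x : G) : nor (O x) ≤ nor (E x) :=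
  le_normalizer_pCoreOf (normalizer_le_normalizer_centralizer _)

theorem ord_two {U : Subgroup G} (hU : IsElementaryAbelian 2 U) {e : G} (he : e ∈ U) (h : e ≠ 1) :
    orderOf e = 2 := orderOf_eq_prime (hU.2 e he) h

theorem mem_cen {P : Subgroup G} (hP : Nat.card P = 9) {y : G} (hy : y ∈ P) : P ≤ cen1 y :=
  (comm9 hP).trans (centralizer_le (Set.singleton_subset_iff.2 hy))

/-- the elementary group `F = O x ⊔ O y` of order `16` -/
structure Fr (x y : G) (P F : Subgroup G) : Prop where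
  eq : F = O x ⊔ O y
  cP : Nat.card P = 9
  Px : P ≤ cen1 x
  Py : P ≤ cen1 y
  FE : F ≤ E x
  ea : IsElementaryAbelian 2 F
  cF : Nat.card F = 16
  cen : cen F ≤ F
  PF : P ≤ nor F
  ex : ∃ e, Pr e y

namespace Pr
variable {z x : G} (p : Pr z x)
include p

theorem E_eq : E x = cen (O x) ⊓ O z :=
  le_antisymm (le_inf (E_le x) (p.le_Q (E_two x) (E_nor x (p.xV (mem_zpowers x)))
    ((E_le x).trans p.cV))) (by rw [inf_comm]; exact pCoreOf_inf_le_of_le p.cV)

theorem EQ : E x ≤ O z := p.E_eq.le.trans inf_le_right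

theorem VE : O x ≤ E x := p.E_eq ▸ le_inf p.t.comm p.VQ

theorem half' {H : Subgroup G} (h1 : H ≤ O z) (h2 : H ≤ nor (O x)) :
    Nat.card H ≤ 2 * Nat.card (E x) :=
  (p.half (h1.trans (O_le z)) h2).trans (Nat.mul_le_mul_left _
    (card_le_of_le (p.E_eq ▸ inf_le_inf_left _ h1)))

theorem cE : Nat.card (E x) = 16 ∨ Nat.card (E x) = 64 := by
  have h1 := p.t.inv (E_two x) (E_nor x (p.xV (mem_zpowers x))) p.VE
  have h4 := lt_inf_normalizer (O_two z) (lt_of_le_of_ne p.VQ fun e => by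
    have := p.cQ
    rw [← e, p.t.card] at this
    omega)
  have h5 := p.t.inv ((O_two z).to_le (inf_le_left : O z ⊓ normalizer (O x : Set G) ≤ _))
    (le_normalizer_inf p.xQ (le_normalizer_normalizer p.xV) (mem_zpowers x)) h4.le
  have h6 := card_lt h4
  have h7 := p.half' (inf_le_left : O z ⊓ normalizer (O x : Set G) ≤ _) inf_le_right
  rw [p.t.card] at h6
  omega

theorem cen_le {P F : Subgroup G} (hP : Nat.card P = 9) (k : x ∈ P) (h1 : P ≤ nor F)
    (h2 : O x ≤ F) (h3 : IsElementaryAbelian 2 F) (h4 : Nat.card F = 16) : cen F ≤ F := by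
  have hF : IsPGroup 2 F := IsPGroup.of_card (n := 4) h4
  have h5 : F ≤ cen F := by have := h3.1; exact le_centralizer F
  have h6 : ¬ 3 ∣ Nat.card (cen F) := fun hd => by
    obtain ⟨w, hw, h7⟩ := H83.Ord.exists_orderOf_mem Nat.prime_three hd
    have h8 : F ≤ cen1 w := fun a ha => mem_cen1.2 (hw a ha)
    have := card_le_of_le ((T3.mk p.h h7 (c36 p.h h7 hF (fun e => by
      rw [e, card_bot] at h4; omega) h8)).le_O hF h8)
    rw [h4, (T3.mk p.h h7 (c36 p.h h7 hF (fun e => by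
      rw [e, card_bot] at h4; omega) h8)).card] at this
    omega
  have h7 := card_dvd_of_le ((centralizer_anti h2).trans p.cV)
  rw [p.h.c2 z p.oz] at h7
  have h8 : IsPGroup 2 (cen F) := two_of_dvd
    (((Nat.prime_three.coprime_iff_not_dvd.2 h6).symm).dvd_of_dvd_mul_right h7)
  have h9 := p.t.inv h8 (le_normalizer_centralizer h1 k) (h2.trans h5)
  have h10 := card_le_of_le h5
  by_cases h11 : Nat.card (cen F) = 16
  · exact (eq_of_le_of_card_ge h5 (by omega)).ge
  exfalso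
  obtain ⟨y, -, t, e, he, h12, h13⟩ := fix9 p.h hP h8 (le_normalizer_centralizer h1) h1 h5 (by omega)
  have h14 := p.h.rk _ (H12.ea_sup (H12.ea_zpowers (t.ea.2 e he)) h3 (zpowers_le.2 h12))
  have h15 := card_lt (show F < zpowers e ⊔ F from
    lt_of_le_of_ne le_sup_right fun k => h13 (k ▸ mem_sup_left (mem_zpowers e)))
  omega

theorem exF : ∃ y P F, Fr x y P F := by
  obtain ⟨P, hP, k⟩ := p.t.exP
  have k1 := k.trans (O_nor x)
  obtain ⟨y, hy, t, e, he, h1, h2⟩ := fix9 p.h hP (E_two x) (k1.trans (E_nor x)) k1 p.VE (by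
    have := p.cE
    rw [p.t.card]
    omega)
  have e1 : e ≠ 1 := fun k => h2 (k ▸ one_mem _)
  have k2 := (mem_cen hP hy).trans (O_nor y)
  have h3 : O y ≤ E x := t.irr hP k2 (k1.trans (E_nor x)) fun k =>
    e1 (mem_bot.1 (k ▸ (⟨h1, he⟩ : e ∈ E x ⊓ O y)))
  have h4 : O x ⊓ O y = ⊥ := by
    by_contra k
    exact h2 (t.irr hP k2 k1 k he)
  have h5 := h3.trans (E_le x)
  have h6 := H12.card_sup_mul_card_inf (le_normalizer_of_le_centralizer (le_centralizer_iff.1 h5))
  rw [h4, card_bot, p.t.card, t.card, mul_one] at h6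
  have h7 := H12.ea_sup p.t.ea t.ea (le_centralizer_iff.1 h5)
  exact ⟨y, P, _, rfl, hP, k, mem_cen hP hy, sup_le p.VE h3, h7, h6,
    p.cen_le hP (p.t.mem_P hP k (mem_zpowers x)) (le_normalizer_sup k1 k2) le_sup_left h7 h6,
    le_normalizer_sup k1 k2, e, p.h, ord_two t.ea he e1, t.o,
    mem_cen1.2 (mem_cen1.1 (O_le y he)).symm⟩

theorem sylx : IsSyl 3 (zpowers x) (cen1 z) :=
  isSyl_of_not_dvd_relIndex (zpowers_le.2 p.xz) (zp_three p.o) (by
    have := H12.card_mul_relIndex (zpowers_le.2 p.xz)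
    rw [Nat.card_zpowers, p.o, p.h.c2 z p.oz] at this
    omega)

theorem fratt : (cen1 z ⊓ nor (zpowers x)) ⊔ (zpowers x ⊔ O z) = cen1 z := by
  have h1 : zpowers x ⊔ O z ≤ cen1 z := sup_le (zpowers_le.2 p.xz) (O_le z)
  have h2 := H12.card_sup_mul_card_inf p.xQ
  rw [(IsPGroup.disjoint_of_ne 3 2 (by norm_num) _ _ (zp_three p.o) (O_two z)).eq_bot, card_bot,
    Nat.card_zpowers, p.o, p.cQ] at h2
  exact (p.sylx.of_le le_sup_left h1).frattini h1
    (le_nor_of_two h1 (by rw [p.h.c2 z p.oz]; omega))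

theorem ex_n : ∃ n ∈ nor (zpowers x), n ∉ cen1 x := by
  by_contra hc
  push Not at hc
  obtain ⟨K, h1, h2, h3⟩ := burn p.sylx (cen_zpowers x ▸ fun n hn => hc n hn.2)
  rw [Nat.card_zpowers, p.o, p.h.c2 z p.oz] at h3
  have h4 : _ ≤ Nat.card (O z) := card_le_of_le (le_pCoreOf (two_of_dvd (U := K)
    (by rw [show Nat.card K = 128 by omega])) h1 h2)
  have := p.cQ
  omega

theorem ex_t : ∃ t ∈ nor (zpowers x), t ∉ cen1 x ∧ t * t = 1 := by
  obtain ⟨n, hn, hn'⟩ := p.ex_n
  obtain ⟨P, hP, k⟩ := p.t.exP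
  obtain ⟨a, ha, d, hd, rfl⟩ := (p.t.syl hP k).frattini_mem (g := n) (by
    have := normalizer_le_normalizer_centralizer _ hn
    rwa [show centralizer (zpowers x : Set G) = cen1 x from cen_zpowers x] at this)
  have h1 : a ∈ nor (zpowers x) := (mul_mem_cancel_right (cen1_nor x hd)).1 hn
  have h2 : a ∉ cen1 x := fun h => hn' (mul_mem h hd)
  have h3 : a * a ∈ cen1 x := by
    have x1 : x ∉ (⊥ : Subgroup G) := fun e => by
      have := p.o
      rw [mem_bot.1 e, orderOf_one] at this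
      omega
    have h4 := idx_le (le_refl (nor (zpowers x))) (le_normalizer_bot _) bot_le (mem_zpowers x) x1
    rw [Nat.card_zpowers, p.o, card_bot] at h4
    have h5 : (cen1 x).relIndex (nor (zpowers x)) ≠ 0 := index_ne_zero_of_finite
    have h6 : (cen1 x).relIndex (nor (zpowers x)) ≠ 1 := fun e => h2 (relIndex_eq_one.1 e h1)
    exact mul_self_mem_of_index_two (H := (cen1 x).subgroupOf (nor (zpowers x)))
      (show (cen1 x).relIndex (nor (zpowers x)) = 2 by omega) ⟨a, h1⟩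
  have h4 : a * a ∈ P := p.t.selfn hP k ⟨h3, mul_mem ha ha⟩
  have h5 : (a * a) ^ 9 = 1 := by
    have := pow_card_eq_one' (x := (⟨a * a, h4⟩ : P))
    rw [hP] at this
    exact congrArg Subtype.val this
  refine ⟨a ^ 9, pow_mem h1 9, fun h => h2 ?_, by rw [← h5, ← sq, ← sq, ← pow_mul, ← pow_mul]⟩
  have : a = a ^ 9 * ((a * a) ^ 4)⁻¹ := by
    rw [← sq, ← pow_mul, eq_mul_inv_iff_mul_eq, ← pow_succ']
  exact this ▸ mul_mem h (inv_mem (pow_mem h3 4))

theorem idxP {P : Subgroup G} (hP : Nat.card P = 9) : 3 ∣ (cen1 z).relIndex P := by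
  have h1 := H12.card_inf_mul_relIndex (cen1 z) P
  have h2 : Nat.card ↥(cen1 z ⊓ P) ≠ 9 := fun e => no9 p.h p.oz e inf_le_left
  rw [hP] at h1
  have h3 := Nat.le_of_dvd (by norm_num) (Dvd.intro _ h1)
  interval_cases Nat.card ↥(cen1 z ⊓ P) <;> omega

theorem case16 (hE : Nat.card (E x) = 16) : E0 (E x) := by
  obtain ⟨y, P, F, f⟩ := p.exF
  obtain rfl : F = E x := eq_of_le_of_card_ge f.FE (by rw [hE, f.cF])
  have hn := (O_nor' x).trans (E_nor x)
  have hQ : O z ≤ nor (E x) :=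
    p.le_nor16 hE (E_nor x (p.xV (mem_zpowers x))) p.VE
      (p.EQ.trans (O_le z))
  have hC : cen1 z ≤ nor (E x) := p.fratt ▸ sup_le (inf_le_right.trans hn)
    (sup_le (le_normalizer.trans hn) hQ)
  have z1 : z ∉ (⊥ : Subgroup G) := fun e => p.z1 (mem_bot.1 e)
  have h1 := idx_le (le_refl (nor (E x))) (le_normalizer_bot _) bot_le (p.VE p.zV) z1
  have h2 := H12.card_mul_relIndex hC
  have h3 := dvd_card p.h (nor (E x))
  have h4 := card_dvd_of_le f.PF
  have h5 : (cen1 z).relIndex (nor (E x)) ≠ 3 := fun e => by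
    have h6 := exists_of_relIndex_le (T := cen1 z) f.PF
      (e ▸ Nat.le_of_dvd (Nat.pos_of_ne_zero index_ne_zero_of_finite) (p.idxP f.cP))
    have h7 : ncl (nor (E x)) (zpowers z) ≤ O x := ncl_le_iff.2 fun g hg => by
      obtain ⟨a, ha, h8⟩ := h6 g hg
      rw [show g = a * (a⁻¹ * g) by group, ← cj_cj, cj_eq_self (cen1_nor z h8)]
      exact cj_le_of_le (zpowers_le.2 p.zV) (O_nor x (f.Px ha))
    have h8 := p.t.irr f.cP (f.Px.trans (O_nor x)) (f.PF.trans (le_normalizer_ncl _ (zpowers z)))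
      fun k => z1 (k ▸ ⟨le_ncl _ _ (mem_zpowers z), p.zV⟩)
    have h9 := p.half' le_rfl (hQ.trans (le_antisymm h7 h8 ▸ le_normalizer_ncl _ _))
    rw [p.cQ, hE] at h9
    omega
  rw [hE, card_bot] at h1
  rw [p.h.c2 z p.oz] at h2
  rw [f.cP] at h4
  have h6 : (cen1 z).relIndex (nor (E x)) = 15 := by
    rw [← h2] at h3 h4
    interval_cases (cen1 z).relIndex (nor (E x)) <;> omega
  have h7 : Nat.card (nor (E x)) = 5760 := by omega
  refine ⟨f.ea, hE, f.cen, fun e he e1 => ?_, ?_, Or.inl ⟨h7, fun g _ hg => ?_⟩, p.h.one, ?_⟩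
  · obtain ⟨d, hd, rfl⟩ := trans_of_idx (le_refl (nor (E x))) (le_normalizer_bot _) bot_le
      (p.VE p.zV) z1 (by rw [h6, hE, card_bot]) he (fun k => e1 (mem_bot.1 k))
    rw [← cj_cen1]
    exact cj_le_of_le_of_mem hC hd
  · have := (nor (E x)).card_mul_index
    rw [h7, p.h.card] at this
    rw [show (nor (E x)).index = 77 by omega]
    decide
  · have h8 : orderOf (g ^ 3) = 5 := by rw [orderOf_pow, hg]; rfl
    have := orderOf_dvd_natCard (⟨g, mem_cen1.2 (by group)⟩ : cen1 (g ^ 3))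
    rw [orderOf_mk, hg, p.h.c5 _ h8] at this
    omega
  · obtain ⟨t, ht, h8, h9⟩ := p.ex_t
    refine ⟨t, hn ht, fun k => h8 ?_, h9⟩
    have h10 : x * t * x⁻¹ * t⁻¹ ∈ zpowers x ⊓ E x := mem_inf.2 ⟨by
      rw [mul_assoc, mul_assoc, ← mul_assoc t]
      exact mul_mem (mem_zpowers x) (conj_mem_of_mem_normalizer ht (inv_mem (mem_zpowers x))),
      mul_mem (conj_mem_of_mem_normalizer (hn (le_normalizer (mem_zpowers x))) k) (inv_mem k)⟩
    rw [(IsPGroup.disjoint_of_ne 3 2 (by norm_num) _ _ (zp_three p.o) (E_two x)).eq_bot, mem_bot,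
      mul_inv_eq_one, mul_inv_eq_iff_eq_mul] at h10
    exact mem_cen1.2 h10.symm

theorem case64 (hE : ∀ z x : G, Pr z x → Nat.card (E x) = 64) : False := by
  obtain ⟨y, P, F, f⟩ := p.exF
  obtain ⟨e, q⟩ := f.ex
  have hF : F ≤ cen F := by have := f.ea.1; exact le_centralizer F
  have VF : O x ≤ F := f.eq ▸ le_sup_left
  have WF : O y ≤ F := f.eq ▸ le_sup_right
  have e1 : E x = O z := eq_of_le_of_card_ge p.EQ (by rw [hE z x p, p.cQ])
  have e2 : E y = O e := eq_of_le_of_card_ge q.EQ (by rw [hE e y q, q.cQ])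
  have xF : x ∈ nor F := f.PF (p.t.mem_P f.cP f.Px (mem_zpowers x))
  have hQ := p.le_nor16 f.cF xF VF (hF.trans ((centralizer_anti VF).trans p.cV))
  have hQ' := q.le_nor16 f.cF (f.PF (q.t.mem_P f.cP f.Py (mem_zpowers y))) WF
    (hF.trans ((centralizer_anti WF).trans q.cV))
  have FQ : F ≤ O z := e1 ▸ f.FE
  have h1 : O x ≤ cen (O z) := le_centralizer_iff.1 (e1 ▸ E_le x)
  have h2 : cen (O z) ≤ F := (centralizer_anti FQ).trans f.cen
  have h3 : O x = cen (O z) := by
    have h4 := p.t.inv ((IsPGroup.of_card (n := 4) f.cF : IsPGroup 2 F).to_le h2)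
      (le_normalizer_centralizer p.xQ (mem_zpowers x)) h1
    have h5 := card_le_of_le h2
    have h6 : Nat.card (cen (O z)) ≠ 16 := fun k => by
      have := card_le_of_le ((le_centralizer_iff.1
        (eq_of_le_of_card_ge h2 (by rw [k, f.cF])).ge).trans f.cen)
      rw [p.cQ, f.cF] at this
      omega
    exact eq_of_le_of_card_ge h1 (by rw [p.t.card]; rw [f.cF] at h5; omega)
  have h4 : nor (O z) ≤ nor (O x) := h3 ▸ normalizer_le_normalizer_centralizer _
  -- the index of `N(V) ⊓ N(F)` in `N(F)`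
  have h5 : ¬ 2 ∣ (nor (O x)).relIndex (nor F) := by
    obtain ⟨T, hT, h6⟩ := exists_isSyl_le (O_two z) hQ
    have h7 : T ≤ nor (O z) := by
      rcases h6.eq_or_lt with k | k
      · exact k ▸ le_normalizer
      · have h8 := card_lt k
        have h9 := two_dvd p.h hT.isPGroup
        obtain ⟨c, h10⟩ := card_dvd_of_le h6
        have h11 := Nat.le_of_dvd (by norm_num) h9
        rw [p.cQ] at h8 h10
        exact le_nor_of_two h6 (by rw [p.cQ]; omega)
    exact fun k => hT.not_dvd_relIndex (k.trans (relIndex_dvd_of_le_left _ (h7.trans h4)))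
  have h6 := idx_le (le_refl (nor F)) (le_normalizer_bot _) bot_le (VF p.zV)
    (fun e => p.z1 (mem_bot.1 e))
  have PM : P ≤ nor (O x) ⊓ nor F := le_inf (f.Px.trans (O_nor x)) f.PF
  have h7 : 3 ≤ (cen1 z).relIndex (nor (O x) ⊓ nor F) :=
    (Nat.le_of_dvd (Nat.pos_of_ne_zero index_ne_zero_of_finite) (p.idxP f.cP)).trans
      (relIndex_le_of_le_right PM index_ne_zero_of_finite)
  have h8 := relIndex_inf_mul_relIndex (cen1 z) (nor (O x)) (nor F)
  rw [inf_eq_left.2 ((O_nor z).trans h4)] at h8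
  have h9 := H12.card_inf_mul_relIndex (nor (O x)) (nor F)
  have h10 := dvd_card p.h (nor F)
  obtain ⟨c, h11⟩ := card_dvd_of_le PM
  have h12 : (nor (O x)).relIndex (nor F) ≠ 1 := fun k => by
    have h13 := p.t.irr f.cP (f.Px.trans (O_nor x)) (W := cen (O e))
      (le_normalizer_centralizer (e2 ▸ (f.Py.trans (O_nor y)).trans (E_nor y))) (by
        rw [inf_comm]
        exact inf_centralizer_ne_bot (O_two x) (O_two e) (hQ'.trans (relIndex_eq_one.1 k))
          p.t.ne_bot)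
    have h14 : F ≤ cen (O e) := f.eq ▸ sup_le h13 (le_centralizer_iff.1 (e2 ▸ E_le y))
    have := card_le_of_le ((le_centralizer_iff.1 h14).trans f.cen)
    rw [q.cQ, f.cF] at this
    omega
  rw [f.cF, card_bot] at h6
  rw [f.cP] at h11
  have h13 : (nor (O x)).relIndex (nor F) = 5 := by
    have h14 : (nor (O x)).relIndex (nor F) ≤ 5 := by nlinarith
    have h15 : (nor (O x)).relIndex (nor F) ≠ 3 := fun k => by
      have := (show 27 ∣ Nat.card (nor F) by rw [k] at h9; omega).trans h10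
      omega
    omega
  obtain ⟨K, k1, k2, k3, k4⟩ := exists_core (nor F) (nor (O x))
  rw [h13] at k4 h9
  have k5 := H12.card_mul_relIndex k2
  obtain ⟨d, k6⟩ := card_dvd_of_le (le_inf k1 k2)
  obtain ⟨S, hS⟩ := exists_isSyl 3 K
  have k7 := H12.card_sup_mul_card_inf (inf_le_left.trans k3 : nor F ⊓ nor S ≤ _)
  rw [hS.frattini k2 k3] at k7
  have k8 : ¬ 5 ∣ Nat.card K := fun k => by
    have h14 := k.mul_right d
    have := (show 25 ∣ Nat.card (nor F) by omega).trans h10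
    omega
  obtain ⟨g, hg, k9⟩ := H83.Ord.exists_orderOf_mem (K := nor F ⊓ nor S) Nat.prime_five
    ((Nat.prime_five.dvd_mul.1 (k7 ▸ Dvd.dvd.mul_right (by omega) _)).resolve_right k8)
  have : Fact (Nat.Prime 5) := ⟨Nat.prime_five⟩
  have k10 := H83.Ord.conj_modEq (p := 5) (k9 ▸ pow_orderOf_eq_one g) hg.2
  rw [(IsPGroup.disjoint_of_ne 3 5 (by norm_num) _ _ hS.isPGroup
    (IsPGroup.of_card (n := 1) (p.h.c5 g k9))).eq_bot, card_bot] at k10
  have k11 : S ≠ ⊥ := fun k => hS.eq_bot_iff.1 k (by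
    have k12 : ¬ 9 ∣ K.relIndex (nor F) := fun k => by
      have := k.trans k4
      norm_num [Nat.factorial] at this
    by_contra k13
    exact k12 ((Nat.Coprime.pow_left 2 (Nat.prime_three.coprime_iff_not_dvd.2 k13)).dvd_of_dvd_mul_left
      (k5 ▸ by omega)))
  obtain ⟨j, k12⟩ := IsPGroup.iff_card.1 hS.isPGroup
  have k13 := dvd_card p.h S
  rw [Ne, ← card_eq_one] at k11
  rw [k12] at k10 k11 k13
  have k14 : j ≤ 2 := by
    by_contra hk
    have := (pow_dvd_pow 3 (show 3 ≤ j by omega)).trans k13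
    omega
  unfold Nat.ModEq at k10
  interval_cases j <;> omega

end Pr

theorem jobL22 : JobL22.{u} := fun G _ _ h => by
  by_cases hc : ∃ z x : G, Pr z x ∧ Nat.card (E x) = 16
  · obtain ⟨z, x, p, e⟩ := hc
    exact ⟨_, p.case16 e⟩
  obtain ⟨z, hz⟩ := exists_prime_orderOf_dvd_card' (G := G) 2 (by rw [h.card]; norm_num)
  obtain ⟨x, hx, h1⟩ := H83.Ord.exists_orderOf_mem (K := cen1 z) Nat.prime_three
    (by rw [h.c2 z hz]; norm_num)
  exact ((Pr.mk h hz h1 hx).case64 fun z x p => p.cE.resolve_left fun e => hc ⟨z, x, p, e⟩).elim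

end H57.L22
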