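import Cfsg.Agent.Base

/-!
# Contingency tables and the Jacobi-Trudi orthonormality relation.
-/

set_option autoImplicit false
set_option linter.unusedSectionVars false

namespace H57

open Finset MvPolynomial

/-- Tables of natural numbers with prescribed margins. -/
abbrev Tables {κ κ' : Type*} [Fintype κ] [Fintype κ'] (α : κ → ℕ) (β : κ' → ℕ) : Type _ :=
  {M : κ' → κ → ℕ // (∀ s, ∑ t, M t s = α s) ∧ ∀ t, ∑ s, M t s = β t}

variable {n : ℕ}

/-- The geometric series in `X l`. -/
noncomputable def geomS (n : ℕ) (l : Fin n) : PowerSeries (MvPolynomial (Fin n) ℤ) :=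
  PowerSeries.mk fun k => X l ^ k

/-- The complete symmetric polynomials. -/
noncomputable def hS (n m : ℕ) : MvPolynomial (Fin n) ℤ := PowerSeries.coeff m (∏ l, geomS n l)

/-- The product of the linear factors other than the `i`-th one. -/
noncomputable def eP (n : ℕ) (i : Fin n) : Polynomial (MvPolynomial (Fin n) ℤ) :=
  ∏ l ∈ univ.erase i, (1 - Polynomial.C (X l) * Polynomial.X)

lemma geomS_mul (l : Fin n) : geomS n l *
    ((1 - Polynomial.C (X l) * Polynomial.X : Polynomial (MvPolynomial (Fin n) ℤ)) :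
      PowerSeries (MvPolynomial (Fin n) ℤ)) = 1 := by
  ext1 k
  rw [Polynomial.coe_sub, Polynomial.coe_one, Polynomial.coe_mul, Polynomial.coe_C, Polynomial.coe_X,
    mul_sub, mul_one, map_sub, ← mul_assoc]
  rcases k with _ | k
  · simp [geomS]
  · simp [geomS, PowerSeries.coeff_succ_mul_X, PowerSeries.coeff_one, pow_succ]

lemma prod_geomS_mul_eP (i : Fin n) :
    (∏ l, geomS n l) * (eP n i : PowerSeries (MvPolynomial (Fin n) ℤ)) = geomS n i := by
  rw [eP, ← Polynomial.coeToPowerSeries.ringHom_apply, map_prod, ← mul_prod_erase _ _ (mem_univ i),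
    mul_assoc, ← prod_mul_distrib]
  simp only [Polynomial.coeToPowerSeries.ringHom_apply, geomS_mul, prod_const_one, mul_one]

lemma natDegree_eP_lt (i : Fin n) : (eP n i).natDegree < n := by
  have h1 := Polynomial.natDegree_prod_le (univ.erase i)
    (fun l : Fin n => (1 - Polynomial.C (X l) * Polynomial.X : Polynomial (MvPolynomial (Fin n) ℤ)))
  have h2 : ∑ l ∈ univ.erase i, (1 - Polynomial.C (X l) * Polynomial.X :
      Polynomial (MvPolynomial (Fin n) ℤ)).natDegree ≤ (univ.erase i).card • 1 :=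
    sum_le_card_nsmul _ _ _ fun l _ => by compute_degree
  rw [card_erase_of_mem (mem_univ i), card_univ, Fintype.card_fin, smul_eq_mul, mul_one] at h2
  have := i.2
  unfold eP
  omega

lemma X_pow_eq_sum (i : Fin n) (m : ℕ) : (X i : MvPolynomial (Fin n) ℤ) ^ m =
    ∑ v : Fin n, (eP n i).coeff v * if v.val ≤ m then hS n (m - v) else 0 := by
  have h := congrArg (PowerSeries.coeff m) (prod_geomS_mul_eP i)
  rw [geomS, PowerSeries.coeff_mk, mul_comm, PowerSeries.coeff_mul,
    Nat.sum_antidiagonal_eq_sum_range_succ (fun u v => PowerSeries.coeff u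
      (eP n i : PowerSeries (MvPolynomial (Fin n) ℤ)) * PowerSeries.coeff v (∏ l, geomS n l))] at h
  rw [← h, ← sum_range (fun v => (eP n i).coeff v * if v ≤ m then hS n (m - v) else 0)]
  simp only [Polynomial.coeff_coe]
  rw [sum_subset (s₁ := range n) (s₂ := range (m + 1 + n)) (range_subset_range.2 (by omega)),
    ← sum_subset (s₁ := range (m + 1)) (s₂ := range (m + 1 + n)) (range_subset_range.2 (by omega))]
  · refine sum_congr rfl fun v hv => ?_
    rw [if_pos (by simp at hv; omega)]; rfl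
  · intro v _ hv
    rw [if_neg (by simp at hv; omega), mul_zero]
  · intro v _ hv
    rw [Polynomial.coeff_eq_zero_of_natDegree_lt, zero_mul]
    have := natDegree_eP_lt i
    simp at hv
    omega

lemma hS_zero : hS n 0 = 1 := by
  simp [hS, geomS, map_prod]

/-- The Jacobi-Trudi matrix. -/
noncomputable def jtMat (l : Fin n → ℕ) : Matrix (Fin n) (Fin n) (MvPolynomial (Fin n) ℤ) :=
  Matrix.of fun v j => if v.val ≤ l j then hS n (l j - v) else 0

/-- The alternant matrix. -/
noncomputable def altMat (l : Fin n → ℕ) : Matrix (Fin n) (Fin n) (MvPolynomial (Fin n) ℤ) :=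
  Matrix.of fun i j => X i ^ l j

lemma altMat_eq (l : Fin n → ℕ) :
    altMat l = (Matrix.of fun i (v : Fin n) => (eP n i).coeff v) * jtMat l := by
  ext1 i j
  rw [Matrix.mul_apply]
  exact X_pow_eq_sum i (l j)

lemma det_jtMat_val : (jtMat (fun j : Fin n => j.val)).det = 1 := by
  rw [Matrix.det_of_isUpperTriangular (M := jtMat fun j : Fin n => j.val) (fun i j (h : j < i) => if_neg (not_le.2 h))]
  simp [jtMat, hS_zero]

/-- **Jacobi-Trudi**. -/
theorem det_altMat (l : Fin n → ℕ) :
    (altMat l).det = (altMat fun j : Fin n => j.val).det * (jtMat l).det := by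
  rw [altMat_eq l, altMat_eq fun j : Fin n => j.val, Matrix.det_mul, Matrix.det_mul, det_jtMat_val,
    mul_one]

lemma prod_X_pow_eq (l : Fin n → ℕ) : ∏ i, (X i : MvPolynomial (Fin n) ℤ) ^ l i =
    monomial (Finsupp.equivFunOnFinite.symm l) 1 := by
  rw [monomial_eq, C_1, one_mul, Finsupp.prod_fintype _ _ (by simp)]
  rfl

lemma det_altMat_eq_sum (l : Fin n → ℕ) : (altMat l).det = ∑ σ : Equiv.Perm (Fin n),
    monomial (Finsupp.equivFunOnFinite.symm fun i => l (σ i)) (Equiv.Perm.sign σ : ℤ) := by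
  rw [← Matrix.det_transpose, Matrix.det_apply']
  refine sum_congr rfl fun σ _ => ?_
  simp only [altMat, Matrix.transpose_apply, Matrix.of_apply]
  rw [prod_X_pow_eq, ← eq_intCast (C : ℤ →+* MvPolynomial (Fin n) ℤ), C_mul_monomial, mul_one]

lemma det_jtMat_eq_sum (l : Fin n → ℕ) : (jtMat l).det = ∑ κ : Equiv.Perm (Fin n),
    if ∀ i, (κ i).val ≤ l i then C (Equiv.Perm.sign κ : ℤ) * ∏ i, hS n (l i - κ i) else 0 := by
  rw [Matrix.det_apply']
  refine sum_congr rfl fun κ _ => ?_
  simp only [jtMat, Matrix.of_apply]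
  split_ifs with h
  · rw [eq_intCast]
    congr 1
    exact prod_congr rfl fun i _ => if_pos (h i)
  · push Not at h
    obtain ⟨i, hi⟩ := h
    rw [prod_eq_zero (mem_univ i) (if_neg (not_le.2 hi)), mul_zero]

lemma hS_eq_sum (m : ℕ) : hS n m = ∑ l ∈ finsuppAntidiag univ m, monomial l 1 := by
  rw [hS, PowerSeries.coeff_prod]
  refine sum_congr rfl fun l _ => ?_
  simp only [geomS, PowerSeries.coeff_mk]
  rw [prod_X_pow_eq]
  simp

lemma coeff_prod_hS {κ' : Type*} [Fintype κ'] (α : Fin n → ℕ) (β : κ' → ℕ) :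
    coeff (Finsupp.equivFunOnFinite.symm α) (∏ t, hS n (β t)) = Nat.card (Tables α β) := by
  classical
  simp only [hS_eq_sum]
  rw [prod_univ_sum, coeff_sum]
  have : ∀ L : κ' → (Fin n →₀ ℕ), ∏ t, (monomial (L t) 1 : MvPolynomial (Fin n) ℤ) =
      monomial (∑ t, L t) 1 := fun L => by
    rw [monomial_sum_one]
  simp only [this, coeff_monomial, sum_boole]
  rw [← Nat.card_eq_finsetCard]
  congr 1
  refine Nat.card_congr
    { toFun := fun L => ⟨fun t => L.1 t, ?_, ?_⟩
      invFun := fun M => ⟨fun t => Finsupp.equivFunOnFinite.symm (M.1 t), ?_⟩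
      left_inv := fun L => by ext; simp
      right_inv := fun M => by ext; simp }
  · intro s
    have := DFunLike.congr_fun (mem_filter.1 L.2).2 s
    simpa using this
  · intro t
    exact (mem_finsuppAntidiag.1 (Fintype.mem_piFinset.1 (mem_filter.1 L.2).1 t)).1
  · refine mem_filter.2 ⟨Fintype.mem_piFinset.2 fun t => mem_finsuppAntidiag.2 ⟨M.2.2 t, by simp⟩, ?_⟩
    ext s
    simpa using M.2.1 s

/-- **Orthonormality** of the alternating sums. -/
theorem sum_sign_card_tables {l l' : Fin n → ℕ} (hl : StrictMono l) (hl' : StrictMono l') :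
    (∑ κ : Equiv.Perm (Fin n), ∑ κ' : Equiv.Perm (Fin n),
      if (∀ i, (κ i).val ≤ l i) ∧ ∀ i, (κ' i).val ≤ l' i then
        (Equiv.Perm.sign κ : ℤ) * (Equiv.Perm.sign κ' : ℤ) *
          Nat.card (Tables (fun i => l i - κ i) fun i => l' i - κ' i) else 0) =
      if l = l' then 1 else 0 := by
  have h := congrArg (coeff (Finsupp.equivFunOnFinite.symm l)) (det_altMat l')
  rw [det_altMat_eq_sum, det_altMat_eq_sum, sum_mul, coeff_sum, coeff_sum] at h
  have h1 : ∑ σ : Equiv.Perm (Fin n), coeff (Finsupp.equivFunOnFinite.symm l)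
      (monomial (Finsupp.equivFunOnFinite.symm fun i => l' (σ i)) (Equiv.Perm.sign σ : ℤ)) =
      if l = l' then 1 else 0 := by
    rw [sum_eq_single 1]
    · simp [coeff_monomial, eq_comm]
    · intro σ _ hσ
      rw [coeff_monomial, if_neg]
      intro e
      have e' : l' ∘ σ = l := Finsupp.equivFunOnFinite.symm.injective e
      have : StrictMono σ := fun i j hij => hl'.lt_iff_lt.1 (by
        have := hl hij
        rwa [← e'] at this)
      exact hσ (Equiv.ext fun i => congrFun (this.eq_id) i)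
    · simp
  rw [← h1, h]
  refine sum_congr rfl fun κ _ => ?_
  rw [coeff_monomial_mul']
  have e : (Finsupp.equivFunOnFinite.symm fun i => (κ i).val) ≤ Finsupp.equivFunOnFinite.symm l ↔
      ∀ i, (κ i).val ≤ l i := Iff.rfl
  have e2 : Finsupp.equivFunOnFinite.symm l - (Finsupp.equivFunOnFinite.symm fun i => (κ i).val) =
      Finsupp.equivFunOnFinite.symm fun i => l i - κ i := by ext; simp
  simp only [e, e2]
  split_ifs with hκ
  · rw [det_jtMat_eq_sum, coeff_sum, mul_sum]
    refine sum_congr rfl fun κ' _ => ?_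
    by_cases hκ' : ∀ i, (κ' i).val ≤ l' i
    · rw [if_pos ⟨hκ, hκ'⟩, if_pos hκ', coeff_C_mul, coeff_prod_hS, mul_assoc]
    · rw [if_neg (by tauto), if_neg hκ']; simp
  · exact sum_eq_zero fun κ' _ => if_neg (by tauto)

end H57
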