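/- Small lemmas for the tower T3. -/
import Cfsg.Agent.H48.T3Spec
import Cfsg.Agent.H57.ML22a
import Cfsg.Agent.H12.ExtTransfer

set_option autoImplicit false

namespace H57.T3
open Subgroup Cfsg H98 H96.CG H48.T3
open H57.L22 (mem_cen1 cen_zpowers cj_cen1 relIndex_cen1 trans_of_idx card_lt)
open scoped commutatorElement

universe u

section
variable {G : Type u} [Group G]

theorem V_cj (g s : G) : cj g (V s) = V (g * s * g⁻¹) := by
  rw [V, V, cj, MonoidHom.map_closure]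
  congr 1
  ext c
  constructor
  · rintro ⟨d, ⟨h1, h2⟩, rfl⟩
    exact ⟨by change g * d * g⁻¹ * _ = _ * (g * d * g⁻¹); rw [conj_mul, conj_mul, h1],
      by change g * d * g⁻¹ * (g * d * g⁻¹) = 1; rw [conj_mul, h2]; simp⟩
  · rintro ⟨h1, h2⟩
    refine ⟨g⁻¹ * c * g, ⟨?_, ?_⟩, by simp [mul_assoc]⟩
    · calc g⁻¹ * c * g * s = g⁻¹ * (c * (g * s * g⁻¹)) * g := by group
        _ = _ := by rw [h1]; group
    · calc g⁻¹ * c * g * (g⁻¹ * c * g) = g⁻¹ * (c * c) * g := by group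
        _ = _ := by rw [h2]; group

theorem V_inv (s : G) : V s⁻¹ = V s := by
  rw [V, V]
  congr 1
  ext c
  exact and_congr_left fun _ => Commute.inv_right_iff

theorem N_inv (s : G) : N s⁻¹ = N s := by rw [N, N, V_inv]

theorem N_cj (g s : G) : cj g (N s) = N (g * s * g⁻¹) := by
  rw [N, N, cj_pCoreOf, cj_centralizer, V_cj]

theorem norV {g s : G} (h : g * s * g⁻¹ = s ∨ g * s * g⁻¹ = s⁻¹) : g ∈ nor (V s) := by
  rw [← cj_eq_self_iff, V_cj]
  rcases h with h | h <;> rw [h]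
  exact V_inv s

theorem norV' {g s : G} (h : g * s = s * g) : g ∈ nor (V s) :=
  norV (Or.inl (by rw [h, mul_inv_cancel_right]))

theorem norN (s : G) : nor (V s) ≤ nor (N s) :=
  le_normalizer_pCoreOf (normalizer_le_normalizer_centralizer _)

theorem cm_iff {A B : Subgroup G} : Cm A B ↔ B ≤ cen A :=
  ⟨fun h b hb a ha => h a ha b hb, fun h a ha _ hb => h hb a ha⟩

theorem cen_symm {A B : Subgroup G} (h : A ≤ cen B) : B ≤ cen A := le_centralizer_iff.1 h

theorem cen_cj {A B : Subgroup G} (g : G) (h : A ≤ cen B) : cj g A ≤ cen (cj g B) :=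
  (cj_mono g h).trans (cj_centralizer g B).le

theorem ea_of_sq {A : Subgroup G} (h : ∀ a ∈ A, a * a = 1) : IsElementaryAbelian 2 A :=
  ⟨⟨⟨fun a b => Subtype.ext (by
    change (a : G) * b = b * a
    rw [← inv_eq_of_mul_eq_one_right (h _ (mul_mem a.2 b.2)), mul_inv_rev,
      inv_eq_of_mul_eq_one_right (h a a.2), inv_eq_of_mul_eq_one_right (h b b.2)])⟩⟩, fun a ha => by rw [sq, h a ha]⟩

theorem ea_sq {A : Subgroup G} (h : IsElementaryAbelian 2 A) {a : G} (ha : a ∈ A) : a * a = 1 := by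
  rw [← sq, h.2 a ha]

theorem ea_cen {A : Subgroup G} (h : IsElementaryAbelian 2 A) : A ≤ cen A := by
  have := h.1
  exact le_centralizer A

theorem ea_two {A : Subgroup G} (h : IsElementaryAbelian 2 A) : IsPGroup 2 A :=
  isPGroup_iff_forall.2 fun a ha => ⟨1, by rw [pow_one, h.2 a ha]⟩

theorem ea_cj {A : Subgroup G} (h : IsElementaryAbelian 2 A) (g : G) :
    IsElementaryAbelian 2 (cj g A) := ea_of_sq fun a ha => by
  have := ea_sq h (mem_cj.1 ha)
  calc a * a = g * (g⁻¹ * a * g * (g⁻¹ * a * g)) * g⁻¹ := by group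
    _ = 1 := by rw [this]; group

theorem ea_le {A B : Subgroup G} (h : IsElementaryAbelian 2 A) (k : B ≤ A) :
    IsElementaryAbelian 2 B := ea_of_sq fun _ ha => ea_sq h (k ha)

theorem not_mem_two {Q : Subgroup G} (hQ : IsPGroup 2 Q) {s : G} (hs : orderOf s = 3) : s ∉ Q :=
  fun h => by
  obtain ⟨k, hk⟩ := isPGroup_iff_forall.1 hQ s h
  have := orderOf_dvd_of_pow_eq_one hk
  rw [hs] at this
  exact absurd (Nat.prime_three.dvd_of_dvd_pow this) (by decide)

theorem le_or_le {U X Y : Subgroup G} (h : ∀ x ∈ U, x ∈ X ∨ x ∈ Y) : U ≤ X ∨ U ≤ Y := by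
  by_contra! hh
  obtain ⟨x, hx, hx'⟩ := SetLike.not_le_iff_exists.1 hh.1
  obtain ⟨y, hy, hy'⟩ := SetLike.not_le_iff_exists.1 hh.2
  rcases h _ (mul_mem hx hy) with k | k
  · exact hx' ((mul_mem_cancel_right ((h y hy).resolve_right hy')).1 k)
  · exact hy' ((mul_mem_cancel_left ((h x hx).resolve_left hx')).1 k)

variable [Finite G]

theorem card_le_two {X D : Subgroup G} (h : ∀ p ∈ X, ∀ q ∈ X, p ∉ D → q ∉ D → p * q ∈ D) :
    Nat.card X ≤ 2 * Nat.card ↥(D ⊓ X) := by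
  have h1 := H12.card_inf_mul_relIndex D X
  by_cases k : X ≤ D
  · rw [inf_eq_right.2 k]; omega
  obtain ⟨p, hp, hp'⟩ := SetLike.not_le_iff_exists.1 k
  have : D.relIndex X = 2 := index_eq_two_iff'.2 ⟨⟨p, hp⟩, fun q => by
    by_cases hq : (q : G) ∈ D
    · exact Or.inr ⟨hq, fun e => hp' ((mul_mem_cancel_right hq).1 e)⟩
    · exact Or.inl ⟨h p hp q q.2 hp' hq, hq⟩⟩
  rw [this] at h1
  omega

theorem card_le_mul {C X Y : Subgroup G} (hn : X ≤ nor Y) (h : C ≤ X ⊔ Y) :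
    Nat.card C ≤ Nat.card X * Nat.card ↥(Y ⊓ C) := by
  have h1 := H12.card_inf_mul_relIndex Y C
  have h2 : Y.relIndex C ≤ Y.relIndex (X ⊔ Y) := relIndex_le_of_le_right h index_ne_zero_of_finite
  have h3 := H12.card_mul_relIndex (le_sup_right : Y ≤ X ⊔ Y)
  have h4 := H12.card_sup_mul_card_inf hn
  have h5 : 0 < Nat.card ↥(X ⊓ Y) := Nat.card_pos
  have h6 : 0 < Nat.card Y := Nat.card_pos
  have h7 : Y.relIndex (X ⊔ Y) ≤ Nat.card X := Nat.le_of_mul_le_mul_left (by nlinarith) h6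
  rw [← h1, mul_comm]
  exact Nat.mul_le_mul_right _ (h2.trans h7)

theorem card_sup {X Y : Subgroup G} (hn : X ≤ nor Y) (h : X ⊓ Y = ⊥) :
    Nat.card ↥(X ⊔ Y) = Nat.card X * Nat.card Y := by
  have := H12.card_sup_mul_card_inf hn
  rwa [h, card_bot, mul_one] at this

theorem comm_mem {X : Subgroup G} (hX : IsElementaryAbelian 2 X) {w d : G} (hw : w ∈ nor X)
    (ww : w * w = 1) (hd : d ∈ X) : d * w * d⁻¹ * w ∈ X ⊓ cen1 w := by
  have iw := inv_eq_of_mul_eq_one_right ww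
  have h1 := conj_mem_of_mem_normalizer hw (inv_mem hd)
  rw [iw] at h1
  refine mem_inf.2 ⟨by simpa [mul_assoc] using mul_mem hd h1, mem_cen1.2 ?_⟩
  have h2 := ea_cen hX hd _ h1
  rw [inv_eq_of_mul_eq_one_right (ea_sq hX hd)] at h2 ⊢
  calc d * w * d * w * w = d * w * d := by rw [mul_assoc _ w w, ww, mul_one]
    _ = w * (w * d * w * d) := by rw [← mul_assoc, ← mul_assoc, ← mul_assoc, ww, one_mul]
    _ = _ := by rw [h2]; group

/-- an involution acting on an elementary abelian group -/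
theorem free {X : Subgroup G} (hX : IsElementaryAbelian 2 X) {w : G} (hw : w ∈ nor X)
    (ww : w * w = 1) : Nat.card X ≤ Nat.card ↥(X ⊓ cen1 w) ^ 2 ∧
      (Nat.card ↥(X ⊓ cen1 w) ^ 2 ≤ Nat.card X →
        ∀ c ∈ X ⊓ cen1 w, ∃ d ∈ X, d * w * d⁻¹ = c * w) := by
  have h1 := H12.card_inf_mul_relIndex (cen1 w) X
  have h2 : (fun d => d * w * d⁻¹) '' (X : Set G) ⊆ (· * w) '' (X ⊓ cen1 w : Subgroup G) := by
    rintro _ ⟨d, hd, rfl⟩
    exact ⟨_, comm_mem hX hw ww hd, by simp [mul_assoc, ww]⟩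
  have h3 : ((· * w) '' (X ⊓ cen1 w : Subgroup G)).ncard = Nat.card ↥(X ⊓ cen1 w) :=
    Set.ncard_image_of_injective _ (mul_left_injective w)
  have h4 := Set.ncard_le_ncard h2
  rw [inf_comm, relIndex_cen1] at h1
  rw [h3] at h4
  have h5 : 0 < Nat.card ↥(X ⊓ cen1 w) := Nat.card_pos
  refine ⟨by nlinarith, fun k c hc => ?_⟩
  exact (Set.eq_of_subset_of_ncard_le h2 (by
    rw [h3]; exact Nat.le_of_mul_le_mul_left (by nlinarith) h5)).ge ⟨c, hc, rfl⟩

theorem three_of_pair {a b d d' : G} (aa : a * a = 1) (bb : b * b = 1) (ab : a * b = b * a)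
    (b1 : b ≠ 1) (h1 : d * a * d⁻¹ = b * a) (h2 : d * b * d⁻¹ = b) (h3 : d' * b * d'⁻¹ = a * b)
    (h4 : d' * a * d'⁻¹ = a) {K : Subgroup G} (hd : d ∈ K) (hd' : d' ∈ K) :
    ∃ s ∈ K, orderOf s = 3 := by
  have k0 : ∀ t, d * d' * t * (d * d')⁻¹ = d * (d' * t * d'⁻¹) * d⁻¹ := fun t => by group
  have k1 : d * d' * a * (d * d')⁻¹ = b * a := by rw [k0, h4, h1]
  have k2 : d * d' * b * (d * d')⁻¹ = a := by
    rw [k0, h3, ← conj_mul, h1, h2, mul_assoc, ab, ← mul_assoc, bb, one_mul]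
  have hg := mul_mem hd hd'
  generalize d * d' = g at k1 k2 hg
  have k3 : g ^ 3 ∈ cen1 a := mem_cen1.2 (mul_inv_eq_iff_eq_mul.1 (by
    calc g ^ 3 * a * (g ^ 3)⁻¹ = g * (g * (g * a * g⁻¹) * g⁻¹) * g⁻¹ := by
          simp only [pow_succ, pow_zero, one_mul, mul_inv_rev, mul_assoc]
      _ = a := by rw [k1, ← conj_mul (a := b) (b := g), k1, k2, ← ab, ← mul_assoc a, aa, one_mul, k2]))
  obtain ⟨s, hs, e⟩ := H83.Ord.exists_orderOf_mem (K := zpowers g) Nat.prime_three (by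
    by_contra k
    rw [Nat.card_zpowers] at k
    have := mem_cen1.1 (mem_of_pow_mem_of_coprime k3 (Nat.prime_three.coprime_iff_not_dvd.2 k).symm)
    rw [this, mul_inv_cancel_right] at k1
    exact b1 (mul_eq_right.1 k1.symm))
  exact ⟨s, zpowers_le.2 hg hs, e⟩

end

section
variable {G : Type u} [Group G] [Finite G] {x y u s r : G}

theorem V_ea (H : Hy G) (hs : orderOf s = 3) : IsElementaryAbelian 2 (V s) :=
  ea_of_sq fun c hc => ((H.memV s hs c).1 hc).2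

theorem V_le (H : Hy G) (hs : orderOf s = 3) : V s ≤ cen1 s :=
  fun c hc => mem_cen1.2 ((H.memV s hs c).1 hc).1

theorem fpf (H : Hy G) (hs : orderOf s = 3) (h1 : r * s = s * r) (h2 : r ^ 3 = 1)
    (h3 : r ∉ zpowers s) {v : G} (hv : v ∈ V s) (h : r * v = v * r) : v = 1 := by
  refine (H.out s hs r h1 fun k => h3 ?_).2 v hv h
  obtain ⟨c, hc, t, ht, rfl⟩ := (mem_sup_right_norm (zpowers_le.2 (norV' rfl))).1 k
  have h4 : Commute c t := ((cen_zpowers s).ge (V_le H hs hc) t ht).symm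
  have h5 : t ^ 3 = 1 := orderOf_dvd_iff_pow_eq_one.1 (hs ▸ orderOf_dvd_of_mem_zpowers ht)
  rw [h4.mul_pow, h5, mul_one, pow_succ, sq, ea_sq (V_ea H hs) hc, one_mul] at h2
  rwa [h2, one_mul]

theorem trV (H : Hy G) (hs : orderOf s = 3) (h1 : r * s = s * r) (h2 : orderOf r = 3)
    (h3 : r ∉ zpowers s) {v w : G} (hv : v ∈ V s) (hw : w ∈ V s) (v1 : v ≠ 1) (w1 : w ≠ 1) :
    ∃ d ∈ zpowers r, d * v * d⁻¹ = w := by
  refine trans_of_idx (zpowers_le.2 (norV' h1)) (le_normalizer_bot _) bot_le hv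
    (fun k => v1 (mem_bot.1 k)) ?_ hw fun k => w1 (mem_bot.1 k)
  rw [(H.cardV s hs).resolve_left fun k => v1 (mem_bot.1 (k ▸ hv)), card_bot]
  have h4 := relIndex_dvd_card (cen1 v) (zpowers r)
  rw [Nat.card_zpowers, h2] at h4
  exact ((Nat.dvd_prime Nat.prime_three).1 h4).resolve_left fun k => v1 (fpf H hs h1
    (h2 ▸ pow_orderOf_eq_one r) h3 hv (mem_cen1.1 (relIndex_eq_one.1 k (mem_zpowers r))))

omit [Finite G] in
theorem zp3 (hs : orderOf s = 3) (h : r ∈ zpowers s) : r = 1 ∨ r = s ∨ r = s⁻¹ := by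
  obtain ⟨k, rfl⟩ := h
  have h3 : s ^ (3 : ℤ) = 1 := by exact_mod_cast hs ▸ pow_orderOf_eq_one s
  change s ^ k = 1 ∨ s ^ k = s ∨ s ^ k = s⁻¹
  rw [zpow_eq_zpow_emod k h3]
  have : k % 3 = 0 ∨ k % 3 = 1 ∨ k % 3 = 2 := by omega
  rcases this with e | e | e <;> rw [e]
  · simp
  · simp
  · refine Or.inr (Or.inr (eq_inv_of_mul_eq_one_left ?_))
    rw [← zpow_add_one]; exact h3

namespace Pu
variable (p : Pu x y u)
include p
omit [Finite G]

theorem nor_zp : zpowers x ≤ nor (zpowers y) :=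
  le_normalizer_of_le_centralizer (zpowers_le.2 (by
    rw [zpowers_eq_closure, centralizer_closure]; exact mem_centralizer_singleton_iff.2 p.xy))

theorem cases (h : s ∈ Pl x y) (h1 : s ≠ 1) : ∃ r, (r = x ∨ r = y ∨ r = x * y ∨ r = x * y⁻¹) ∧
    (s = r ∨ s = r⁻¹) := by
  obtain ⟨a, ha, b, hb, rfl⟩ := (mem_sup_left_norm (nor_zp p)).1 h
  have c : Commute x y := p.xy
  rcases zp3 p.ox ha with rfl | rfl | rfl <;> rcases zp3 p.oy hb with rfl | rfl | rfl
  · exact (h1 (one_mul 1)).elim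
  · exact ⟨b, by simp, by simp⟩
  · exact ⟨y, by simp, by simp⟩
  · exact ⟨a, by simp, by simp⟩
  · exact ⟨a * b, by simp, by simp⟩
  · exact ⟨a * y⁻¹, by simp, by simp⟩
  · exact ⟨x, by simp, by simp⟩
  · exact ⟨x * b⁻¹, by simp, Or.inr (by rw [mul_inv_rev, inv_inv, c.inv_left.eq])⟩
  · exact ⟨x * y, by simp, Or.inr (by rw [mul_inv_rev, c.inv_inv.eq])⟩

theorem nx : x ∉ zpowers y := fun h => by
  rcases zp3 p.oy h with e | e | e
  · have := p.ox; rw [e, orderOf_one] at this; omega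
  · exact p.ny (e ▸ mem_zpowers x)
  · exact p.ny (by rw [e]; simp)

theorem o3 : orderOf (x * y) = 3 :=
  orderOf_eq_prime (by
    rw [(show Commute x y from p.xy).mul_pow, ← p.ox, pow_orderOf_eq_one, p.ox, ← p.oy,
      pow_orderOf_eq_one, one_mul]) fun e => p.ny (by rw [eq_inv_of_mul_eq_one_right e]; simp)

theorem o4 : orderOf (x * y⁻¹) = 3 :=
  orderOf_eq_prime (by
    rw [(show Commute x y from p.xy).inv_right.mul_pow, ← p.ox, pow_orderOf_eq_one, p.ox, inv_pow,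
      ← p.oy, pow_orderOf_eq_one, inv_one, one_mul]) fun e =>
    p.ny (by rw [← mul_inv_eq_one.1 e]; simp)

end Pu

theorem Pu.card (p : Pu x y u) : Nat.card (Pl x y) = 9 := by
  rw [Pl, card_sup (Pu.nor_zp p), Nat.card_zpowers, Nat.card_zpowers, p.ox, p.oy]
  refine eq_bot_iff.2 fun a ha => ?_
  rcases zp3 p.oy ha.2 with e | e | e
  · exact e
  · exact (p.ny (e ▸ ha.1)).elim
  · exact (p.ny (inv_mem_iff.1 (e ▸ ha.1))).elim

/-- every element of order three is conjugate into `P` -/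
theorem Pu.conj (H : Hy G) (p : Pu x y u) (hs : orderOf s = 3) : ∃ k, k * s * k⁻¹ ∈ Pl x y := by
  have : Fact (Nat.Prime 3) := ⟨Nat.prime_three⟩
  have h1 : IsSyl 3 (Pl x y) ⊤ :=
    isSyl_of_not_dvd_relIndex le_top (IsPGroup.of_card (n := 2) (Pu.card p))
      fun ⟨c, hc⟩ => H.no27 ⟨c, by
        have := (Pl x y).card_mul_index
        rw [relIndex_top_right] at hc
        rw [Pu.card p, hc] at this
        omega⟩
  obtain ⟨k, -, hk⟩ := h1.exists_cj_le (IsPGroup.of_card (n := 1) (G := zpowers s)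
    (by rw [Nat.card_zpowers, hs]; rfl)) le_top
  exact ⟨k, hk (conj_mem_cj (mem_zpowers s))⟩

end

end H57.T3
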