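/- Tower T3: job KE. -/
import Cfsg.Agent.H57.T3Kit

set_option autoImplicit false

namespace H57.T3
open Subgroup Cfsg H98 H96.CG H48.T3
open H57.L22 (mem_cen1 cen_zpowers cj_cen1 card_lt)
open scoped commutatorElement

universe u

variable {G : Type u} [Group G] [Finite G]

/-- the configuration to be excluded -/
structure KE (x y e : G) : Prop where
  B : Bs G
  f : Full x y e
  c14 : Cm (V x) (V (x * y⁻¹))
  hn : ¬ Cm (V (x * y)) (V (x * y⁻¹))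

def Zz (x y : G) : Subgroup G := V x ⊔ V y

/-- `V3` or `V4` -/
def W34 (x y : G) (W : Subgroup G) : Prop := W = V (x * y) ∨ W = V (x * y⁻¹)

/-- `A` or `B` -/
def AB (x y : G) (X : Subgroup G) : Prop := ∃ W, W34 x y W ∧ X = W ⊔ Zz x y

theorem half {W : Subgroup G} {u : G} (h4 : Nat.card W = 4) (h : ¬ W ≤ cen1 u) :
    Nat.card ↥(W ⊓ cen1 u) ≤ 2 := by
  have h1 := card_lt (lt_of_le_of_ne (inf_le_left : W ⊓ cen1 u ≤ W) fun e => h (e.ge.trans inf_le_right))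
  have h2 := card_dvd_of_le (inf_le_left : W ⊓ cen1 u ≤ W)
  rw [h4] at h1 h2
  interval_cases Nat.card ↥(W ⊓ cen1 u) <;> omega

theorem ex_ne {W : Subgroup G} (h : W ≠ ⊥) : ∃ a ∈ W, a ≠ 1 := by
  by_contra! k
  exact h (eq_bot_iff.2 k)

namespace KE
variable {x y e : G} (k : KE x y e)
include k

theorem H : Hy G := k.B.toHy
theorem p : Pu x y (e * e) := k.f.toPu
theorem e1 : cj e (V x) = V y := by rw [V_cj, k.f.ex]
theorem e2 : cj e (V y) = V x := by rw [V_cj, k.f.ey, V_inv]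
theorem e3 : cj e (V (x * y)) = V (x * y⁻¹) := by
  rw [V_cj, ← conj_mul, k.f.ex, k.f.ey, ← V_inv, mul_inv_rev, inv_inv]
theorem e4 : cj e (V (x * y⁻¹)) = V (x * y) := by
  rw [V_cj, ← conj_mul, ← conj_inv, k.f.ex, k.f.ey, inv_inv, k.f.xy]
theorem eZ : cj e (Zz x y) = Zz x y := by rw [Zz, cj_sup, k.e1, k.e2, sup_comm]
theorem v2 : V y ≠ ⊥ := k.e1 ▸ fun h => k.f.v1 (cj_eq_bot_iff.1 h)
theorem v4 : V (x * y⁻¹) ≠ ⊥ := k.e3 ▸ fun h => k.f.v3 (cj_eq_bot_iff.1 h)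
theorem c12 : V y ≤ cen (V x) := cm_iff.1 k.f.c12
theorem c13 : V (x * y) ≤ cen (V x) := cm_iff.1 k.f.c13
theorem c41 : V (x * y⁻¹) ≤ cen (V x) := cm_iff.1 k.c14
theorem c24 : V (x * y⁻¹) ≤ cen (V y) := by have := cen_cj e k.c13; rwa [k.e3, k.e1] at this
theorem c23 : V (x * y) ≤ cen (V y) := by have := cen_cj e k.c41; rwa [k.e4, k.e1] at this

theorem ord {r : G} (h : r = x ∨ r = y ∨ r = x * y ∨ r = x * y⁻¹) : orderOf r = 3 := by
  rcases h with rfl | rfl | rfl | rfl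
  exacts [k.f.ox, k.f.oy, Pu.o3 k.p, Pu.o4 k.p]

theorem ne {r : G} (h : r = x ∨ r = y ∨ r = x * y ∨ r = x * y⁻¹) : V r ≠ ⊥ := by
  rcases h with rfl | rfl | rfl | rfl
  exacts [k.f.v1, k.v2, k.f.v3, k.v4]

theorem comm {r : G} (h : r = x ∨ r = y ∨ r = x * y ∨ r = x * y⁻¹) : Commute x r ∧ Commute y r := by
  have c : Commute x y := k.f.xy
  rcases h with rfl | rfl | rfl | rfl
  exacts [⟨rfl, c.symm⟩, ⟨c, rfl⟩, ⟨(Commute.refl x).mul_right c, c.symm.mul_right rfl⟩,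
    ⟨(Commute.refl x).mul_right c.inv_right, c.symm.mul_right (Commute.refl y).inv_right⟩]

theorem PV {r : G} (h : r = x ∨ r = y ∨ r = x * y ∨ r = x * y⁻¹) : Pl x y ≤ nor (V r) :=
  sup_le (zpowers_le.2 (norV' (k.comm h).1)) (zpowers_le.2 (norV' (k.comm h).2))

theorem uV {r : G} (h : r = x ∨ r = y ∨ r = x * y ∨ r = x * y⁻¹) : e * e ∈ nor (V r) := by
  refine norV (Or.inr ?_)
  have c : Commute x y := k.f.xy
  rcases h with rfl | rfl | rfl | rfl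
  · exact k.f.ux
  · exact k.f.uy
  · rw [← conj_mul, k.f.ux, k.f.uy, mul_inv_rev, c.inv_inv.eq]
  · rw [← conj_mul, ← conj_inv, k.f.ux, k.f.uy, mul_inv_rev, c.inv_inv.inv_right.eq]

theorem N_le {r : G} (h : r = x ∨ r = y ∨ r = x * y ∨ r = x * y⁻¹) {K : Subgroup G}
    (h1 : ∀ s, (s = x ∨ s = y ∨ s = x * y ∨ s = x * y⁻¹) → V s ≤ cen (V r) → V s ≤ K) :
    N r ≤ K := by
  refine (k.B.gen x y _ k.p (N r) (fun hd => ?_) (norN r (norV' (k.comm h).1))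
    (norN r (norV' (k.comm h).2))).2 K fun s hs s1 hv => ?_
  · obtain ⟨s, hs, o⟩ := H83.Ord.exists_orderOf_mem Nat.prime_three hd
    exact not_mem_two (k.B.Np r) o hs
  · obtain ⟨t, ht, rfl | rfl⟩ := Pu.cases k.p hs s1
    · exact h1 s ht (hv.trans (k.B.Nc r))
    · rw [V_inv] at hv ⊢
      exact h1 t ht (hv.trans (k.B.Nc r))

theorem VD {r : G} (h : r = x ∨ r = y ∨ r = x * y ∨ r = x * y⁻¹) : V r ≤ N x := by
  refine k.B.Ntwo x k.f.ox k.f.v1 _ ?_ (ea_two (V_ea k.H (k.ord h)))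
  rcases h with rfl | rfl | rfl | rfl
  exacts [ea_cen (V_ea k.H k.f.ox), k.c12, k.c13, k.c41]

theorem ND {r : G} (h : r = x ∨ r = y ∨ r = x * y ∨ r = x * y⁻¹) : N r ≤ N x :=
  k.N_le h fun _ hs _ => k.VD hs

theorem eD : e ∈ nor (N x) := mem_normalizer_of_cj_le (by
  rw [N_cj, k.f.ex]; exact k.ND (by simp))

theorem Ny : N y = N x := by rw [← k.f.ex, ← N_cj, cj_eq_self k.eD]

theorem PD : Pl x y ≤ nor (N x) := (k.PV (by simp)).trans (norN x)

theorem ZD : Zz x y ≤ N x := sup_le (k.VD (by simp)) (k.VD (by simp))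

theorem DZ : N x ≤ cen (Zz x y) :=
  cen_symm (sup_le (cen_symm (k.B.Nc x)) (cen_symm (k.Ny ▸ k.B.Nc y)))

theorem PZ : Pl x y ≤ nor (Zz x y) := le_normalizer_sup (k.PV (by simp)) (k.PV (by simp))

theorem uD : e * e ∉ N x := fun h => by
  have h1 := mul_mem (conj_mem_of_mem_normalizer' (k.PD (mem_sup_left (mem_zpowers x))) h)
    (inv_mem h)
  rw [mul_assoc, mul_assoc, ← mul_assoc (e * e), k.f.ux] at h1
  refine not_mem_two (k.B.Np x) k.f.ox ?_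
  have h2 : x ^ 3 = 1 := k.f.ox ▸ pow_orderOf_eq_one x
  rwa [show x⁻¹ * x⁻¹ = x * (x ^ 3)⁻¹ by group, h2, inv_one, mul_one] at h1

theorem uc {r : G} (h : r = x ∨ r = y ∨ r = x * y ∨ r = x * y⁻¹) :
    Nat.card ↥(V r ⊓ cen1 (e * e)) ≤ 2 :=
  half ((k.H.cardV r (k.ord h)).resolve_left (k.ne h)) fun hc => k.uD (k.ND h
    (k.B.Ntwo r (k.ord h) (k.ne h) (zpowers (e * e)) (cen_symm (hc.trans (cen_zpowers _).ge))
      (isPGroup_zpowers (k := 1) (by rw [pow_one, sq, k.f.uu])) (mem_zpowers _)))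

theorem n3 : x * y ∉ zpowers (x * y⁻¹) := fun h => by
  have h3 : y ^ 3 = 1 := k.f.oy ▸ pow_orderOf_eq_one y
  have c : Commute x y := k.f.xy
  rcases zp3 (Pu.o4 k.p) h with e | e | e
  · have := Pu.o3 k.p; rw [e, orderOf_one] at this; omega
  · rw [pow_succ, sq, eq_inv_iff_mul_eq_one.1 (mul_left_cancel e), one_mul] at h3
    exact k.f.ny (h3 ▸ one_mem _)
  · rw [mul_inv_rev, inv_inv, c.eq, mul_right_inj] at e
    have h4 : x ^ 3 = 1 := k.f.ox ▸ pow_orderOf_eq_one x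
    rw [pow_succ, sq, eq_inv_iff_mul_eq_one.1 e, one_mul] at h4
    exact Pu.nx k.p (h4 ▸ one_mem _)

theorem n4 : x * y⁻¹ ∉ zpowers (x * y) := fun h => by
  rcases zp3 (Pu.o3 k.p) h with e | e | e
  · have := Pu.o4 k.p; rw [e, orderOf_one] at this; omega
  · exact k.n3 (e ▸ mem_zpowers _)
  · exact k.n3 (by rw [e, zpowers_inv]; exact mem_zpowers _)

/-- `P` is transitive on the pairs -/
theorem tr34 {a b a' b' : G} (ha : a ∈ V (x * y)) (hb : b ∈ V (x * y⁻¹)) (ha' : a' ∈ V (x * y))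
    (hb' : b' ∈ V (x * y⁻¹)) (a1 : a ≠ 1) (b1 : b ≠ 1) (a1' : a' ≠ 1) (b1' : b' ≠ 1) :
    ∃ g ∈ Pl x y, g * a * g⁻¹ = a' ∧ g * b * g⁻¹ = b' := by
  have c : Commute (x * y) (x * y⁻¹) := (k.comm (by simp)).1.mul_left (k.comm (by simp)).2
  obtain ⟨p, hp, e1⟩ := trV k.H (Pu.o3 k.p) c.symm (Pu.o4 k.p) k.n4 ha ha' a1 a1'
  obtain ⟨q, hq, e2⟩ := trV k.H (Pu.o4 k.p) c (Pu.o3 k.p) k.n3 hb hb' b1 b1'
  have mx : x ∈ Pl x y := mem_sup_left (mem_zpowers x)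
  have my : y ∈ Pl x y := mem_sup_right (mem_zpowers y)
  refine ⟨q * p, mul_mem (zpowers_le.2 (mul_mem mx my) hq) (zpowers_le.2 (mul_mem mx (inv_mem my)) hp),
    ?_, ?_⟩
  · rw [mul_inv_rev, ← mul_assoc, mul_assoc q, mul_assoc q, e1,
      (cen_zpowers _).ge (V_le k.H (Pu.o3 k.p) ha') q hq, mul_inv_cancel_right]
  · rw [mul_inv_rev, ← mul_assoc, mul_assoc q, mul_assoc q,
      (cen_zpowers _).ge (V_le k.H (Pu.o4 k.p) hb) p hp, mul_inv_cancel_right, e2]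

theorem nc {a b : G} (ha : a ∈ V (x * y)) (hb : b ∈ V (x * y⁻¹)) (h : a * b = b * a) :
    a = 1 ∨ b = 1 := by
  by_contra! hc
  refine k.hn fun a' ha' b' hb' => ?_
  by_cases a1 : a' = 1
  · simp [a1]
  by_cases b1 : b' = 1
  · simp [b1]
  obtain ⟨g, -, rfl, rfl⟩ := k.tr34 ha hb ha' hb' hc.1 hc.2 a1 b1
  rw [conj_mul, conj_mul, h]

theorem V12 : V x ⊓ V y = ⊥ := eq_bot_iff.2 fun _ ha =>
  fpf k.H k.f.ox k.f.xy.symm (k.f.oy ▸ pow_orderOf_eq_one y) k.f.ny ha.1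
    (mem_cen1.1 (V_le k.H k.f.oy ha.2)).symm

theorem W_or {W : Subgroup G} (h : W34 x y W) :
    ∃ r, (r = x ∨ r = y ∨ r = x * y ∨ r = x * y⁻¹) ∧ W = V r := by
  rcases h with rfl | rfl
  exacts [⟨_, by simp, rfl⟩, ⟨_, by simp, rfl⟩]

theorem WZ {W : Subgroup G} (h : W34 x y W) : W ⊓ Zz x y = ⊥ := eq_bot_iff.2 fun a ha => by
  rcases h with rfl | rfl
  · obtain ⟨b, hb, b1⟩ := ex_ne k.v4
    exact (k.nc ha.1 hb (k.DZ (k.VD (by simp) hb) a ha.2)).resolve_right b1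
  · obtain ⟨b, hb, b1⟩ := ex_ne k.f.v3
    exact (k.nc hb ha.1 (k.DZ (k.VD (by simp) hb) a ha.2).symm).resolve_left b1

theorem DnZ : N x ≤ nor (Zz x y) := le_normalizer_of_le_centralizer k.DZ

theorem D_eq : N x = V (x * y) ⊔ Zz x y ⊔ V (x * y⁻¹) :=
  le_antisymm (k.N_le (by simp) (by
    rintro _ (rfl | rfl | rfl | rfl) -
    exacts [le_sup_of_le_left (le_sup_of_le_right le_sup_left),
      le_sup_of_le_left (le_sup_of_le_right le_sup_right), le_sup_of_le_left le_sup_left,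
      le_sup_right])) (sup_le (sup_le (k.VD (by simp)) k.ZD) (k.VD (by simp)))

theorem DD : ⁅N x, N x⁆ ≤ Zz x y := by
  have mx : x ∈ Pl x y := mem_sup_left (mem_zpowers x)
  have my : y ∈ Pl x y := mem_sup_right (mem_zpowers y)
  obtain ⟨s, hs, s1, -, -, h1, h2⟩ := k.B.cenq x y _ k.p (N x) (Zz x y) (k.B.Np x) (k.PD mx)
    (k.PD my) (k.PZ mx) (k.PZ my) k.ZD k.DnZ fun h => k.f.v3 (by
      rw [← k.WZ (Or.inl rfl), h, inf_eq_left.2 (k.VD (by simp))])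
  have h3 : ⁅V (x * y), N x⁆ ≤ Zz x y ∨ ⁅V (x * y⁻¹), N x⁆ ≤ Zz x y := by
    obtain ⟨r, hr, e⟩ := Pu.cases k.p hs s1
    have : V s = V r := by rcases e with rfl | rfl; exacts [rfl, V_inv r]
    rw [this] at h1 h2
    rcases hr with rfl | rfl | rfl | rfl
    · exact (k.f.v1 (by rwa [inf_eq_left.2 le_sup_left] at h1)).elim
    · exact (k.v2 (by rwa [inf_eq_left.2 le_sup_right] at h1)).elim
    exacts [Or.inl h2, Or.inr h2]
  have h4 : ⁅V (x * y), N x⁆ ≤ Zz x y ∧ ⁅V (x * y⁻¹), N x⁆ ≤ Zz x y := by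
    rcases h3 with h | h <;> have := cj_mono e h <;>
      rw [cj_commutator, cj_eq_self k.eD, k.eZ] at this
    · exact ⟨h, k.e3 ▸ this⟩
    · exact ⟨k.e4 ▸ this, h⟩
  have n3 := (k.VD (r := x * y) (by simp)).trans k.DnZ
  conv_lhs => enter [1]; rw [k.D_eq]
  exact commutator_sup_left_le (sup_le n3 le_normalizer) ((k.VD (by simp)).trans k.DnZ)
    (commutator_sup_left_le n3 le_normalizer h4.1 (commutator_le_left' k.DnZ)) h4.2

theorem Z_ea : IsElementaryAbelian 2 (Zz x y) :=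
  H12.ea_sup (V_ea k.H k.f.ox) (V_ea k.H k.f.oy) (cen_symm k.c12)

theorem cardV {r : G} (h : r = x ∨ r = y ∨ r = x * y ∨ r = x * y⁻¹) : Nat.card (V r) = 4 :=
  (k.H.cardV r (k.ord h)).resolve_left (k.ne h)

theorem cardZ : Nat.card (Zz x y) = 16 := by
  rw [Zz, card_sup (le_normalizer_of_le_centralizer (cen_symm k.c12)) k.V12, k.cardV (by simp),
    k.cardV (by simp)]

variable {X : Subgroup G}

theorem AB_le (h : AB x y X) : X ≤ N x := by
  obtain ⟨W, hW, rfl⟩ := h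
  obtain ⟨r, hr, rfl⟩ := k.W_or hW
  exact sup_le (k.VD hr) k.ZD

theorem AB_ea (h : AB x y X) : IsElementaryAbelian 2 X := by
  obtain ⟨W, hW, rfl⟩ := h
  obtain ⟨r, hr, rfl⟩ := k.W_or hW
  exact H12.ea_sup (V_ea k.H (k.ord hr)) k.Z_ea ((k.VD hr).trans k.DZ)

theorem AB_card (h : AB x y X) : Nat.card X = 64 := by
  obtain ⟨W, hW, rfl⟩ := h
  have h1 := k.WZ hW
  obtain ⟨r, hr, rfl⟩ := k.W_or hW
  rw [card_sup ((k.VD hr).trans k.DnZ) h1, k.cardV hr, k.cardZ]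

theorem AB_nor (h : AB x y X) : N x ≤ nor X :=
  le_normalizer_of_commutator_le (k.DD.trans (by obtain ⟨W, -, rfl⟩ := h; exact le_sup_right))
    (k.AB_le h)

theorem uZ : e * e ∈ nor (Zz x y) := le_normalizer_sup (H := zpowers (e * e))
  (zpowers_le.2 (k.uV (by simp))) (zpowers_le.2 (k.uV (by simp))) (mem_zpowers _)

theorem AB_u (h : AB x y X) : e * e ∈ nor X := by
  obtain ⟨W, hW, rfl⟩ := h
  obtain ⟨r, hr, rfl⟩ := k.W_or hW
  exact le_normalizer_sup (H := zpowers (e * e)) (zpowers_le.2 (k.uV hr)) (zpowers_le.2 k.uZ)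
    (mem_zpowers _)

theorem hA : AB x y (V (x * y) ⊔ Zz x y) := ⟨_, Or.inl rfl, rfl⟩
theorem hB : AB x y (V (x * y⁻¹) ⊔ Zz x y) := ⟨_, Or.inr rfl, rfl⟩

theorem dec {d : G} (hd : d ∈ N x) : ∃ a ∈ V (x * y), ∃ z ∈ Zz x y, ∃ b ∈ V (x * y⁻¹),
    d = a * z * b ∧ d * d = a * b * (a * b) := by
  rw [k.D_eq] at hd
  obtain ⟨c, hc, b, hb, rfl⟩ :=
    (mem_sup_right_norm ((k.VD (by simp)).trans (k.AB_nor k.hA))).1 hd
  obtain ⟨a, ha, z, hz, rfl⟩ := (mem_sup_left_norm ((k.VD (by simp)).trans k.DnZ)).1 hc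
  refine ⟨a, ha, z, hz, b, hb, rfl, ?_⟩
  have h1 := k.DZ (mul_mem (k.VD (by simp) hb) (k.VD (by simp) ha)) z hz
  calc a * z * b * (a * z * b) = a * (z * (b * a) * z) * b := by group
    _ = _ := by rw [h1, mul_assoc (b * a), ea_sq k.Z_ea hz]; group

theorem cardD : Nat.card (N x) = 256 := by
  rw [k.D_eq, sup_comm, card_sup ((k.VD (by simp)).trans (k.AB_nor k.hA)), k.cardV (by simp),
    k.AB_card k.hA]
  obtain ⟨a, ha, a1⟩ := ex_ne k.f.v3
  exact eq_bot_iff.2 fun b hb => (k.nc ha hb.1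
    (ea_cen (k.AB_ea k.hA) hb.2 a (mem_sup_left ha))).resolve_left a1

theorem sq_one {a b : G} (ha : a ∈ V (x * y)) (hb : b ∈ V (x * y⁻¹)) (h : a * b * (a * b) = 1) :
    a = 1 ∨ b = 1 := k.nc ha hb (by
  rw [eq_inv_of_mul_eq_one_left h, mul_inv_rev,
    inv_eq_of_mul_eq_one_right (ea_sq (V_ea k.H (Pu.o3 k.p)) ha),
    inv_eq_of_mul_eq_one_right (ea_sq (V_ea k.H (Pu.o4 k.p)) hb)])

theorem le_AB {U : Subgroup G} (hU : IsElementaryAbelian 2 U) (h : U ≤ N x) :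
    ∃ X, AB x y X ∧ U ≤ X := by
  have : U ≤ V (x * y) ⊔ Zz x y ∨ U ≤ V (x * y⁻¹) ⊔ Zz x y := le_or_le fun d hd => by
    obtain ⟨a, ha, z, hz, b, hb, rfl, h1⟩ := k.dec (h hd)
    rcases k.sq_one ha hb (h1 ▸ ea_sq hU hd) with rfl | rfl
    · exact Or.inr (mul_mem (mul_mem (one_mem _) (mem_sup_right hz)) (mem_sup_left hb))
    · exact Or.inl (mul_mem (mul_mem (mem_sup_left ha) (mem_sup_right hz)) (one_mem _))
  exact this.elim (fun h => ⟨_, k.hA, h⟩) fun h => ⟨_, k.hB, h⟩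

theorem sq_mem {a b : G} (ha : a ∈ V (x * y)) (hb : b ∈ V (x * y⁻¹)) :
    a * b * (a * b) ∈ Zz x y := by
  have := k.DD (commutator_mem_commutator (k.VD (by simp) ha) (k.VD (by simp) hb))
  rwa [commutatorElement_def, inv_eq_of_mul_eq_one_right (ea_sq (V_ea k.H (Pu.o3 k.p)) ha),
    inv_eq_of_mul_eq_one_right (ea_sq (V_ea k.H (Pu.o4 k.p)) hb), mul_assoc] at this

theorem sq_not {U : Subgroup G} (hP : Pl x y ≤ nor U) (hU : U ⊓ cj e U = ⊥) {a b : G}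
    (ha : a ∈ V (x * y)) (hb : b ∈ V (x * y⁻¹)) (h : a * b * (a * b) ∈ U) : a = 1 ∨ b = 1 := by
  by_contra! hc
  have h1 : ∀ a' ∈ V (x * y), ∀ b' ∈ V (x * y⁻¹), a' ≠ 1 → b' ≠ 1 → a' * b' * (a' * b') ∈ U := by
    intro a' ha' b' hb' a1 b1
    obtain ⟨g, hg, rfl, rfl⟩ := k.tr34 ha hb ha' hb' hc.1 hc.2 a1 b1
    rw [conj_mul, conj_mul]
    exact conj_mem_of_mem_normalizer (hP hg) h
  have ha' : e * b * e⁻¹ ∈ V (x * y) := k.e4 ▸ conj_mem_cj hb
  have hb' : e * a * e⁻¹ ∈ V (x * y⁻¹) := k.e3 ▸ conj_mem_cj ha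
  have a1 : e * b * e⁻¹ ≠ 1 := fun h => hc.2 (conj_eq_one_iff.1 h)
  have b1 : e * a * e⁻¹ ≠ 1 := fun h => hc.1 (conj_eq_one_iff.1 h)
  refine (k.sq_one ha' hb' (mem_bot.1 (hU ▸ mem_inf.2 ⟨h1 _ ha' _ hb' a1 b1, ?_⟩))).elim a1 b1
  rw [conj_mul, conj_mul, conj_mem_cj_iff, ← inv_mem_iff]
  simpa only [mul_inv_rev, inv_eq_of_mul_eq_one_right (ea_sq (V_ea k.H (Pu.o3 k.p)) ha),
    inv_eq_of_mul_eq_one_right (ea_sq (V_ea k.H (Pu.o4 k.p)) hb)] using h

theorem sq_D {d : G} (hd : d ∈ N x) (h : d * d ∈ V x ∨ d * d ∈ V y) : d * d = 1 := by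
  obtain ⟨a, ha, z, hz, b, hb, -, h1⟩ := k.dec hd
  rw [h1] at h ⊢
  have : a = 1 ∨ b = 1 := h.elim (k.sq_not (k.PV (by simp)) (k.e1 ▸ k.V12) ha hb)
    (k.sq_not (k.PV (by simp)) (by rw [k.e2, inf_comm, k.V12]) ha hb)
  rcases this with rfl | rfl
  · simpa using ea_sq (V_ea k.H (Pu.o4 k.p)) hb
  · simpa using ea_sq (V_ea k.H (Pu.o3 k.p)) ha

theorem is_sq {z : G} (hz : z ∈ Zz x y) (h1 : z ∉ V x) (h2 : z ∉ V y) : ∃ d ∈ N x, d * d = z := by
  obtain ⟨a, ha, a1⟩ := ex_ne k.f.v3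
  obtain ⟨b, hb, b1⟩ := ex_ne k.v4
  have n12 := le_normalizer_of_le_centralizer (cen_symm k.c12)
  have hd := mul_mem (k.VD (by simp) ha) (k.VD (by simp) hb)
  obtain ⟨v, hv, w, hw, h3⟩ := (mem_sup_left_norm n12).1 (k.sq_mem ha hb)
  obtain ⟨v', hv', w', hw', rfl⟩ := (mem_sup_left_norm n12).1 hz
  have h4 : ¬ (a * b * (a * b) ∈ V x ∨ a * b * (a * b) ∈ V y) := fun h =>
    (k.sq_one ha hb (k.sq_D hd h)).elim a1 b1
  obtain ⟨p, hp, e1⟩ := trV k.H k.f.ox k.f.xy.symm k.f.oy k.f.ny hv hv'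
    (fun e => h4 (Or.inr (by rwa [h3, e, one_mul]))) fun e => h2 (by rwa [e, one_mul])
  obtain ⟨q, hq, e2⟩ := trV k.H k.f.oy k.f.xy k.f.ox (Pu.nx k.p) hw hw'
    (fun e => h4 (Or.inl (by rwa [h3, e, mul_one]))) fun e => h1 (by rwa [e, mul_one])
  refine ⟨q * p * (a * b) * (q * p)⁻¹, conj_mem_of_mem_normalizer
    (k.PD (mul_mem (mem_sup_left hq) (mem_sup_right hp))) hd, ?_⟩
  have c1 := (cen_zpowers _).ge (V_le k.H k.f.ox hv') q hq
  have c2 := (cen_zpowers _).ge (V_le k.H k.f.oy hw) p hp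
  calc _ = q * (p * v * p⁻¹) * q⁻¹ * (q * (p * w * p⁻¹) * q⁻¹) := by rw [conj_mul, h3]; group
    _ = _ := by rw [e1, c1, c2, mul_inv_cancel_right, mul_inv_cancel_right, e2]

theorem cenD : N x ⊓ cen (N x) ≤ Zz x y := fun d hd => by
  obtain ⟨a, ha, z, hz, b, hb, rfl, -⟩ := k.dec hd.1
  obtain ⟨a', ha', a1⟩ := ex_ne k.f.v3
  obtain ⟨b', hb', b1⟩ := ex_ne k.v4
  have h1 := hd.2 a' (k.VD (by simp) ha')
  have h2 := hd.2 b' (k.VD (by simp) hb')
  rw [← mul_assoc, ea_cen (k.AB_ea k.hA) (mul_mem (mem_sup_left ha) (mem_sup_right hz)) a'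
    (mem_sup_left ha'), mul_assoc, mul_assoc _ b, mul_right_inj] at h1
  rw [mul_assoc a, mul_assoc a, ← ea_cen (k.AB_ea k.hB) (mul_mem (mem_sup_right hz)
    (mem_sup_left hb)) b' (mem_sup_left hb'), ← mul_assoc, ← mul_assoc a, mul_left_inj] at h2
  rw [(k.nc ha' hb h1).resolve_left a1, (k.nc ha hb' h2.symm).resolve_right b1]
  simpa using hz

theorem perm12 {g : G} (hg : g ∈ nor (N x)) {U : Subgroup G} (hU : U = V x ∨ U = V y) :
    cj g U = V x ∨ cj g U = V y := by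
  have c4 : Nat.card (cj g U) = 4 := by
    rcases hU with rfl | rfl <;> rw [card_cj] <;> exact k.cardV (by simp)
  have UZ : U ≤ Zz x y := by rcases hU with rfl | rfl; exacts [le_sup_left, le_sup_right]
  refine (le_or_le (U := cj g U) fun t ht => ?_).imp
    (fun h => eq_of_le_of_card_ge h (by rw [c4, k.cardV (by simp)]))
    fun h => eq_of_le_of_card_ge h (by rw [c4, k.cardV (by simp)])
  by_contra! hc
  obtain ⟨d, hd, rfl⟩ := k.is_sq (k.cenD (cj_le_of_le (UZ.trans (le_inf k.ZD (cen_symm k.DZ)))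
    (le_normalizer_inf le_rfl (normalizer_le_normalizer_centralizer _) hg) ht)) hc.1 hc.2
  have h1 : g⁻¹ * d * g * (g⁻¹ * d * g) ∈ U := by
    have := mem_cj.1 ht
    convert this using 1
    group
  have h2 := k.sq_D (conj_mem_of_mem_normalizer' hg hd) (by
    rcases hU with rfl | rfl
    exacts [Or.inl h1, Or.inr h1])
  refine hc.1 ?_
  rw [show d * d = g * (g⁻¹ * d * g * (g⁻¹ * d * g)) * g⁻¹ by group, h2]
  simp

/-- the Sylow subgroup -/
theorem memS {g : G} (hg : g ∈ N x ⊔ zpowers e) (gg : g * g ∈ N x) :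
    g ∈ N x ∨ g * (e * e) ∈ N x := by
  obtain ⟨d, hd, t, ⟨i, rfl⟩, rfl⟩ := (mem_sup_right_norm (zpowers_le.2 k.eD)).1 hg
  have h4 : e ^ (4 : ℤ) = 1 := by
    rw [← k.f.uu, ← sq, ← sq, ← pow_mul]; exact zpow_natCast e 4
  have h1 : e ^ i * e ^ i ∈ N x := by
    have := mul_mem (inv_mem (mul_mem hd (conj_mem_of_mem_normalizer (zpow_mem k.eD i) hd))) gg
    convert this using 1
    group
  change d * e ^ i ∈ _ ∨ d * e ^ i * _ ∈ _
  rw [zpow_eq_zpow_emod i h4] at h1 ⊢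
  have : i % 4 = 0 ∨ i % 4 = 1 ∨ i % 4 = 2 ∨ i % 4 = 3 := by omega
  rcases this with h | h | h | h <;> rw [h] at h1 ⊢
  · exact Or.inl (by simpa using hd)
  · exact (k.uD (by simpa using h1)).elim
  · exact Or.inr (by rwa [show d * e ^ (2 : ℤ) * (e * e) = d * e ^ (4 : ℤ) by group, h4, mul_one])
  · exact (k.uD (by rwa [show e ^ (3 : ℤ) * e ^ (3 : ℤ) = e * e * e ^ (4 : ℤ) by group, h4,
      mul_one] at h1)).elim

theorem SD : N x ⊔ zpowers e ≤ nor (N x) := sup_le le_normalizer (zpowers_le.2 k.eD)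

theorem idx2 {U : Subgroup G} (hU : IsElementaryAbelian 2 U) (h : U ≤ N x ⊔ zpowers e) :
    Nat.card U ≤ 2 * Nat.card ↥(N x ⊓ U) := card_le_two fun p hp q hq p1 q1 => by
  have h1 := (k.memS (h hp) (ea_sq hU hp ▸ one_mem _)).resolve_left p1
  have h2 := (k.memS (h hq) (ea_sq hU hq ▸ one_mem _)).resolve_left q1
  have := mul_mem h1 (inv_mem h2)
  rwa [mul_inv_rev, mul_assoc, mul_inv_cancel_left, inv_eq_of_mul_eq_one_right (ea_sq hU hq)] at this

theorem fix8 (h : AB x y X) {w : G} (hw : w * (e * e) ∈ N x) : Nat.card ↥(X ⊓ cen1 w) ≤ 8 := by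
  have key : ∀ {W Y : Subgroup G} {a z : G}, W ⊓ Y = ⊥ → e * e ∈ nor W → e * e ∈ nor Y → W ≤ N x →
      Y ≤ N x → ⁅W ⊔ Y, N x⁆ ≤ Y → a ∈ W → z ∈ Y → a * z ∈ cen1 w → a ∈ cen1 (e * e) := by
    intro W Y a z h1 h2 h3 h4 h5 h6 ha hz h7
    have h8 := h6 (commutator_mem_commutator (inv_mem (mul_mem (mem_sup_left ha) (mem_sup_right hz)))
      (inv_mem hw))
    have h9 : a⁻¹ * ((e * e)⁻¹ * a * (e * e)) ∈ W ⊓ Y := mem_inf.2
      ⟨mul_mem (inv_mem ha) (conj_mem_of_mem_normalizer' h2 ha), by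
        have := mul_mem (mul_mem hz h8) (inv_mem (conj_mem_of_mem_normalizer' h3 hz))
        convert this using 1
        calc _ = a⁻¹ * (e * e)⁻¹ * w⁻¹ * (w * (a * z)) * (e * e) * ((e * e)⁻¹ * z * (e * e))⁻¹ := by
              generalize e * e = u
              group
          _ = _ := by rw [← mem_cen1.1 h7, commutatorElement_def]; group⟩
    rw [h1, mem_bot, inv_mul_eq_one, mul_assoc, eq_inv_mul_iff_mul_eq] at h9
    exact mem_cen1.2 h9.symm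
  obtain ⟨W, hW, rfl⟩ := h
  have h1 := k.WZ hW
  obtain ⟨r, hr, rfl⟩ := k.W_or hW
  have n12 := le_normalizer_of_le_centralizer (cen_symm k.c12)
  have h2 := card_le_mul (C := (V r ⊔ Zz x y) ⊓ cen1 w) (X := V r ⊓ cen1 (e * e)) (Y := Zz x y)
    (inf_le_left.trans ((k.VD hr).trans k.DnZ)) fun c hc => by
      obtain ⟨a, ha, z, hz, rfl⟩ := (mem_sup_left_norm ((k.VD hr).trans k.DnZ)).1 hc.1
      exact mul_mem (mem_sup_left ⟨ha, key h1 (k.uV hr) k.uZ (k.VD hr) k.ZD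
        ((commutator_mono (sup_le (k.VD hr) k.ZD) le_rfl).trans k.DD) ha hz hc.2⟩) (mem_sup_right hz)
  have hz : ⁅Zz x y, N x⁆ = ⊥ := commutator_eq_bot_iff_le_centralizer.2 (cen_symm k.DZ)
  have h3 := card_le_mul (C := Zz x y ⊓ ((V r ⊔ Zz x y) ⊓ cen1 w)) (X := V x ⊓ cen1 (e * e))
    (Y := V y) (inf_le_left.trans n12) fun c hc => by
      obtain ⟨a, ha, z, hz', rfl⟩ := (mem_sup_left_norm n12).1 hc.1
      exact mul_mem (mem_sup_left ⟨ha, key k.V12 (k.uV (by simp)) (k.uV (by simp)) (k.VD (by simp))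
        (k.VD (by simp)) (hz.le.trans bot_le) ha hz' hc.2.2⟩) (mem_sup_right hz')
  have h4 := card_le_of_le (show V y ⊓ (Zz x y ⊓ ((V r ⊔ Zz x y) ⊓ cen1 w)) ≤ V y ⊓ cen1 (e * e)
    from fun c hc => ⟨hc.1, key (Y := ⊥) (inf_bot_eq _) (k.uV (by simp)) (le_normalizer_bot _
      (mem_top _)) (k.VD (by simp)) bot_le ((commutator_mono (sup_le le_sup_right bot_le)
        le_rfl).trans hz.le) hc.1 (one_mem _) (by rw [mul_one]; exact hc.2.2.2)⟩)
  have h5 := k.uc hr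
  have h6 := k.uc (r := x) (by simp)
  have h7 := k.uc (r := y) (by simp)
  exact h2.trans (Nat.mul_le_mul h5 (h3.trans (Nat.mul_le_mul h6 (h4.trans h7))))

theorem w_nor (h : AB x y X) {w : G} (hw : w * (e * e) ∈ N x) : w ∈ nor X :=
  (mul_mem_cancel_right (k.AB_u h)).1 (k.AB_nor h hw)

theorem fr (h : AB x y X) {w : G} (hw : w * (e * e) ∈ N x) (ww : w * w = 1) :
    8 ≤ Nat.card ↥(X ⊓ cen1 w) ∧ ∀ c ∈ X ⊓ cen1 w, ∃ d ∈ X, d * w * d⁻¹ = c * w := by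
  obtain ⟨h1, h2⟩ := free (k.AB_ea h) (k.w_nor h hw) ww
  have h3 := k.fix8 h hw
  rw [k.AB_card h] at h1 h2
  exact ⟨by nlinarith, h2 (by nlinarith)⟩

theorem E64 {U : Subgroup G} (hU : IsElementaryAbelian 2 U) (c : Nat.card U = 64)
    (h : U ≤ N x ⊔ zpowers e) : AB x y U := by
  by_cases h1 : U ≤ N x
  · obtain ⟨X, hX, h2⟩ := k.le_AB hU h1
    rwa [eq_of_le_of_card_ge h2 (by rw [c, k.AB_card hX])]
  obtain ⟨w, hw, hw'⟩ := SetLike.not_le_iff_exists.1 h1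
  obtain ⟨X, hX, h2⟩ := k.le_AB (ea_le hU (inf_le_right : N x ⊓ U ≤ U)) inf_le_left
  have h3 := k.fix8 hX ((k.memS (h hw) (ea_sq hU hw ▸ one_mem _)).resolve_left hw')
  have h4 := card_le_of_le (le_inf h2 fun a ha => mem_cen1.2 (ea_cen hU hw a ha.2))
  have h5 := k.idx2 hU h
  omega

theorem E64' (h : AB x y X) {g : G} (hg : cj g X ≤ N x ⊔ zpowers e) : AB x y (cj g X) :=
  k.E64 (ea_cj (k.AB_ea h) g) (by rw [card_cj, k.AB_card h]) hg

theorem norD_of {g : G} (hg : cj g (N x) ≤ N x ⊔ zpowers e) : g ∈ nor (N x) :=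
  mem_normalizer_of_cj_le (by
    have h1 := k.AB_le (k.E64' k.hA ((cj_mono g (k.AB_le k.hA)).trans hg))
    have h2 := k.AB_le (k.E64' k.hB ((cj_mono g (k.AB_le k.hB)).trans hg))
    conv_lhs => rw [k.D_eq, cj_sup]
    exact sup_le h1 ((cj_mono g le_sup_left).trans h2))

theorem sylN : IsSyl 2 (N x ⊔ zpowers e) (nor (N x)) := by
  classical
  have e4 : e ^ 2 ^ 2 = 1 := by rw [← k.f.uu, ← sq, ← sq, ← pow_mul]; rfl
  have o4 : orderOf e = 2 ^ 2 := orderOf_eq_prime_pow (n := 1)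
    (fun h => k.uD (by rw [← sq, show e ^ 2 = 1 from h]; exact one_mem _)) e4
  refine isSyl_of_not_dvd_relIndex k.SD ((k.B.Np x).to_sup_of_normal_left' (isPGroup_zpowers e4)
    (zpowers_le.2 k.eD)) ?_
  have h1 := H12.card_mul_relIndex k.SD
  have h2 : Nat.card ↥(N x ⊔ zpowers e) = 1024 := by
    rw [sup_comm, card_sup (zpowers_le.2 k.eD), Nat.card_zpowers, o4, k.cardD]
    · rfl
    by_contra h
    obtain ⟨t, ht, t1, t2⟩ := exists_mem_pow_eq_one (p := 2) ((k.B.Np x).to_le inf_le_right) h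
    obtain ⟨i, hi, rfl⟩ := Finset.mem_image.1 (mem_zpowers_iff_mem_range_orderOf.1 ht.1)
    rw [o4, Finset.mem_range] at hi
    have h3 := ht.2
    interval_cases i
    · exact t1 (pow_zero e)
    · exact k.uD (mul_mem (pow_one e ▸ h3) (pow_one e ▸ h3))
    · exact k.uD (sq e ▸ h3)
    · exact k.uD (by rw [show e * e = (e ^ 3) ^ 2 * (e ^ 2 ^ 2)⁻¹ by rw [← sq]; group, t2, e4]; simp)
  have h3 := card_le_two (X := nor (N x)) (D := nor (V x)) fun p hp q hq p1 q1 => by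
    have e1 := (k.perm12 hp (Or.inl rfl)).resolve_left fun h => p1 (cj_eq_self_iff.1 h)
    have e2 := (k.perm12 hq (Or.inl rfl)).resolve_left fun h => q1 (cj_eq_self_iff.1 h)
    rw [← cj_eq_self_iff, ← cj_cj, e2]
    exact (k.perm12 hp (Or.inr rfl)).resolve_right fun h => k.f.v1 (by
      rw [← k.V12, ← cj_inj.1 (e1.trans h.symm), inf_idem])
  obtain ⟨m, h4⟩ := card_dvd_of_le (norN x)
  rw [inf_eq_left.2 (norN x)] at h3
  rw [k.B.cardNV x k.f.ox k.f.v1, k.cardD] at h3 h4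
  have h5 : 0 < Nat.card (nor (N x)) := Nat.card_pos
  rw [h2] at h1
  change Nat.card (nor (N x)) = _ at h4
  omega

theorem syl : IsSyl 2 (N x ⊔ zpowers e) ⊤ :=
  isSyl_of_isSyl_normalizer (k.sylN.of_le (le_inf le_top le_normalizer) fun _ hg =>
    k.norD_of (cj_le_of_le le_sup_left hg.2))

theorem WD {g : G} (hg : cj g (N x) ≤ nor (N x)) : g ∈ nor (N x) := by
  obtain ⟨n, hn, h⟩ := k.sylN.exists_cj_le (isPGroup_cj g (k.B.Np x)) hg
  rw [cj_cj] at h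
  exact (mul_mem_cancel_left hn).1 (k.norD_of h)

theorem norA : nor (V (x * y) ⊔ Zz x y : Subgroup G) ≤ nor (N x) := by
  have mx : x ∈ Pl x y := mem_sup_left (mem_zpowers x)
  have my : y ∈ Pl x y := mem_sup_right (mem_zpowers y)
  have hP := le_normalizer_sup (k.PV (r := x * y) (by simp)) k.PZ
  have o := Pu.o4 k.p
  obtain ⟨Q, h1, h2, h3, h4⟩ := k.B.st x y _ k.p _ (hP mx) (hP my) (k.AB_u k.hA) fun g hg hg' =>
    k.B.norP x y _ k.p g hg' _ (mul_mem mx (inv_mem my))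
      (fun h => by rw [h, orderOf_one] at o; omega) (by
      obtain ⟨r, hr, h⟩ := Pu.cases k.p (conj_mem_of_mem_normalizer hg' (mul_mem mx (inv_mem my)))
        fun h => by rw [conj_eq_one_iff.1 h, orderOf_one] at o; omega
      have h5 : cj g (V (x * y⁻¹)) = V r := by
        rw [V_cj]; rcases h with h | h <;> rw [h]; exact V_inv r
      have h6 : ¬ V r ≤ V (x * y) ⊔ Zz x y := fun h6 => k.hn (cm_iff.2 ((by
        rwa [← h5, ← cj_eq_self hg, cj_le_cj_iff] at h6 : V (x * y⁻¹) ≤ _).trans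
          ((ea_cen (k.AB_ea k.hA)).trans (centralizer_anti le_sup_left))))
      rcases hr with rfl | rfl | rfl | rfl
      · exact (h6 (le_sup_of_le_right le_sup_left)).elim
      · exact (h6 (le_sup_of_le_right le_sup_right)).elim
      · exact (h6 le_sup_left).elim
      · rcases h with h | h <;> rw [h]
        exacts [mem_zpowers _, inv_mem (mem_zpowers _)])
  have h5 : Q ≤ N x := (k.B.gen x y _ k.p Q (fun hd => by
    obtain ⟨s, hs, o⟩ := H83.Ord.exists_orderOf_mem Nat.prime_three hd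
    exact not_mem_two h2 o hs) (h3 (hP mx)) (h3 (hP my))).2 _ fun s hs s1 _ => by
      obtain ⟨r, hr, rfl | rfl⟩ := Pu.cases k.p hs s1
      exacts [k.VD hr, V_inv r ▸ k.VD hr]
  intro g hg
  obtain ⟨q, hq, p, hp, rfl | rfl⟩ := h4 g hg
  · exact mul_mem (le_normalizer (h5 hq)) (k.PD hp)
  · exact mul_mem (mul_mem (le_normalizer (h5 hq)) (k.PD hp)) (mul_mem k.eD k.eD)

theorem norAB (h : AB x y X) : nor X ≤ nor (N x) := by
  obtain ⟨W, rfl | rfl, rfl⟩ := h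
  · exact k.norA
  · have := cj_mono e k.norA
    rwa [cj_normalizer, cj_normalizer, cj_sup, k.e3, k.eZ, cj_eq_self k.eD] at this

theorem WD2 (h : AB x y X) {g : G} (h' : AB x y (cj g X)) : g ∈ nor (N x) := by
  refine inv_mem_iff.1 (k.WD ((cj_le_iff.2 ?_).trans (k.norAB h)))
  rw [inv_inv, cj_normalizer]
  exact k.AB_nor h'

theorem no_conj {g : G}
    (hg : cj g (zpowers (e * e) ⊔ (V (x * y) ⊔ Zz x y) ⊓ cen1 (e * e)) ≤ N x ⊔ zpowers e) :
    g * (e * e) * g⁻¹ ∉ N x := fun hu => by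
  have uu := k.f.uu
  have hA := k.hA
  generalize V (x * y) ⊔ Zz x y = A at hg hA
  have eA := k.AB_ea hA
  have hF : IsElementaryAbelian 2 (zpowers (e * e) ⊔ A ⊓ cen1 (e * e)) :=
    H12.ea_sup (H12.ea_zpowers (by rw [sq, uu])) (ea_le eA inf_le_left)
      (cen_symm (inf_le_right.trans (cen_zpowers _).ge))
  obtain ⟨h8, fr⟩ := k.fr hA (uu ▸ one_mem _) uu
  obtain ⟨X, hX, hFX⟩ := k.le_AB (ea_le (ea_cj hF g) (inf_le_right : N x ⊓ _ ≤ _)) inf_le_left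
  have bF := conj_mem_cj (g := g) (mem_sup_left (T := A ⊓ cen1 (e * e)) (mem_zpowers (e * e)))
  by_cases hc : cj g (A ⊓ cen1 (e * e)) ≤ N x
  · have h1 : cj g (zpowers (e * e) ⊔ A ⊓ cen1 (e * e)) ≤ X := (le_inf (by
      rw [cj_sup, cj, MonoidHom.map_zpowers]
      exact sup_le (zpowers_le.2 hu) hc) le_rfl).trans hFX
    rw [cj_le_iff] at h1
    have h2 : A ≤ nor (zpowers (e * e) ⊔ A ⊓ cen1 (e * e) : Subgroup G) := fun d hd =>
      mem_normalizer_of_cj_le (by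
        rw [cj_sup, cj_eq_self (le_normalizer_of_le_centralizer
          ((ea_cen eA).trans (centralizer_anti inf_le_left)) hd), cj, MonoidHom.map_zpowers]
        refine sup_le (zpowers_le.2 ?_) le_sup_right
        have := mul_mem (mem_sup_right (S := zpowers (e * e)) (comm_mem eA (k.AB_u hA) uu hd))
          (mem_sup_left (mem_zpowers (e * e)))
        rwa [mul_assoc _ (e * e), uu, mul_one] at this)
    obtain ⟨R, hR, h3⟩ := exists_isSyl_le (ea_two eA) h2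
    obtain ⟨c, hc', h4⟩ := hR.exists_cj_le (ea_two (ea_cj (k.AB_ea hX) g⁻¹))
      (le_normalizer_of_le_centralizer ((ea_cen (ea_cj (k.AB_ea hX) g⁻¹)).trans
        (centralizer_anti h1)))
    obtain ⟨n, -, h5⟩ := k.syl.exists_cj_le hR.isPGroup le_top
    have h6 := k.WD2 hA (k.E64' hA ((cj_mono n h3).trans h5))
    have h7 := (cj_mono n h4).trans h5
    rw [cj_cj, cj_cj] at h7
    have h8 : _ ≤ N x := (cj_mono (n * c) h1).trans (by rw [cj_cj]; exact k.AB_le (k.E64' hX h7))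
    rw [← cj_cj, cj_eq_self hc', cj_le_iff, cj_eq_self (inv_mem h6)] at h8
    exact k.uD (h8 (mem_sup_left (mem_zpowers _)))
  obtain ⟨a, ha, ha'⟩ := SetLike.not_le_iff_exists.1 hc
  have aF := cj_mono g (le_sup_right (a := zpowers (e * e))) ha
  have aa := ea_sq (ea_cj hF g) aF
  have au := (k.memS (hg aF) (aa ▸ one_mem _)).resolve_left ha'
  have ab := ea_cen (ea_cj hF g) bF a aF
  obtain ⟨d, hd, h1⟩ := (k.fr hX au aa).2 _ ⟨hFX ⟨hu, bF⟩, mem_cen1.2 ab.symm⟩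
  obtain ⟨d', hd', h2⟩ := fr _ (mem_cj.1 ha)
  have eU := ea_le (ea_cj eA g) (cj_mono g (inf_le_left : A ⊓ cen1 (e * e) ≤ A))
  have UX : N x ⊓ cj g (A ⊓ cen1 (e * e)) ≤ X :=
    (inf_le_inf_left _ (cj_mono g le_sup_right)).trans hFX
  have XU := (ea_cen (k.AB_ea hX)).trans (centralizer_anti UX)
  have AU := (ea_cen (ea_cj eA g)).trans (centralizer_anti
    ((inf_le_right : N x ⊓ _ ≤ _).trans (cj_mono g (inf_le_left : A ⊓ cen1 (e * e) ≤ A))))
  obtain ⟨s, hs, o⟩ := three_of_pair aa (ea_sq (ea_cj hF g) bF) ab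
    (fun h => k.uD (conj_eq_one_iff.1 h ▸ one_mem _)) h1
    (by rw [← ea_cen (k.AB_ea hX) hd _ (hFX ⟨hu, bF⟩), mul_inv_cancel_right])
    (d' := g * d' * g⁻¹) (by
      calc _ = g * (d' * (e * e) * d'⁻¹) * g⁻¹ := by generalize e * e = u; group
        _ = _ := by rw [h2]; generalize e * e = u; group)
    (by rw [← ea_cen (ea_cj eA g) (conj_mem_cj hd') a (cj_mono g inf_le_left ha),
      mul_inv_cancel_right]) (XU hd) (AU (conj_mem_cj hd'))
  have h3 := k.idx2 eU ((cj_mono g le_sup_right).trans hg)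
  rw [card_cj] at h3
  have h4 : N x ⊓ cj g (A ⊓ cen1 (e * e)) ≤ V s := fun c hc =>
    (k.H.memV s o c).2 ⟨hs c hc, ea_sq eU hc.2⟩
  have h5 := card_le_of_le h4
  have h6 : V s ≠ ⊥ := fun h => by rw [h, card_bot] at h5; omega
  have h7 := eq_of_le_of_card_ge h4 (by rw [(k.H.cardV s o).resolve_left h6]; omega)
  have h9 : X ⊔ zpowers a ≤ N s := k.B.Ntwo s o h6 _ (h7 ▸ sup_le XU (zpowers_le.2
    fun c hc => ea_cen eU ha c hc.2)) ((ea_two (k.AB_ea hX)).to_sup_of_normal_left'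
      (isPGroup_zpowers (k := 1) (by rw [pow_one, sq, aa])) (zpowers_le.2 (k.w_nor hX au)))
  obtain ⟨n, hn⟩ := Pu.conj k.H k.p o
  obtain ⟨r, hr, h10⟩ := Pu.cases k.p hn fun h => by
    rw [conj_eq_one_iff.1 h, orderOf_one] at o; omega
  have h11 : cj n (N s) ≤ N x := by
    rw [N_cj]
    rcases h10 with h | h <;> rw [h]
    exacts [k.ND hr, N_inv r ▸ k.ND hr]
  have h12 := (cj_mono n h9).trans h11
  have h13 := k.WD2 hX (k.E64' hX (((cj_mono n le_sup_left).trans h12).trans le_sup_left))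
  rw [cj_le_iff, cj_eq_self (inv_mem h13)] at h12
  exact ha' (h12 (mem_sup_right (mem_zpowers a)))

theorem false : False := by
  have uu := k.f.uu
  have hF : IsElementaryAbelian 2 (zpowers (e * e) ⊔ (V (x * y) ⊔ Zz x y) ⊓ cen1 (e * e)) :=
    H12.ea_sup (H12.ea_zpowers (by rw [sq, uu])) (ea_le (k.AB_ea k.hA) inf_le_left)
      (cen_symm (inf_le_right.trans (cen_zpowers _).ge))
  have m := mem_sup_left (T := (V (x * y) ⊔ Zz x y) ⊓ cen1 (e * e)) (mem_zpowers (e * e))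
  have n := zpowers_le.2 k.eD
  refine H12.not_mem_res_of_extremal (D := N x) k.syl ?_ uu
    (mem_sup_right (mul_mem (mem_zpowers e) (mem_zpowers e))) k.uD m (ea_two hF)
    (fun r hr => ea_cen hF m r hr) (fun g hg => ?_) (k.B.res.ge (mem_top _))
  · refine commutator_sup_left_le le_normalizer n (commutator_le_left' k.SD)
      (commutator_sup_right_le le_normalizer n (commutator_le_right' n) ?_)
    rw [commutator_eq_bot_iff_le_centralizer.2 (le_centralizer _)]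
    exact bot_le
  · exact (k.memS (hg (conj_mem_cj m)) (by rw [conj_mul, uu]; simp)).resolve_left (k.no_conj hg)

end KE

theorem jobKe : JobKe.{u} := fun _ _ _ B _ _ _ f c => by_contra fun h => KE.false ⟨B, f, c, h⟩

end H57.T3
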