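import Cfsg.Agent.H54.YSSpec

/-! STD-SP (row S3129), slot `YS-RD`: the root data of the symplectic model. -/

set_option autoImplicit false
set_option linter.unusedSectionVars false

namespace H57.YSRD

open H64.SG (O2 Syl Cz Cs Ns cjs Is2 Inv2 IsO2 fx)
open Subgroup H67.SP H64.YE H54.YS
open H67.UA hiding Par Base FV FW
open H67.SA (cm St la)

variable {n : ℕ} {K : Type} [Field K] [StarRing K] [TrivialStar K] [CharP K 2] [Finite K]
  [Par n K] [Base n K] [FC n K] [KT n K]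

theorem map_ev (σ : RingAut K) (i : Fin (n + 1)) : (fun j => σ ((ev i : Vn n K) j)) = ev i :=
  funext fun j => by simp only [ev_apply]; split_ifs <;> simp

theorem xb_mem : xb n K ∈ ZL n K := (FV.mem_Zl _ _).2 ⟨1, rfl⟩

theorem zq : ZL n K ≤ QQ n K := fun z hz => by
  obtain ⟨c, rfl⟩ := (FV.mem_Zl _ _).1 hz
  exact (FV.mem_Qv _ _).2 ⟨0, c, hf_zero_left _, rfl⟩

theorem q_sq {x : XU n K} (hx : x ∈ QQ n K) : x * x = 1 := by
  obtain ⟨y, c, h, rfl⟩ := (FV.mem_Qv _ _).1 hx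
  exact H86.SPI.EE_sq h c

/-- The action on `Q` of an automorphism that maps `TT e₀` into `Z`. -/
theorem act {α : MulAut (XU n K)} (h : α (xb n K) ∈ ZL n K) : ∃ (f : Vn n K → Vn n K) (s : K → K),
    f 0 = 0 ∧ ∀ y c, hf y (ev 0) = 0 → hf (f y) (ev 0) = 0 ∧
      α (EE (ev 0) y c) = EE (ev 0) (f y) (s c) := by
  obtain ⟨g, σ, l, hl, h1, rfl⟩ := KT.sz α h
  refine ⟨fun y => star l • ac g fun i => σ (y i), fun c => nm l * σ c, ?_, fun y c hy => ?_⟩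
  · have : (fun i => σ ((0 : Vn n K) i)) = (0 : Vn n K) := funext fun i => by simp
    simp only [this, ac_zero, smul_zero]
  · have h2 : hf (fun i => σ (y i)) (ev 0 : Vn n K) = 0 := by
      rw [← map_ev σ 0, H54.SPF.hf_map, hy, map_zero]
    have h3 : hf (ac g fun i => σ (y i)) (ev 0 : Vn n K) = 0 := by
      have h4 : hf (ac g fun i => σ (y i)) (ac g (ev 0)) = 0 := by
        rw [hf_ac_left, ← ac_mul, inv_mul_cancel, ac_one, h2]
      rw [h1, H86.SPI.hf_smul_right'] at h4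
      exact (mul_eq_zero.1 h4).resolve_left hl
    refine ⟨by rw [hf_smul_left, h3, mul_zero], ?_⟩
    rw [MulAut.mul_apply, FA.fs_EE σ _ _ _ hy, map_ev, MulAut.conj_apply,
      EE_conj (FV.ok _ _ _ h2), h1, EE_smul]

theorem stZ {α : MulAut (XU n K)} (h : α (xb n K) ∈ ZL n K) : α ∈ St (ZL n K) := by
  obtain ⟨f, s, h0, h1⟩ := act h
  refine H67.SA.mem_St_of_finite fun z hz => ?_
  obtain ⟨c, rfl⟩ := (FV.mem_Zl _ _).1 hz
  exact (FV.mem_Zl _ _).2 ⟨s c, by rw [Tc, (h1 0 c (hf_zero_left _)).2, h0]⟩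

theorem stQ {α : MulAut (XU n K)} (h : α (xb n K) ∈ ZL n K) : α ∈ St (QQ n K) := by
  obtain ⟨f, s, -, h1⟩ := act h
  refine H67.SA.mem_St_of_finite fun z hz => ?_
  obtain ⟨y, c, hy, rfl⟩ := (FV.mem_Qv _ _).1 hz
  exact (FV.mem_Qv _ _).2 ⟨f y, s c, (h1 y c hy).1, (h1 y c hy).2⟩

theorem coQ : Co (QQ n K) := fun α h ho => by
  obtain ⟨ζ, hζ, rfl⟩ := FC.cQ α h
  have h2 : MulAut.conj ζ ^ 2 = 1 := by rw [sq, ← map_mul, q_sq hζ, map_one]
  have h3 := orderOf_dvd_of_pow_eq_one h2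
  rw [← orderOf_eq_one_iff]
  rcases (Nat.dvd_prime Nat.prime_two).1 h3 with h4 | h4
  · exact h4
  · rw [h4] at ho; exact absurd ho (by decide)

theorem lr_xb : Lr (xb n K) := ⟨ev 0, ev_ne 0, rfl⟩

theorem jobRD : JobRD := by
  intro n F _ _ _ _ _ _ _ _ _ _ K _ _ _ _ _ _ _ _ _ _ x ep
  have cz : Cs (ZL n K) = PP n K := KT.cz
  refine ⟨((FR.rk _).1.1 lr_xb).1, ?_, xb_mem, zq, KT.qu, cz ▸ KT.up, fun z hz => q_sq (zq hz),
    fun y hy => by rw [q_sq hy]; exact one_mem _, fun z hz h1 => ?_,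
    fun α => (FR.lr _).1 ((FA.cls α _).1 lr_xb), fun α h => stZ (h.symm ▸ xb_mem),
    fun α h => stQ ((h _).1 xb_mem), coQ, fun u hu h => FR.cE u (KT.up hu) h, ?_⟩
  · rw [H54.SPF.fs_TT, map_ev]
  · obtain ⟨c, rfl⟩ := (FV.mem_Zl _ _).1 hz
    refine (FR.lr _).1 ⟨rt c • ev 0, fun h0 => h1 ?_, H54.SPI.Tc_eq c _⟩
    rw [H54.SPI.Tc_eq, h0]
    exact EE_zero_left _ _
  · rw [cz]
    exact (KT.qu.trans KT.up).trans (ep _ le_rfl)

end H57.YSRD
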