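import Cfsg.Agent.Base
import Cfsg.Agent.H57.Parabolic

/-!
# Standard parabolic subgroups attached to compositions.
-/

set_option autoImplicit false
set_option linter.unusedSectionVars false

namespace H57

open Matrix Finset
open scoped MatrixGroups

/-- The `q`-factorial. -/
def qfact (q r : ℕ) : ℕ := ∏ j ∈ range r, ∑ l ∈ range (j + 1), q ^ l

lemma qfact_pos {q : ℕ} (r : ℕ) : 0 < qfact q r :=
  Finset.prod_pos fun j _ => by rw [sum_range_succ']; simp

lemma card_gl_eq_qfact (ι F : Type*) [Fintype ι] [DecidableEq ι] [Field F] [Fintype F] :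
    Nat.card (GL ι F) = Fintype.card F ^ (Fintype.card ι * (Fintype.card ι - 1) / 2) *
      ((Fintype.card F - 1) ^ Fintype.card ι * qfact (Fintype.card F) (Fintype.card ι)) := by
  rw [card_gl_eq_prod, ← card_GL_field, card_gl_fin_eq, qfact]
  congr 1
  rw [← card_range (Fintype.card ι), ← prod_const, card_range, ← prod_mul_distrib]
  exact prod_congr rfl fun j _ => by
    rw [mul_comm, geom_sum_mul_of_one_le Fintype.one_lt_card.le]

lemma two_mul_card_lt_add {ι α : Type*} [Fintype ι] [LinearOrder α] (b : ι → α) :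
    2 * Fintype.card {p : ι × ι // b p.1 < b p.2} +
      ∑ a ∈ univ.image b, Fintype.card {i // b i = a} ^ 2 = Fintype.card ι ^ 2 := by
  classical
  have h1 : #{p : ι × ι | b p.2 < b p.1} = #{p : ι × ι | b p.1 < b p.2} :=
    card_bijective Prod.swap Prod.swap_bijective (by simp)
  have h2 : #{p : ι × ι | b p.1 = b p.2} = ∑ a ∈ univ.image b, Fintype.card {i // b i = a} ^ 2 := by
    rw [card_eq_sum_card_fiberwise (f := fun p => b p.1) (t := univ.image b) (by simp [Set.MapsTo])]
    refine sum_congr rfl fun a _ => ?_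
    rw [Fintype.card_subtype, sq, ← card_product]
    congr 1
    ext p
    simp only [mem_filter, mem_univ, true_and, mem_product]
    constructor
    · rintro ⟨h, rfl⟩; exact ⟨rfl, h.symm⟩
    · rintro ⟨rfl, h⟩; exact ⟨h.symm, rfl⟩
  have h3 := card_filter_add_card_filter_not (s := (univ : Finset (ι × ι)))
    (fun p => b p.1 < b p.2)
  have h4 := card_filter_add_card_filter_not
    (s := (univ : Finset (ι × ι)).filter fun p => ¬ b p.1 < b p.2) (fun p => b p.1 = b p.2)
  have h5 : (((univ : Finset (ι × ι)).filter fun p => ¬ b p.1 < b p.2).filter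
      fun p => b p.1 = b p.2) = univ.filter fun p : ι × ι => b p.1 = b p.2 := by
    ext p; simp only [mem_filter, mem_univ, true_and]; exact ⟨And.right, fun h => ⟨h.not_lt, h⟩⟩
  have h6 : (((univ : Finset (ι × ι)).filter fun p => ¬ b p.1 < b p.2).filter
      fun p => ¬ b p.1 = b p.2) = univ.filter fun p : ι × ι => b p.2 < b p.1 := by
    ext p; simp only [mem_filter, mem_univ, true_and]
    exact ⟨fun h => lt_of_le_of_ne (not_lt.1 h.1) (Ne.symm h.2), fun h => ⟨h.not_gt, h.ne'⟩⟩
  rw [h5, h6] at h4
  rw [card_univ, Fintype.card_prod] at h3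
  rw [Fintype.card_subtype, ← h2, sq]
  omega

lemma sum_card_fiber {ι α : Type*} [Fintype ι] [DecidableEq α] (b : ι → α) :
    ∑ a ∈ univ.image b, Fintype.card {i // b i = a} = Fintype.card ι := by
  rw [← card_univ, card_eq_sum_card_fiberwise (f := b) (t := univ.image b) (by simp [Set.MapsTo])]
  exact sum_congr rfl fun a _ => Fintype.card_subtype _

lemma two_mul_choose_add (m : ℕ) : 2 * (m * (m - 1) / 2) + m = m ^ 2 := by
  rw [Nat.mul_div_cancel' (Nat.two_dvd_mul_sub_one m)]
  rcases m with _ | m
  · rfl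
  · simp; ring

/-- The order of a standard parabolic subgroup in terms of `q`-factorials. -/
theorem card_blockTriangular_gl_eq_qfact {ι α F : Type*} [Fintype ι] [DecidableEq ι] [LinearOrder α]
    [Field F] [Fintype F] (b : ι → α) :
    Nat.card {g : GL ι F // (g : Matrix ι ι F).BlockTriangular b} =
      Fintype.card F ^ (Fintype.card ι * (Fintype.card ι - 1) / 2) *
        ((Fintype.card F - 1) ^ Fintype.card ι *
          ∏ a ∈ univ.image b, qfact (Fintype.card F) (Fintype.card {i // b i = a})) := by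
  rw [card_blockTriangular_gl]
  simp only [card_gl_eq_qfact, prod_mul_distrib, prod_pow_eq_pow_sum, sum_card_fiber]
  rw [← mul_assoc, ← pow_add]
  congr 2
  have h1 := two_mul_card_lt_add b
  have h2 := sum_card_fiber b
  have h3 := two_mul_choose_add (Fintype.card ι)
  simp only [← two_mul_choose_add, sum_add_distrib, ← mul_sum] at h1
  omega

section comp

variable {n : ℕ} (μ : Fin n → ℕ)

lemma compLabel_le_iff (i a : Fin n) :
    Cfsg.compLabel μ i ≤ a ↔ i.val < ∑ k ∈ univ.filter (fun k : Fin n => k ≤ a), μ k := by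
  unfold Cfsg.compLabel
  constructor
  · intro h
    by_contra hc
    push Not at hc
    have : Iic a ⊆ univ.filter fun j : Fin n =>
        (∑ k ∈ univ.filter (fun k : Fin n => k ≤ j), μ k) ≤ i.val := by
      intro j hj
      simp only [mem_filter, mem_univ, true_and]
      refine le_trans (sum_le_sum_of_subset fun k hk => ?_) hc
      simp only [mem_filter, mem_univ, true_and, mem_Iic] at hk hj ⊢
      exact hk.trans hj
    have := card_le_card this
    rw [Fin.card_Iic] at this
    omega
  · intro h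
    rw [← Fin.card_Iio a]
    refine card_le_card fun j hj => ?_
    simp only [mem_filter, mem_univ, true_and, mem_Iio] at hj ⊢
    by_contra hc
    push Not at hc
    refine absurd (lt_of_le_of_lt hj h) (not_lt.2 (sum_le_sum_of_subset fun k hk => ?_))
    simp only [mem_filter, mem_univ, true_and] at hk ⊢
    exact hk.trans hc

lemma le_compLabel_iff (i a : Fin n) :
    a.val ≤ Cfsg.compLabel μ i ↔ ∑ k ∈ univ.filter (fun k : Fin n => k < a), μ k ≤ i.val := by
  obtain ⟨_ | a, ha⟩ := a
  · simp [Fin.lt_def]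
  · have := compLabel_le_iff μ i ⟨a, by omega⟩
    have e : univ.filter (fun k : Fin n => k < ⟨a + 1, ha⟩) =
        univ.filter (fun k : Fin n => k ≤ ⟨a, by omega⟩) := by
      ext k; simp [Fin.lt_def, Fin.le_def, Nat.lt_succ_iff]
    rw [e]
    dsimp only at this ⊢
    omega

lemma compLabel_lt (hμ : ∑ i, μ i = n) (i : Fin n) : Cfsg.compLabel μ i < n := by
  have hi := i.2
  have := (compLabel_le_iff μ i ⟨n - 1, by omega⟩).2 (by
    rw [filter_true_of_mem fun k _ => by rw [Fin.le_def]; have := k.2; simp; omega, hμ]; exact hi)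
  simp at this
  omega

lemma card_compLabel_eq (hμ : ∑ i, μ i = n) (a : Fin n) :
    Fintype.card {i // Cfsg.compLabel μ i = a} = μ a := by
  set T := ∑ k ∈ univ.filter (fun k : Fin n => k < a), μ k with hT
  have hS : ∑ k ∈ univ.filter (fun k : Fin n => k ≤ a), μ k = T + μ a := by
    rw [hT, add_comm, ← sum_insert (by simp)]
    congr 1
    ext k
    simp [le_iff_lt_or_eq, or_comm]
  have hle : T + μ a ≤ n := by
    rw [← hS]; exact (sum_le_sum_of_subset (filter_subset _ _)).trans hμ.le
  rw [Fintype.card_subtype, ← card_map Fin.valEmbedding, ← add_tsub_cancel_left T (μ a),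
    ← Nat.card_Ico]
  congr 1
  ext j
  simp only [mem_map, mem_filter, mem_univ, true_and, Fin.valEmbedding_apply, mem_Ico,
    le_antisymm_iff (a := Cfsg.compLabel μ _), compLabel_le_iff, le_compLabel_iff, hS, ← hT]
  constructor
  · rintro ⟨i, ⟨h1, h2⟩, rfl⟩; exact ⟨h2, h1⟩
  · rintro ⟨h1, h2⟩; exact ⟨⟨j, by omega⟩, ⟨h2, h1⟩, rfl⟩

lemma prod_image_compLabel {M : Type*} [CommMonoid M] (hμ : ∑ i, μ i = n) (f : ℕ → M)
    (hf : f 0 = 1) : ∏ a ∈ univ.image (Cfsg.compLabel μ), f (Fintype.card {i // Cfsg.compLabel μ i = a}) =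
      ∏ a, f (μ a) := by
  rw [prod_subset (s₂ := range n), prod_range]
  · exact prod_congr rfl fun a _ => by rw [card_compLabel_eq μ hμ]
  · intro a ha
    obtain ⟨i, -, rfl⟩ := mem_image.1 ha
    exact mem_range.2 (compLabel_lt μ hμ i)
  · intro a _ ha
    rw [Fintype.card_eq_zero_iff.2 ⟨fun i => ha (mem_image.2 ⟨i.1, mem_univ _, i.2⟩)⟩, hf]

theorem card_parabolicGL (F : Type*) [Field F] [Fintype F] (hμ : ∑ i, μ i = n) :
    Nat.card (Cfsg.parabolicGL n F μ) = Fintype.card F ^ (n * (n - 1) / 2) *
      ((Fintype.card F - 1) ^ n * ∏ a, qfact (Fintype.card F) (μ a)) := by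
  have := card_blockTriangular_gl_eq_qfact (F := F) (Cfsg.compLabel μ)
  rw [prod_image_compLabel μ hμ _ rfl, Fintype.card_fin] at this
  exact this

theorem index_parabolicGL_mul (F : Type*) [Field F] [Fintype F] (hμ : ∑ i, μ i = n) :
    (Cfsg.parabolicGL n F μ).index * ∏ a, qfact (Fintype.card F) (μ a) = qfact (Fintype.card F) n := by
  have h := (Cfsg.parabolicGL n F μ).index_mul_card
  rw [card_parabolicGL μ F hμ, card_gl_eq_qfact, Fintype.card_fin, mul_left_comm] at h
  have hq : 1 < Fintype.card F := Fintype.one_lt_card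
  have h2 := Nat.eq_of_mul_eq_mul_left (by positivity) h
  rw [mul_left_comm] at h2
  exact Nat.eq_of_mul_eq_mul_left (pow_pos (by omega) _) h2

end comp

end H57
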