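import Cfsg.Agent.Base
import Cfsg.Agent.H57.CompLabel
import Cfsg.Agent.H57.JT

/-!
# Bruhat decomposition of `GL_n` and double cosets of standard parabolic subgroups.
-/

set_option autoImplicit false
set_option linter.unusedSectionVars false

namespace H57

open Matrix Finset
open scoped MatrixGroups

/-- The inner product of two coset permutation characters counts double cosets. -/
theorem sum_fpc_mul_fpc {G Ω C : Type*} [Group G] [Fintype G] (H K : Subgroup G) (w : Ω → G)
    (T : Ω → C) (hT : Function.Surjective T) (h1 : ∀ g, ∃ σ, ∃ h ∈ H, ∃ k ∈ K, g = h * w σ * k)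
    (h2 : ∀ σ τ, T σ = T τ ↔ ∃ h ∈ H, ∃ k ∈ K, w τ = h * w σ * k) :
    ∑ g, Cfsg.fixedPointCharacter H g * Cfsg.fixedPointCharacter K g =
      (Nat.card G : ℂ) * Nat.card C := by
  classical
  have e1 : ∀ g : G, Cfsg.fixedPointCharacter H g * Cfsg.fixedPointCharacter K g =
      (Fintype.card (MulAction.fixedBy ((G ⧸ H) × (G ⧸ K)) g) : ℂ) := by
    intro g
    rw [Cfsg.fixedPointCharacter, Cfsg.fixedPointCharacter, ← Nat.cast_mul, ← Nat.card_prod,
      ← Nat.card_eq_fintype_card]
    congr 1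
    exact Nat.card_congr
      { toFun := fun x => ⟨(x.1.1, x.2.1), Prod.ext x.1.2 x.2.2⟩
        invFun := fun x => (⟨x.1.1, congrArg Prod.fst x.2⟩, ⟨x.1.2, congrArg Prod.snd x.2⟩)
        left_inv := fun _ => rfl
        right_inv := fun _ => rfl }
  simp only [e1]
  rw [← Nat.cast_sum, MulAction.sum_card_fixedBy_eq_card_orbits_mul_card_group, Nat.cast_mul,
    mul_comm, ← Nat.card_eq_fintype_card, ← Nat.card_eq_fintype_card]
  congr 2
  let Φ : Ω → MulAction.orbitRel.Quotient G ((G ⧸ H) × (G ⧸ K)) :=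
    fun σ => Quotient.mk _ (((1 : G) : G ⧸ H), (w σ : G ⧸ K))
  have hΦ : ∀ σ τ, Φ σ = Φ τ ↔ T σ = T τ := by
    intro σ τ
    rw [h2, eq_comm, Quotient.eq, MulAction.orbitRel_apply, MulAction.mem_orbit_iff]
    constructor
    · rintro ⟨g, hg⟩
      have a1 : g • ((1 : G) : G ⧸ H) = ((1 : G) : G ⧸ H) := congrArg Prod.fst hg
      have a2 : g • (w σ : G ⧸ K) = (w τ : G ⧸ K) := congrArg Prod.snd hg
      rw [MulAction.Quotient.smul_mk, QuotientGroup.eq] at a1 a2
      exact ⟨g, by simpa using a1, _, a2, by simp [mul_assoc]⟩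
    · rintro ⟨h, hh, k, hk, e⟩
      refine ⟨h, Prod.ext ?_ ?_⟩
      · change h • ((1 : G) : G ⧸ H) = ((1 : G) : G ⧸ H)
        rw [MulAction.Quotient.smul_mk, QuotientGroup.eq]; simpa using hh
      · change h • (w σ : G ⧸ K) = (w τ : G ⧸ K)
        rw [MulAction.Quotient.smul_mk, QuotientGroup.eq, e]; simpa [mul_assoc] using hk
  symm
  refine Nat.card_eq_of_bijective (fun c => Φ (Function.surjInv hT c)) ⟨fun c d h => ?_, ?_⟩
  · rwa [hΦ, Function.surjInv_eq hT, Function.surjInv_eq hT] at h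
  · rintro ⟨x, y⟩
    obtain ⟨x, rfl⟩ := QuotientGroup.mk_surjective x
    obtain ⟨y, rfl⟩ := QuotientGroup.mk_surjective y
    obtain ⟨σ, h, hh, k, hk, e⟩ := h1 (x⁻¹ * y)
    refine ⟨T σ, ((hΦ _ _).2 (Function.surjInv_eq hT _)).trans (Quotient.sound ⟨(x * h)⁻¹, ?_⟩)⟩
    refine Prod.ext ?_ ?_
    · change (x * h)⁻¹ • (x : G ⧸ H) = ((1 : G) : G ⧸ H)
      rw [MulAction.Quotient.smul_mk, QuotientGroup.eq]; simpa using hh
    · change (x * h)⁻¹ • (y : G ⧸ K) = (w σ : G ⧸ K)
      rw [MulAction.Quotient.smul_mk, QuotientGroup.eq, smul_eq_mul, _root_.mul_inv_rev (x : G),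
        mul_assoc h⁻¹, e]
      simpa [mul_assoc] using hk

section tables

variable {ι κ κ' : Type*} [Fintype ι] [Fintype κ] [Fintype κ'] [DecidableEq κ] [DecidableEq κ']

lemma exists_equiv_of_card_fiber_eq {X Y Z : Type*} [Finite X] [Finite Y] (f : X → Z) (g : Y → Z)
    (h : ∀ z, Nat.card {x // f x = z} = Nat.card {y // g y = z}) : ∃ e : X ≃ Y, ∀ x, g (e x) = f x :=
  ⟨Equiv.ofFiberEquiv fun z => (Finite.card_eq.1 (h z)).some, Equiv.ofFiberEquiv_map _⟩

/-- The contingency table of a permutation with respect to two labellings. -/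
def tableOf (a : ι → κ) (b : ι → κ') (σ : Equiv.Perm ι) (t : κ') (s : κ) : ℕ :=
  #{j | a (σ j) = s ∧ b j = t}

lemma tableOf_mem {a : ι → κ} {b : ι → κ'} {α : κ → ℕ} {β : κ' → ℕ}
    (ha : ∀ s, Fintype.card {i // a i = s} = α s) (hb : ∀ t, Fintype.card {i // b i = t} = β t)
    (σ : Equiv.Perm ι) :
    (∀ s, ∑ t, tableOf a b σ t s = α s) ∧ ∀ t, ∑ s, tableOf a b σ t s = β t := by
  constructor
  · intro s
    rw [← ha, ← Fintype.card_congr (σ.subtypeEquiv (p := fun j => a (σ j) = s) fun _ => Iff.rfl),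
      Fintype.card_subtype, card_eq_sum_card_fiberwise (f := b) (t := univ) (by simp)]
    simp only [tableOf, filter_filter]
  · intro t
    rw [← hb, Fintype.card_subtype,
      card_eq_sum_card_fiberwise (f := fun j => a (σ j)) (t := univ) (by simp)]
    simp only [tableOf, filter_filter, and_comm]

lemma tableOf_surjective {a : ι → κ} {b : ι → κ'} {α : κ → ℕ} {β : κ' → ℕ}
    (ha : ∀ s, Fintype.card {i // a i = s} = α s) (hb : ∀ t, Fintype.card {i // b i = t} = β t) :
    Function.Surjective fun σ : Equiv.Perm ι =>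
      (⟨tableOf a b σ, tableOf_mem ha hb σ⟩ : Tables α β) := by
  rintro ⟨M, h1, h2⟩
  let X := Σ p : κ' × κ, Fin (M p.1 p.2)
  have key : ∀ (P : κ' × κ → Prop) [DecidablePred P], Nat.card {x : X // P x.1} =
      ∑ p ∈ univ.filter P, M p.1 p.2 := by
    intro P _
    rw [Nat.card_congr (Equiv.subtypeSigmaEquiv _ P), Nat.card_sigma,
      sum_subtype (p := P) (F := inferInstance) (univ.filter P) (by simp)]
    simp
  obtain ⟨e₁, he₁⟩ := exists_equiv_of_card_fiber_eq (fun x : X => x.1.2) a fun s => by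
    rw [key fun p => p.2 = s, Nat.card_eq_fintype_card, ha, ← h1, sum_filter, Fintype.sum_prod_type]
    simp
  obtain ⟨e₂, he₂⟩ := exists_equiv_of_card_fiber_eq (fun x : X => x.1.1) b fun t => by
    rw [key fun p => p.1 = t, Nat.card_eq_fintype_card, hb, ← h2, sum_filter,
      Fintype.sum_prod_type_right]
    simp
  refine ⟨e₂.symm.trans e₁, Subtype.ext ?_⟩
  ext t s
  have := key fun p => p = (t, s)
  rw [filter_eq', if_pos (mem_univ _), sum_singleton] at this
  change tableOf a b _ t s = M t s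
  rw [← this, tableOf, ← Fintype.card_subtype, ← Nat.card_eq_fintype_card]
  refine Nat.card_congr (e₂.symm.subtypeEquiv fun j => ?_)
  rw [Equiv.trans_apply, he₁, ← e₂.apply_symm_apply j, he₂, e₂.apply_symm_apply, Prod.ext_iff,
    and_comm]

lemma tableOf_eq_iff {a : ι → κ} {b : ι → κ'} (σ τ : Equiv.Perm ι) :
    tableOf a b σ = tableOf a b τ ↔ ∃ ρ π : Equiv.Perm ι,
      (∀ i, a (ρ i) = a i) ∧ (∀ i, b (π i) = b i) ∧ τ = ρ * σ * π := by
  constructor
  · intro h
    obtain ⟨π, hπ⟩ := exists_equiv_of_card_fiber_eq (fun j => (a (τ j), b j))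
      (fun j => (a (σ j), b j)) fun z => by
        have := congrFun (congrFun h z.2) z.1
        simp only [tableOf] at this
        simp only [Nat.card_eq_fintype_card, Fintype.card_subtype, Prod.ext_iff, this]
    refine ⟨τ * π⁻¹ * σ⁻¹, π, fun i => ?_, fun i => congrArg Prod.snd (hπ i), by group⟩
    have := congrArg Prod.fst (hπ (π⁻¹ (σ⁻¹ i)))
    simpa using this.symm
  · rintro ⟨ρ, π, h1, h2, rfl⟩
    ext t s
    symm
    refine card_bijective π π.bijective fun j => ?_
    simp [h1, h2]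

end tables

variable {ι F : Type*} [Fintype ι] [DecidableEq ι] [Field F]

/-- Permutation matrices. -/
def permGL (ι F : Type*) [Fintype ι] [DecidableEq ι] [Field F] : Equiv.Perm ι →* GL ι F :=
  (Matrix.permMatrixHom (R := F)).toHomUnits

lemma permGL_apply (σ : Equiv.Perm ι) (i j : ι) :
    (permGL ι F σ : Matrix ι ι F) i j = if i = σ j then 1 else 0 := by
  change σ⁻¹.permMatrix F i j = _
  simp [PEquiv.toMatrix_apply, Equiv.symm_apply_eq]

lemma permGL_mulVec (σ : Equiv.Perm ι) (v : ι → F) (i : ι) :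
    ((permGL ι F σ : Matrix ι ι F) *ᵥ v) i = v (σ⁻¹ i) := by
  change (σ⁻¹.permMatrix F *ᵥ v) i = _
  rw [permMatrix_mulVec]; rfl

lemma mul_permGL_apply (M : Matrix ι ι F) (σ : Equiv.Perm ι) (i j : ι) :
    (M * (permGL ι F σ : Matrix ι ι F)) i j = M i (σ j) := by
  simp [mul_apply, permGL_apply]

/-- Block upper triangular invertible matrices. -/
def blockGL (F : Type*) [Field F] {κ : Type*} [LinearOrder κ] (a : ι → κ) : Subgroup (GL ι F) where
  carrier := {g | (g : Matrix ι ι F).BlockTriangular a}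
  mul_mem' := fun ha hb => Matrix.BlockTriangular.mul ha hb
  one_mem' := Matrix.blockTriangular_one
  inv_mem' := fun {g} hg => by
    change ((g⁻¹ : GL ι F) : Matrix ι ι F).BlockTriangular a
    have : Invertible (g : Matrix ι ι F) := g.invertible
    rw [Matrix.coe_units_inv]
    exact Matrix.blockTriangular_inv_of_blockTriangular hg

lemma mem_blockGL {κ : Type*} [LinearOrder κ] {a : ι → κ} {g : GL ι F} :
    g ∈ blockGL F a ↔ (g : Matrix ι ι F).BlockTriangular a := Iff.rfl

/-- **Bruhat decomposition** of `GL_n`. -/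
theorem bruhat_gl {n : ℕ} (g : GL (Fin n) F) : ∃ σ : Equiv.Perm (Fin n),
    ∃ h ∈ blockGL F (id : Fin n → Fin n), ∃ k ∈ blockGL F (id : Fin n → Fin n),
      g = h * permGL (Fin n) F σ * k := by
  classical
  let S : ℕ → Prop := fun N => ∃ k ∈ blockGL F (id : Fin n → Fin n), ∃ p : Fin n → Fin n,
    (∀ i j, p j < i → (g * k).1 i j = 0) ∧ ∑ j, (p j).val = N
  have hex : ∃ N, S N := ⟨_, 1, one_mem _, fun j => ⟨n - 1, by have := j.2; omega⟩,
    fun i j h => absurd h (by have := i.2; simp [Fin.lt_def]; omega), rfl⟩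
  obtain ⟨k, hk, p, hp, hN⟩ := Nat.find_spec hex
  have lower : ∀ k' ∈ blockGL F (id : Fin n → Fin n), ∀ j₀,
      (∀ i j, p j < i → (g * k').1 i j = 0) → (g * k').1 (p j₀) j₀ ≠ 0 := by
    intro k' hk' j₀ hp' h0
    by_cases hz : (p j₀).val = 0
    · apply (g * k').det_ne_zero
      refine det_eq_zero_of_column_eq_zero j₀ fun i => ?_
      rcases (show p j₀ ≤ i from by rw [Fin.le_def]; omega).eq_or_lt with rfl | h
      · exact h0
      · exact hp' i j₀ h
    · refine Nat.find_min hex (m := ∑ j, ((Function.update p j₀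
        ⟨(p j₀).val - 1, by have := (p j₀).2; omega⟩ : Fin n → Fin n) j).val) ?_
        ⟨k', hk', _, fun i j h => ?_, rfl⟩
      · rw [← hN]
        refine sum_lt_sum (fun j _ => ?_) ⟨j₀, mem_univ _, by simp; omega⟩
        by_cases hj : j = j₀
        · subst hj; simp
        · simp [hj]
      · by_cases hj : j = j₀
        · subst hj
          rw [Function.update_self, Fin.lt_def] at h
          rcases (show p j ≤ i from by rw [Fin.le_def]; simp at h; omega).eq_or_lt with rfl | h
          · exact h0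
          · exact hp' i j h
        · rw [Function.update_of_ne hj] at h
          exact hp' i j h
  have hinj : ∀ j j', j < j' → p j ≠ p j' := by
    intro j j' hjj e
    have h0 := lower k hk j hp
    let t : GL (Fin n) F := SpecialLinearGroup.toGL
      (SpecialLinearGroup.transvection hjj.ne (-((g * k).1 (p j) j' / (g * k).1 (p j) j)))
    have ht : t ∈ blockGL F (id : Fin n → Fin n) := blockTriangular_transvection hjj.le _
    have hc : ∀ i l, (g * (k * t)).1 i l = (g * k).1 i l + if l = j' then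
        (g * k).1 i j * (-((g * k).1 (p j) j' / (g * k).1 (p j) j)) else 0 := by
      intro i l
      rw [← mul_assoc, Units.val_mul]
      change ((g * k).1 * Matrix.transvection j j' _ : Matrix (Fin n) (Fin n) F) i l = _
      split_ifs with h
      · rw [h, mul_transvection_apply_same, mul_comm]
      · rw [mul_transvection_apply_of_ne _ _ _ _ h, add_zero]
    refine lower (k * t) (mul_mem hk ht) j' (fun i l h => ?_) ?_
    · rw [hc, hp i l h]
      split_ifs with h'
      · rw [hp i j (by rw [e, ← h']; exact h)]; simp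
      · simp
    · rw [hc, if_pos rfl, ← e]
      field_simp
      ring
  have hinj' : Function.Injective p := fun j j' e => by
    rcases lt_trichotomy j j' with h | h | h
    · exact absurd e (hinj _ _ h)
    · exact h
    · exact absurd e.symm (hinj _ _ h)
  let σ : Equiv.Perm (Fin n) := Equiv.ofBijective p (Finite.injective_iff_bijective.1 hinj')
  refine ⟨σ, g * k * (permGL (Fin n) F σ)⁻¹, fun i j (hij : j < i) => ?_, k⁻¹, inv_mem hk, by group⟩
  rw [← map_inv, Units.val_mul, mul_permGL_apply]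
  refine hp _ _ ?_
  change σ (σ⁻¹ j) < i
  simpa using hij

lemma blockGL_id_le {κ : Type*} [LinearOrder ι] [LinearOrder κ] {a : ι → κ} (ha : Monotone a) :
    blockGL F (id : ι → ι) ≤ blockGL F a := fun _ hg _ _ h => hg (ha.reflect_lt h)

lemma permGL_mem_blockGL {κ : Type*} [LinearOrder κ] {a : ι → κ} {ρ : Equiv.Perm ι}
    (h : ∀ i, a (ρ i) = a i) : permGL ι F ρ ∈ blockGL F a := fun i j hij => by
  rw [permGL_apply, if_neg]
  rintro rfl
  exact absurd hij (by rw [h]; exact lt_irrefl _)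

lemma map_coordSub_of_mem_blockGL {κ : Type*} [LinearOrder κ] {a : ι → κ} {g : GL ι F}
    (hg : g ∈ blockGL F a) {P : κ → Prop} (hP : ∀ s t, s ≤ t → P t → P s) :
    (coordSub F fun i => P (a i)).map (GeneralLinearGroup.toLin g).toLinearEquiv.toLinearMap =
      coordSub F fun i => P (a i) := by
  refine Submodule.eq_of_le_of_finrank_eq ?_ (LinearEquiv.finrank_map_eq _ _)
  rintro _ ⟨v, hv, rfl⟩
  intro i hi
  change ((g : Matrix ι ι F) *ᵥ v) i = 0
  refine Finset.sum_eq_zero fun j _ => ?_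
  by_cases hj : P (a j)
  · exact mul_eq_zero_of_left (hg (not_le.1 fun h => hi (hP _ _ h hj))) _
  · rw [hv j hj, mul_zero]

lemma map_coordSub_permGL (σ : Equiv.Perm ι) (p : ι → Prop) :
    (coordSub F p).map (GeneralLinearGroup.toLin (permGL ι F σ)).toLinearEquiv.toLinearMap =
      coordSub F fun i => p (σ⁻¹ i) := by
  classical
  refine Submodule.eq_of_le_of_finrank_eq ?_ ?_
  · rintro _ ⟨v, hv, rfl⟩ i hi
    exact (permGL_mulVec σ v i).trans (hv _ hi)
  · rw [LinearEquiv.finrank_map_eq, finrank_coordSub, finrank_coordSub]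
    exact Fintype.card_congr (σ.subtypeEquiv (by simp))

lemma coordSub_inf (p q : ι → Prop) : coordSub F p ⊓ coordSub F q = coordSub F fun i => p i ∧ q i := by
  ext v
  change (∀ i, ¬ p i → v i = 0) ∧ (∀ i, ¬ q i → v i = 0) ↔ ∀ i, ¬ (p i ∧ q i) → v i = 0
  simp only [not_and_or, or_imp, forall_and]

lemma card_eq_of_double {κ κ' : Type*} [LinearOrder κ] [LinearOrder κ'] {a : ι → κ} {b : ι → κ'}
    {σ τ : Equiv.Perm ι} {h k : GL ι F} (hh : h ∈ blockGL F a) (hk : k ∈ blockGL F b)
    (e : permGL ι F τ = h * permGL ι F σ * k) {P : κ → Prop} {Q : κ' → Prop} [DecidablePred P]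
    [DecidablePred Q] (hP : ∀ s t, s ≤ t → P t → P s) (hQ : ∀ s t, s ≤ t → Q t → Q s) :
    #{j | P (a (σ j)) ∧ Q (b j)} = #{j | P (a (τ j)) ∧ Q (b j)} := by
  have key : ∀ ρ : Equiv.Perm ι, #{j | P (a (ρ j)) ∧ Q (b j)} =
      Module.finrank F ↥(coordSub F (fun i => P (a i)) ⊓ (coordSub F fun i => Q (b i)).map
        (GeneralLinearGroup.toLin (permGL ι F ρ)).toLinearEquiv.toLinearMap) := by
    intro ρ
    rw [map_coordSub_permGL, coordSub_inf, finrank_coordSub, Fintype.card_subtype]
    exact card_bijective ρ ρ.bijective (by simp)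
  have hm : ∀ x y : GL ι F, (GeneralLinearGroup.toLin (x * y)).toLinearEquiv.toLinearMap =
      (GeneralLinearGroup.toLin x).toLinearEquiv.toLinearMap ∘ₗ
        (GeneralLinearGroup.toLin y).toLinearEquiv.toLinearMap := fun x y => by
    rw [map_mul]; rfl
  rw [key, key, e, hm, hm, Submodule.map_comp, Submodule.map_comp,
    map_coordSub_of_mem_blockGL hk hQ]
  conv_rhs => rw [← map_coordSub_of_mem_blockGL hh hP]
  rw [← Submodule.map_inf _ (GeneralLinearGroup.toLin h).toLinearEquiv.injective,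
    LinearEquiv.finrank_map_eq]

lemma card_le_eq_add {κ : Type*} [LinearOrder κ] (f : ι → κ) (s : κ) (R : ι → Prop)
    [DecidablePred R] :
    #{j | f j ≤ s ∧ R j} = #{j | f j < s ∧ R j} + #{j | f j = s ∧ R j} := by
  rw [← card_union_of_disjoint, ← filter_or]
  · congr 1
    ext j
    simp only [mem_filter, mem_univ, true_and, le_iff_lt_or_eq, or_and_right]
  · rw [disjoint_filter]
    exact fun j _ h h' => h.1.ne h'.1

theorem tableOf_eq_iff_gl {κ κ' : Type*} [Fintype κ] [Fintype κ'] [LinearOrder κ] [LinearOrder κ']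
    {a : ι → κ} {b : ι → κ'} (σ τ : Equiv.Perm ι) :
    tableOf a b σ = tableOf a b τ ↔
      ∃ h ∈ blockGL F a, ∃ k ∈ blockGL F b, permGL ι F τ = h * permGL ι F σ * k := by
  constructor
  · intro h
    obtain ⟨ρ, π, h1, h2, rfl⟩ := (tableOf_eq_iff σ τ).1 h
    exact ⟨_, permGL_mem_blockGL h1, _, permGL_mem_blockGL h2, by simp⟩
  · rintro ⟨h, hh, k, hk, e⟩
    ext t s
    have l1 : ∀ x y : κ, x ≤ y → y ≤ s → x ≤ s := fun _ _ => le_trans
    have l2 : ∀ x y : κ, x ≤ y → y < s → x < s := fun _ _ => lt_of_le_of_lt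
    have m1 : ∀ x y : κ', x ≤ y → y ≤ t → x ≤ t := fun _ _ => le_trans
    have m2 : ∀ x y : κ', x ≤ y → y < t → x < t := fun _ _ => lt_of_le_of_lt
    have c1 := card_eq_of_double hh hk e l1 m1
    have c2 := card_eq_of_double hh hk e l1 m2
    have c3 := card_eq_of_double hh hk e l2 m1
    have c4 := card_eq_of_double hh hk e l2 m2
    have key : ∀ ρ : Equiv.Perm ι, tableOf a b ρ t s + #{j | a (ρ j) ≤ s ∧ b j < t} +
        #{j | a (ρ j) < s ∧ b j ≤ t} = #{j | a (ρ j) ≤ s ∧ b j ≤ t} + #{j | a (ρ j) < s ∧ b j < t} := by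
      intro ρ
      have d1 := card_le_eq_add (fun j => a (ρ j)) s fun j => b j ≤ t
      have d2 := card_le_eq_add (fun j => a (ρ j)) s fun j => b j < t
      have d3 := card_le_eq_add b t fun j => a (ρ j) = s
      simp only [and_comm (a := _ ≤ t), and_comm (a := _ < t), and_comm (a := b _ = t)] at d3
      unfold tableOf
      omega
    have k1 := key σ
    have k2 := key τ
    omega

end H57
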