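import Cfsg.Agent.H87.KM2

/-! The Klinger-Mason method with a weaker local hypothesis (port of `H87.KM`). -/

set_option autoImplicit false
open Cfsg Subgroup H46 H87.KM
open scoped commutatorElement

namespace H57.KM

universe u
variable {G : Type u} [Group G] {p N : ℕ} {A B E P T W X K : Subgroup G} {t z : G}

/-- The 2-subgroups of the centralizer of `A` act faithfully on a normal `p`-subgroup. -/
def Lc (p : ℕ) (A : Subgroup G) : Prop :=
  ∃ P : Subgroup G, IsPGroup p P ∧ P ≤ Cent A ∧ Cent A ≤ Nrm P ∧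
    ∀ E : Subgroup G, IsPGroup 2 E → E ≤ Cent A → E ≤ Cent P → E = ⊥

theorem faith (h : ∀ E : Subgroup G, IsPGroup 2 E → E ≤ Cent A → E ≤ Cent P → E = ⊥)
    (hE : IsPGroup 2 E) (hEA : E ≤ Cent A) : E ⊓ Cent P = ⊥ :=
  h _ (hE.to_le inf_le_left) (inf_le_left.trans hEA) inf_le_right

variable [Finite G]

/-- The standing hypothesis on `B`. -/
structure Bg (p N : ℕ) (B : Subgroup G) : Prop where
  prime : p.Prime
  ne : p ≠ 2
  mx : Mx G p N
  el : IsElementaryAbelian p B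
  ne_bot : B ≠ ⊥
  big : N ≤ Nat.card B
  loc : ∀ A ≤ B, A.relIndex B = p → Lc p A

theorem Bg.a (h : Bg p N B) (hA : A ≤ B) (hi : A.relIndex B = p) (hE : IsElementaryAbelian 2 E)
    (hEA : E ≤ Cent A) : Nat.card E ∣ 4 := by
  obtain ⟨P, h1, h2, h3, h4⟩ := h.loc A hA hi
  exact km1_le (k := 1) h.prime h.ne h.mx (H15.elem_of_le h.el hA) h1 hE (le_cent_symm h2)
    (le_cent_symm hEA) (hEA.trans h3) (faith h4 (pgrp Nat.prime_two hE) hEA)
    (by rw [pow_one, H15.card_hyperplane hA hi]; exact h.big)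

theorem Bg.b (h : Bg p N B) (hE : IsElementaryAbelian 2 E) (hEB : E ≤ Cent B) :
    Nat.card E ∣ 2 := by
  have := Fact.mk h.prime
  obtain ⟨A, hA, hi⟩ := H15.exists_relIndex_eq_prime h.prime (isPi_of_elem h.prime h.el) h.ne_bot
  obtain ⟨P, h1, h2, h3, h4⟩ := h.loc A hA hi
  have hEA := hEB.trans (cent_anti hA)
  have hE2 := pgrp Nat.prime_two hE
  refine km1_le (k := 0) (P := P ⊓ Cent B) h.prime h.ne h.mx h.el (h1.to_le inf_le_left) hE
    (le_cent_symm inf_le_right) (le_cent_symm hEB)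
    (nrm_inf (hEA.trans h3) (nrm_cent (nrm_of_le_cent hEB))) ?_ (by simpa using h.big)
  rw [eq_bot_iff, ← faith h4 hE2 hEA]
  refine le_inf inf_le_left (H1.thompson_pq (pgrp h.prime h.el) ?_
    (le_cent_symm (inf_le_left.trans hEB)) _ P rfl h1 ((H15.elem_le_cent h.el hA).trans h3)
    (inf_le_left.trans (hEA.trans h3)) (le_cent_symm inf_le_right))
  obtain ⟨k, hk⟩ := (hE2.to_le (inf_le_left (b := Cent (P ⊓ Cent B)))).exists_card_eq
  exact hk ▸ ((Nat.coprime_primes Nat.prime_two h.prime).2 h.ne.symm).pow_left k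

theorem Bg.c (h : Bg p N B) (hE : IsElementaryAbelian 2 E) (hBE : B ≤ Nrm E)
    (h3 : p = 3 → ∃ t, orderOf t = 2 ∧ t ∈ Cent B ∧ t ∈ Nrm E) : E ≤ Cent B := by
  have := Fact.mk h.prime
  have hE2 := pgrp Nat.prime_two hE
  refine H15.le_of_hyperplane h.prime h.el h.ne_bot hBE (pi_compl h.ne hE2) fun A hA hi => ?_
  set F := E ⊓ Cent A
  have hF : IsElementaryAbelian 2 F := H15.elem_of_le hE inf_le_left
  have hBF : B ≤ Nrm F := nrm_inf hBE (nrm_cent (nrm_of_le_cent (H15.elem_le_cent h.el hA)))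
  have h1 := h.a hA hi hF inf_le_right
  have h2 := H2.card_modEq_card_inf_centralizer (pgrp h.prime h.el) hBF
  by_contra h4
  have h5 : F ⊓ Cent B < F := lt_of_le_of_ne inf_le_left fun e => h4 (inf_eq_left.1 e)
  have h6 := H3.mul_card_le_of_lt' (p := 2) (pgrp Nat.prime_two hF) h5
  have h7 := (Nat.modEq_iff_dvd' (card_le_of_le h5.le)).1 h2.symm
  have h8 : 0 < Nat.card ↥(F ⊓ Cent B) := Nat.card_pos
  have h9 := Nat.le_of_dvd (by norm_num) h1
  have hp3 : 3 ≤ p := by have := h.prime.two_le; have := h.ne; omega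
  have h10 := Nat.le_of_dvd (by omega) h7
  have h11 : Nat.card F = 4 := by omega
  have h12 : F ⊓ Cent B = ⊥ := card_eq_one.1 (by omega)
  obtain ⟨t, ht, htB, htE⟩ := h3 (by omega)
  have hT : IsPGroup 2 (zpowers t) := IsPGroup.of_card (n := 1) (by rw [Nat.card_zpowers, ht]; rfl)
  have htA : t ∈ Cent A := cent_anti hA htB
  have h13 : _ ≡ Nat.card ↥(F ⊓ Cent (zpowers t)) [MOD 2] := H2.card_modEq_card_inf_centralizer hT
    (zpowers_le.2 (nrm_inf (zpowers_le.2 htE) (nrm_cent (nrm_of_le_cent (zpowers_le.2 htA)))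
      (mem_zpowers t)) : zpowers t ≤ Nrm F)
  have h14 : Nat.card ↥(F ⊓ Cent (zpowers t)) ≡ _ [MOD p] :=
    H2.card_modEq_card_inf_centralizer (pgrp h.prime h.el)
    (nrm_inf hBF (nrm_cent (nrm_of_le_cent (le_cent_symm (zpowers_le.2 htB)))))
  rw [inf_right_comm F, h12, bot_inf_eq, card_bot, show p = 3 by omega] at h14
  have h15 := card_le_of_le (inf_le_left : F ⊓ Cent (zpowers t) ≤ F)
  have h16 : F ⊓ Cent (zpowers t) = F := eq_of_le_of_card_ge inf_le_left (by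
    unfold Nat.ModEq at h13 h14
    have : 0 < Nat.card ↥(F ⊓ Cent (zpowers t)) := Nat.card_pos
    omega)
  have h17 : IsElementaryAbelian 2 (F ⊔ zpowers t) :=
    elem_sup hF (elem_zpowers (ht ▸ pow_orderOf_eq_one t)) (le_cent_symm (inf_eq_left.1 h16))
  have h18 := Nat.le_of_dvd (by norm_num)
    (h.a hA hi h17 (sup_le inf_le_right (zpowers_le.2 htA)))
  have h19 : F = F ⊔ zpowers t := eq_of_le_of_card_ge le_sup_left (by omega)
  have h20 : t ∈ F ⊓ Cent B := ⟨h19 ▸ mem_sup_right (mem_zpowers t), htB⟩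
  rw [h12, mem_bot] at h20
  simp [h20] at ht

theorem Bg.c' (h : Bg p N B) (hW : IsMulCommutative W) (hW2 : IsPGroup 2 W) (hBW : B ≤ Nrm W)
    (h3 : p = 3 → ∃ t, orderOf t = 2 ∧ t ∈ Cent B ∧ t ∈ Nrm W) :
    B ≤ Cent W ∧ ∀ a ∈ W, ∀ b ∈ W, a ^ 2 = 1 → b ^ 2 = 1 → a ≠ 1 → b ≠ 1 → a = b := by
  have h1 := elem_omegaOne_of_comm 2 hW
  have h2 := h.c h1 (nrm_omegaOne 2 hBW) fun e => by
    obtain ⟨t, h4, h5, h6⟩ := h3 e
    exact ⟨t, h4, h5, nrm_le_nrm_omegaOne 2 W h6⟩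
  refine ⟨coprime_abelian_faithful_Ohm1 hW (isPi_of_isPGroup Nat.prime_two hW2) hBW
    (coprime_two h.prime h.ne (pgrp h.prime h.el) hW2) (le_cent_symm h2),
    fun a ha b hb ha2 hb2 ha1 hb1 => ?_⟩
  have h4 := Nat.le_of_dvd two_pos (h.b h1 h2)
  have h5 : zpowers a = omegaOne 2 W := eq_of_le_of_card_ge (zpowers_le.2 (mem_omegaOne ha ha2))
    (by rw [Nat.card_zpowers, orderOf_eq_prime ha2 ha1]; exact h4)
  have h6 : b ∈ zpowers a := h5 ▸ mem_omegaOne hb hb2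
  obtain ⟨k, rfl⟩ := (mem_powers_iff_mem_zpowers.2 h6)
  beta_reduce at hb1 ⊢
  rcases Nat.even_or_odd' k with ⟨j, rfl | rfl⟩
  · exact absurd (by rw [pow_mul, ha2, one_pow]) hb1
  · rw [pow_succ, pow_mul, ha2, one_pow, one_mul]

theorem exists_quat (s : Str B K z) (hb : Bg p N B) (hX : X ≤ K) (hn : B ≤ Nrm X)
    (h0 : ¬ X ≤ Cent B) : ∃ a ∈ ⁅X, B⁆, ∃ b ∈ ⁅X, B⁆, a ^ 2 = z ∧ b ^ 2 = z ∧ ¬ Commute a b := by
  by_contra hc
  push Not at hc
  set R := ⁅X, B⁆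
  have hRK : R ≤ K := (commutator_le_left' hn).trans hX
  have hBR : B ≤ Nrm R := nrm_commutator_right X B
  have hz : ∀ W ≤ K, p = 3 → ∃ t, orderOf t = 2 ∧ t ∈ Cent B ∧ t ∈ Nrm W := fun W hW _ =>
    ⟨z, s.ord, le_cent1_iff.1 s.cenB, cent_le_nrm W (cent_anti hW s.mem.2)⟩
  refine h0 (le_cent_symm (coprime_commGG1P hn
    (coprime_two hb.prime hb.ne (pgrp hb.prime hb.el) (s.two.to_le hX))
    (Or.inl (H15.elem_sol hb.el)) ?_))
  by_cases h1 : ∃ x ∈ R, x ^ 2 = z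
  · obtain ⟨x, hx, hxz⟩ := h1
    set W := closure {r | r ∈ R ∧ r ^ 2 = z}
    have hWR : W ≤ R := (closure_le _).2 fun r hr => hr.1
    have h2 : B ≤ Cent W := (hb.c' (isMulCommutative_closure fun a ha b hb =>
      hc a ha.1 b hb.1 ha.2 hb.2) (s.two.to_le (hWR.trans hRK)) (fun b hb => mem_nrm_of_cj_le (by
        rw [cj, MonoidHom.map_closure]
        refine closure_mono ?_
        rintro _ ⟨r, hr, rfl⟩
        refine ⟨conj_mem_of_mem_nrm (hBR hb) hr.1, ?_⟩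
        change (b * r * b⁻¹) ^ 2 = z
        rw [conj_pow, hr.2, mem_cent1.1 (s.cenB hb), mul_inv_cancel_right]))
      (hz W (hWR.trans hRK))).1
    have hxW : x ∈ W := subset_closure ⟨hx, hxz⟩
    have h3 : R ≤ Cent1 x := commutator_le.2 fun w hw b hb => mem_cent1.2
      (s.form (hX hw) (hRK hx) (s.nrmB hb) (by
        rw [commutatorElement_eq_one_iff_mul_comm.2 (h2 hb x hxW)]
        exact one_mem _))
    refine h2.trans (cent_anti fun r hr => ?_)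
    rcases s.sq_of_comm hX hr with h4 | h4
    · have h5 : r * x ∈ W := subset_closure ⟨R.mul_mem hr hx, by
        rw [Commute.mul_pow (mem_cent1.1 (h3 hr)), h4, hxz, one_mul]⟩
      exact (W.mul_mem_cancel_right hxW).1 h5
    · exact subset_closure ⟨hr, h4⟩
  · push Not at h1
    have h2 : ∀ r ∈ R, r ^ 2 = 1 := fun r hr => (s.sq_of_comm hX hr).resolve_right (h1 r hr)
    refine (hb.c' (comm_iff_le_cent.2 fun a ha b hb => by_contra fun h3 => s.z_ne ?_)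
      (s.two.to_le hRK) hBR (hz R hRK)).1
    have h4 := s.sq_mul (hRK hb) (hRK ha) h3
    rw [h2 _ (R.mul_mem hb ha), h2 a ha, h2 b hb] at h4
    simpa using h4.symm

/-- The global hypothesis. -/
structure Gl (G : Type u) [Group G] (p N : ℕ) : Prop where
  prime : p.Prime
  ne : p ≠ 2
  mx : Mx G p N
  cube : p ^ 3 ≤ N
  loc : ∀ B T A : Subgroup G, IsElementaryAbelian p B → N ≤ Nat.card B → IsPGroup 2 T → T ≠ ⊥ →
    B ≤ Nrm T → A ≤ B → A ≠ ⊥ → T ≤ Cent A → Lc p A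
  two : ∀ z : G, orderOf z = 2 → H98.CharP 2 (Cent1 z)

theorem Gl.locz (h : Gl G p N) (hB : IsElementaryAbelian p B) (hN : N ≤ Nat.card B)
    (hz : orderOf z = 2) (hBz : B ≤ Cent1 z) (hA : A ≤ B) (h0 : A ≠ ⊥) : Lc p A :=
  h.loc B (zpowers z) A hB hN (IsPGroup.of_card (n := 1) (by rw [Nat.card_zpowers, hz]; rfl))
    (fun h1 => by simp [zpowers_eq_bot.1 h1] at hz) (hBz.trans (cent1_le_nrm_zpowers z)) hA h0
    (zpowers_le.2 (le_cent1_iff.1 (hA.trans hBz)))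

theorem Gl.big (h : Gl G p N) (hB : IsElementaryAbelian p B) (hN : N ≤ Nat.card B)
    (hz : orderOf z = 2) (hBz : B ≤ Cent1 z) : Bg p N B :=
  ⟨h.prime, h.ne, h.mx, hB, H15.elem_ne_bot h.prime (h.cube.trans hN), hN, fun _ hA hi =>
    h.locz hB hN hz hBz hA (H15.hyperplane_ne_bot h.prime
      (H15.sq_le_of_cube_le h.prime (h.cube.trans hN)) hA hi)⟩

theorem Gl.str (h : Gl G p N) (hB : IsElementaryAbelian p B) (hN : N ≤ Nat.card B)
    (hz : orderOf z = 2) (hBz : B ≤ Cent1 z) : ∃ K, Str B K z := by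
  have hc := h.two z hz
  set Q := pCoreOf 2 (Cent1 z)
  have hQ : IsPGroup 2 Q := H98.isPGroup_pCoreOf _
  have hQz : Q ≤ Cent1 z := H98.pCoreOf_le _
  have hQn : Cent1 z ≤ Nrm Q := H98.self_le_normalizer_pCoreOf _
  obtain ⟨H, h1, h2, h3, h4⟩ := H9.exists_critical hQ
  set K := H.map Q.subtype
  have hKQ : K ≤ Q := map_subtype_le _
  have hK : IsPGroup 2 K := hQ.to_le hKQ
  have hn : Cent1 z ≤ Nrm K := hQn.trans (nrm_le_nrm_map_subtype H)
  have hce : ∀ y : Q, y ∈ Cent H ↔ (y : G) ∈ Cent K := fun y =>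
    ⟨fun e => by rintro _ ⟨k, hk, rfl⟩; exact congrArg Subtype.val (e k hk),
      fun e k hk => Subtype.ext (e _ ⟨k, hk, rfl⟩)⟩
  have h5 : Q ⊓ Cent K ≤ K := fun y hy => ⟨⟨y, hy.1⟩, h4 ((hce _).2 hy.2), rfl⟩
  have hzQ : z ∈ Cent Q := le_cent1_iff.1 hQz
  have hzK : z ∈ Zc K :=
    ⟨h5 ⟨hc ⟨self_mem_cent1 z, hzQ⟩, cent_anti hKQ hzQ⟩, cent_anti hKQ hzQ⟩
  have hz2 : z ^ 2 = 1 := hz ▸ pow_orderOf_eq_one z
  have hz1 : z ≠ 1 := fun e => by simp [e] at hz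
  obtain ⟨h6, h7⟩ := (h.big hB hN hz hBz).c' (comm_zc K) (hK.to_le inf_le_left) (nrm_zc (hBz.trans hn))
    fun _ => ⟨z, hz, le_cent1_iff.1 hBz, nrm_zc hn (self_mem_cent1 z)⟩
  have h8 : ∀ w ∈ Zc K, w ^ 2 = 1 → w = 1 ∨ w = z := fun w hw e =>
    or_iff_not_imp_left.2 fun e' => h7 w hw z hzK e hz2 e' hz1
  have h9 : ∀ k ∈ K, k ^ 2 ∈ Cent K := by
    rintro _ ⟨k, hk, rfl⟩
    exact (hce _).1 (h2 k hk)
  refine ⟨K, hK, hz, hzK, hn, h9, fun a ha b hb e => ?_, h8, h6, fun x hx ho hxK => ?_⟩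
  · have h10 : ⁅a, b⁆ ∈ Zc K := by
      obtain ⟨a, ha, rfl⟩ := ha
      exact ⟨⟨_, (h3 a ha ⟨b, hKQ hb⟩).1, rfl⟩, (hce _).1 (h3 a ha ⟨b, hKQ hb⟩).2⟩
    rw [← (h8 _ h10 (by
      rw [← H9.commutatorElement_pow_left (h10.2 a ha),
        commutatorElement_eq_one_iff_mul_comm.2 (h9 a ha b hb).symm])).resolve_left
      fun e' => e (commutatorElement_eq_one_iff_commute.1 e')]
    group
  · have hxK' : zpowers x ≤ Cent K := zpowers_le.2 hxK
    have hxQ : zpowers x ≤ Nrm Q := zpowers_le.2 (hQn hx)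
    have hco : (Nat.card (zpowers x)).Coprime (Nat.card Q) := by
      obtain ⟨k, hk⟩ := hQ.exists_card_eq
      rw [hk, Nat.card_zpowers]
      exact (Nat.coprime_two_right.2 ho).pow_right k
    have h10 := stable_factor_cent (N := K) hxQ hco (Or.inr (sol Nat.prime_two hQ))
      (le_trans (le_inf (commutator_le_left' hxQ) (commutator_le.2 fun q hq y hy => ?_)) h5) hxK'
    · have h11 : x ∈ zpowers x ⊓ Q := ⟨mem_zpowers x, hc ⟨hx, h10 (mem_zpowers x)⟩⟩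
      rwa [inf_eq_bot_of_coprime' hco] at h11
    · have : ⁅q, y⁆ = (q * y * q⁻¹) * y⁻¹ := by group
      rw [this]
      exact mul_mem (conj_mem_of_mem_nrm (nrm_cent hn (hQz hq)) (hxK' hy)) (inv_mem (hxK' hy))

theorem Gl.false_of_cent (h : Gl G p N) (hB : IsElementaryAbelian p B) (hN : N ≤ Nat.card B)
    (hz : orderOf z = 2) (hBz : B ≤ Cent1 z) : False := by
  have hp := h.prime
  have := Fact.mk hp
  have hb := h.big hB hN hz hBz
  obtain ⟨K, s⟩ := h.str hB hN hz hBz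
  have hK := pi_compl h.ne s.two
  have hfa : ∀ A ≤ B, K ≤ Cent A → A = ⊥ := fun A hA e => eq_bot_iff.2 fun x hx =>
    s.faith x (hBz (hA hx)) (Odd.of_dvd_nat (hp.odd_of_ne_two h.ne)
      (orderOf_dvd_of_pow_eq_one (hB.2 x (hA hx)))) (le_cent_symm e hx)
  obtain ⟨A1, hA1, hi1, hn1⟩ := H15.exists_hyperplane_not_le hp hB hb.ne_bot s.nrmB hK
    fun e => hb.ne_bot (hfa B le_rfl e)
  obtain ⟨A2, hA2, hi2, hn2⟩ := H15.exists_hyperplane_not_le hp hB hb.ne_bot s.nrmB hK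
    fun e => H15.hyperplane_ne_bot hp (H15.sq_le_of_cube_le hp (h.cube.trans hN)) hA1 hi1
      (hfa A1 hA1 e)
  have hsup : A2 ⊔ A1 = B := (H12.eq_of_le_of_relIndex_prime hp hi2 le_sup_left
    (sup_le hA2 hA1)).resolve_left fun e => hn2 (inf_le_right.trans (cent_anti (sup_eq_left.1 e)))
  have hnX : ∀ A ≤ B, B ≤ Nrm (K ⊓ Cent A) := fun A hA =>
    nrm_inf s.nrmB (nrm_cent (nrm_of_le_cent (H15.elem_le_cent hB hA)))
  obtain ⟨a1, ha1, b1, hb1, ea1, eb1, hab1⟩ := exists_quat s hb inf_le_left (hnX A1 hA1) hn1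
  obtain ⟨a2, ha2, b2, hb2, ea2, eb2, hab2⟩ := exists_quat s hb inf_le_left (hnX A2 hA2)
    fun e => hn2 (e.trans (cent_anti hA1))
  have hR : ⁅K ⊓ Cent A1, B⁆ ≤ Cent (K ⊓ Cent A2) := commutator_le.2 fun w hw β hβ c hc => by
    obtain ⟨y, hy, k, hk, rfl⟩ := (mem_sup_of_nrm (nrm_of_le_cent
      (hA1.trans (H15.elem_le_cent hB hA2)))).1 (hsup ▸ hβ)
    have : ⁅w, y * k⁆ = ⁅w, y⁆ := by
      have e : k * w⁻¹ = w⁻¹ * k := (Cent A1).inv_mem hw.2 k hk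
      calc ⁅w, y * k⁆ = w * y * (k * w⁻¹) * k⁻¹ * y⁻¹ := by group
        _ = ⁅w, y⁆ := by rw [e]; group
    rw [this]
    exact (s.form hw.1 hc.1 (s.nrmB (hA2 hy)) (by
      rw [commutatorElement_eq_one_iff_mul_comm.2 (hc.2 y hy).symm]
      exact one_mem _)).symm
  have h1 := commutator_le_left' (hnX A1 hA1)
  have h2 := commutator_le_left' (hnX A2 hA2)
  have c12 : ∀ {x y}, x ∈ ⁅K ⊓ Cent A1, B⁆ → y ∈ ⁅K ⊓ Cent A2, B⁆ → Commute x y :=
    fun hx hy => (hR hx _ (h2 hy)).symm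
  set D := A1 ⊓ A2
  have hDB : D ≤ B := inf_le_left.trans hA1
  have m1 : ⁅K ⊓ Cent A1, B⁆ ≤ K ⊓ Cent D := h1.trans (inf_le_inf_left _ (cent_anti inf_le_left))
  have m2 : ⁅K ⊓ Cent A2, B⁆ ≤ K ⊓ Cent D := h2.trans (inf_le_inf_left _ (cent_anti inf_le_right))
  have mz : z ∈ K ⊓ Cent D := ⟨s.mem.1, le_cent1_iff.1 (hDB.trans hBz)⟩
  have ma := mul_mem (m1 ha1) (m2 ha2)
  have mb := mul_mem (m1 hb1) (m2 hb2)
  have e1 : IsElementaryAbelian 2 (zpowers z) := elem_zpowers (by rw [pow_two, s.zz])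
  have e2 : IsElementaryAbelian 2 (zpowers z ⊔ zpowers (a1 * a2)) := elem_sup e1
    (elem_zpowers (by rw [(c12 ha1 ha2).mul_pow, ea1, ea2, s.zz]))
    (by rw [cent_zpowers]; exact zpowers_le.2 (s.le_cent1 ma.1))
  have e3 : IsElementaryAbelian 2 (zpowers z ⊔ zpowers (a1 * a2) ⊔ zpowers (b1 * b2)) :=
    elem_sup e2 (elem_zpowers (by rw [(c12 hb1 hb2).mul_pow, eb1, eb2, s.zz])) (by
      rw [cent_sup, cent_zpowers, cent_zpowers]
      refine zpowers_le.2 ⟨s.le_cent1 mb.1, mem_cent1.2 (Commute.symm ?_)⟩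
      rw [s.bil (m1 ha1).1 (m2 ha2).1 mb.1, s.bil' (m1 ha1).1 (m1 hb1).1 (m2 hb2).1,
        s.bil' (m2 ha2).1 (m1 hb1).1 (m2 hb2).1]
      have := c12 ha1 hb2
      have := (c12 hb1 ha2).symm
      tauto)
  set U := zpowers z ⊔ zpowers (a1 * a2) ⊔ zpowers (b1 * b2)
  have hU : U ≤ K ⊓ Cent D := sup_le (sup_le (zpowers_le.2 mz) (zpowers_le.2 ma)) (zpowers_le.2 mb)
  have l1 := H3.mul_card_le_of_lt' (pgrp Nat.prime_two e2) (lt_of_le_of_ne le_sup_left fun e => by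
    have h3 : zpowers z ≤ Cent1 b1 := zpowers_le.2 (mem_cent1.2 (s.cz (m1 hb1).1).symm)
    exact hab1 (((s.bil (m1 ha1).1 (m2 ha2).1 (m1 hb1).1).1
      (mem_cent1.1 (h3 (e ▸ mem_sup_right (mem_zpowers _))))).2 (c12 hb1 ha2).symm))
  have l2 := H3.mul_card_le_of_lt' (pgrp Nat.prime_two e3) (lt_of_le_of_ne le_sup_left fun e => by
    have h3 : zpowers z ⊔ zpowers (a1 * a2) ≤ Cent1 a1 :=
      sup_le (zpowers_le.2 (mem_cent1.2 (s.cz (m1 ha1).1).symm)) (zpowers_le.2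
        (mem_cent1.2 ((Commute.refl a1).mul_left (c12 ha1 ha2).symm)))
    exact hab1 (((s.bil (m1 hb1).1 (m2 hb2).1 (m1 ha1).1).1
      (mem_cent1.1 (h3 (e ▸ mem_sup_right (mem_zpowers _))))).2 (c12 ha1 hb2).symm).symm)
  rw [Nat.card_zpowers, hz] at l1
  have hDe := H15.elem_of_le hB hDB
  obtain ⟨P, p1, p2, p3, p4⟩ := h.locz hB hN hz hBz hDB
    (H15.hyperplane_inf_ne_bot hp (h.cube.trans hN) hi1 hA2 hi2)
  have hUD : U ≤ Cent D := hU.trans inf_le_right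
  obtain ⟨d, a, x, k1, k2, k3, k4, k5, k6, k7, k8⟩ := km1 hp h.ne hDe p1 e3 (le_cent_symm p2)
    (le_cent_symm hUD) (hUD.trans p3) (faith p4 (pgrp Nat.prime_two e3) hUD)
  have hd : 3 ≤ d := (Nat.pow_le_pow_iff_right one_lt_two).1 (by omega)
  obtain ⟨j, hj⟩ := k7 z (mem_sup_left (mem_sup_left (mem_zpowers z))) s.z_ne
  obtain ⟨i, hij, hiz⟩ : ∃ i, j ≠ i ∧ a i ≠ z := by
    obtain ⟨i1, h3, i2, h4, h5⟩ := Finset.one_lt_card.1
      (show 1 < (Finset.univ.erase j).card by simp; omega)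
    by_cases e : a i1 = z
    · exact ⟨i2, (Finset.ne_of_mem_erase h4).symm, fun e' => h5 (k6 (e.trans e'.symm))⟩
    · exact ⟨i1, (Finset.ne_of_mem_erase h3).symm, e⟩
  obtain ⟨B', q1, q2, q3, q4, q5⟩ := k8 i
  have hN' : N ≤ Nat.card B' := by
    refine hN.trans (le_trans ?_ q4)
    rw [← card_mul_relIndex hDB]
    refine Nat.mul_le_mul_left _ (relIndex_inf_le.trans ?_)
    rw [hi1, hi2, ← pow_two]
    exact Nat.pow_le_pow_right hp.pos (by omega)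
  obtain ⟨L, t⟩ := h.str q1 hN' (k3 i) q3
  have hu := (hU (k2 i)).1
  obtain ⟨c, hc, hcz, hcu⟩ : ∃ c ∈ K ⊓ Cent D, c ^ 2 = z ∧ Commute c (a i) := by
    by_cases f1 : Commute a1 (a i)
    · exact ⟨a1, m1 ha1, ea1, f1⟩
    by_cases f2 : Commute b1 (a i)
    · exact ⟨b1, m1 hb1, eb1, f2⟩
    exact ⟨_, mul_mem (m1 ha1) (m1 hb1), by
      rw [s.sq_mul (m1 ha1).1 (m1 hb1).1 hab1, ea1, eb1, s.zz, mul_one],
      (s.bil (m1 ha1).1 (m1 hb1).1 hu).2 (iff_of_false f1 f2)⟩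
  refine s.step2 hp h.ne t hu hiz q1 q2 (hDB.trans hBz) hc.1 hcz hc.2 hcu (q5 j hij)
    (fun e => hp.ne_one (by rw [← k5 j, e, orderOf_one])) hj fun w hw => mem_cent1.2
    (commutatorElement_eq_one_iff_mul_comm.1 ?_)
  rw [← mem_bot, ← inf_eq_bot_of_coprime' (coprime_two hp h.ne p1 t.two)]
  exact ⟨comm_mem_right (p3 hw.2) (k4 j), comm_mem_left hw.1 (t.nrmB (q5 j hij))⟩

theorem Gl.false (h : Gl G p N) {T : Subgroup G} (hB : IsElementaryAbelian p B)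
    (hN : N ≤ Nat.card B) (hT : IsPGroup 2 T) (hT1 : T ≠ ⊥) (hBT : B ≤ Nrm T) : False := by
  have hp := h.prime
  have := Fact.mk hp
  have hb := H15.elem_ne_bot h.prime (h.cube.trans hN)
  set E := omegaOne 2 (Zc T)
  have hE : IsElementaryAbelian 2 E := elem_omegaOne_of_comm 2 (comm_zc T)
  have hE2 := pgrp Nat.prime_two hE
  have hBE : B ≤ Nrm E := nrm_omegaOne 2 (nrm_zc hBT)
  by_cases h1 : E ⊓ Cent B = ⊥
  · obtain ⟨A, hA, hi, h2⟩ := H15.exists_hyperplane_not_le hp hB hb hBE (pi_compl h.ne hE2)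
      (L := ⊥) fun e => omegaOne_ne_bot_of_isPi (isPi_of_isPGroup Nat.prime_two
        (hT.to_le inf_le_left)) (zc_ne_bot_of_isPGroup Nat.prime_two hT hT1) (le_bot_iff.1 e)
    obtain ⟨P, p1, p2, p3, p4⟩ := h.loc B (E ⊓ Cent A) A hB hN (hE2.to_le inf_le_left)
      (fun e => h2 e.le) (nrm_inf hBE (nrm_cent (nrm_of_le_cent (H15.elem_le_cent hB hA)))) hA
      (H15.hyperplane_ne_bot hp (H15.sq_le_of_cube_le hp (h.cube.trans hN)) hA hi) inf_le_right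
    have hF : IsElementaryAbelian 2 (E ⊓ Cent A) := H15.elem_of_le hE inf_le_left
    obtain ⟨d, a, x, k1, -, k3, -, -, -, -, k8⟩ := km1 hp h.ne (H15.elem_of_le hB hA) p1 hF
      (le_cent_symm p2) (le_cent_symm inf_le_right) (inf_le_right.trans p3)
      (faith p4 (pgrp Nat.prime_two hF) inf_le_right)
    have h3 := H2.card_modEq_card_inf_centralizer (K := E ⊓ Cent A) (pgrp hp hB)
      (nrm_inf hBE (nrm_cent (nrm_of_le_cent (H15.elem_le_cent hB hA))))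
    rw [inf_right_comm E, h1, bot_inf_eq, card_bot, k1] at h3
    have hd : 2 ≤ d := by
      rcases d with _ | _ | d
      · exact absurd (card_eq_one.1 k1).le h2
      · exact absurd ((Nat.modEq_iff_dvd' (by norm_num)).1 h3.symm) hp.not_dvd_one
      · omega
    obtain ⟨B', q1, -, q3, q4, -⟩ := k8 ⟨0, by omega⟩
    refine h.false_of_cent q1 (hN.trans (le_trans ?_ q4)) (k3 _) q3
    rw [← H15.card_hyperplane hA hi]
    exact Nat.mul_le_mul_left _ (Nat.le_self_pow (by omega) p)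
  · obtain ⟨z, hz, h2⟩ := exists_inv (hE2.to_le inf_le_left) h1
    exact h.false_of_cent hB hN h2 (le_cent1_iff.2 hz.2)

end H57.KM
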