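import Cfsg.Agent.H57.DPCSpec
import Cfsg.Agent.H57.KMP

/-! S3275, chapter KM. -/

set_option autoImplicit false

namespace H57.DPC

open Subgroup Cfsg H98 H48.DP

universe u

theorem jobKM : JobKM.{u} := by
  intro fs bb G _ _ h hr
  have hpp : Nat.Prime 3 := Nat.prime_three
  have := Fact.mk hpp
  by_contra hz
  apply hr
  rintro _ ⟨T, hT, hT1, rfl⟩ A hA1 hA2
  by_contra hlt
  let S : Set (Subgroup G) := {B | IsElementaryAbelian 3 B ∧
    ∃ T : Subgroup G, IsPGroup 2 T ∧ T ≠ ⊥ ∧ B ≤ H46.Nrm T}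
  have hA : IsElementaryAbelian 3 (A.map (H46.Nrm T).subtype) := ⟨inferInstance, by
    rintro _ ⟨a, ha, rfl⟩
    exact congrArg Subtype.val (hA2 a ha)⟩
  have hS : A.map (H46.Nrm T).subtype ∈ S := ⟨hA, T, hT, hT1, Subgroup.map_subtype_le _⟩
  obtain ⟨B, ⟨hB, T', h1, h2, h3⟩, hmax⟩ := Set.exists_max_image S (fun B => Nat.card B)
    (Set.toFinite S) ⟨_, hS⟩
  have mx : H87.KM.Mx G 3 (Nat.card B) := fun C T hC h1 h2 h3 => hmax C ⟨hC, T, h1, h2, h3⟩
  have cube : 3 ^ 3 ≤ Nat.card B := by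
    refine le_trans ?_ (hmax _ hS)
    obtain ⟨k, hk⟩ := (H87.KM.pgrp hpp hA).exists_card_eq
    rw [← H46.card_map_subtype, hk, Nat.pow_le_pow_iff_right hpp.one_lt] at hlt
    rw [hk]
    exact Nat.pow_le_pow_right hpp.pos (by omega)
  have zo : ZO G (Nat.card B) := fun C hC x hx h1 => by
    by_contra e
    exact hz ⟨_, C, hC, x, hx, h1, e⟩
  refine H57.KM.Gl.false (N := Nat.card B) ⟨hpp, by norm_num, mx, cube,
    fun C T A hC hN t1 t2 t3 hA hA0 hTA => ?_, fun z hz => ?_⟩ hB le_rfl h1 h2 h3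
  · obtain ⟨x, hx, hx1⟩ := (A.bot_or_exists_ne_one).resolve_left hA0
    have top : Top (Nat.card B) C := ⟨mx, cube, hC, hN, T, t1, t2, t3⟩
    have hAx : Ce A ≤ C1 x := H46.cent_le_cent1 hx
    have hn : C1 x ≤ No (pCoreOf 3 (C1 x)) := self_le_normalizer_pCoreOf _
    have hAA : A ≤ Ce A := hA.trans (H15.elem_le_cent hC hA)
    refine ⟨pCoreOf 3 (C1 x) ⊓ Ce A, (isPGroup_pCoreOf _).to_le inf_le_left, inf_le_right,
      H46.nrm_inf (hAx.trans hn) (H46.nrm_cent (H46.cent_le_nrm A)), fun E hE e1 e2 => ?_⟩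
    refine fs G h.nd (C1 x) E (zo C top x (hA hx) hx1) (e1.trans hAx) hE ?_
      fun K hK => absurd hK (bb G h _ zo C T top t1 t2 t3 x (hA hx) hx1 (hTA.trans hAx) K)
    refine H1.thompson_pq (H87.KM.pgrp hpp (H15.elem_of_le hC hA)) ?_ (H46.le_cent_symm e1) _ _ rfl
      (isPGroup_pCoreOf _) ((hAA.trans hAx).trans hn) ((e1.trans hAx).trans hn)
      (H46.le_cent_symm e2)
    obtain ⟨k, hk⟩ := hE.exists_card_eq
    exact hk ▸ (show Nat.Coprime 2 3 by norm_num).pow_left k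
  · rw [← H46.cent_zpowers]
    exact (H98.charP_iff.2 (h.char.2 (Subgroup.zpowers z)
      (IsPGroup.of_card (n := 1) (by rw [Nat.card_zpowers, hz]; rfl))
      fun h => by simp [Subgroup.zpowers_eq_bot.1 h] at hz)).normal
      (H46.cent_le_nrm _) (H46.nrm_le_nrm_cent _)

end H57.DPC
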