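import Cfsg.Agent.H57.U2CSpec

/-! # S3275, chapter U2F: the critical distance -/

set_option autoImplicit false

namespace H57.U2C

open Subgroup Cfsg H98 H96 H97 H48.DP

universe u

variable {G : Type u} [Group G]

/-- Words of length `n` in `A` and `B`. -/
def Gam (A B : Subgroup G) : ℕ → G → Prop
  | 0, g => g ∈ A
  | n + 1, g => ∃ g' p k, Gam A B n g' ∧ p ∈ B ∧ k ∈ A ∧ g = g' * p * k

namespace Gam

variable {A B : Subgroup G}

theorem left {k : G} (hk : k ∈ A) : ∀ {n : ℕ} {g : G}, Gam A B n g → Gam A B n (k * g)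
  | 0, _, h => A.mul_mem hk h
  | _ + 1, _, ⟨g', p, k', h, hp, hk', e⟩ => ⟨k * g', p, k', left hk h, hp, hk', by
      rw [e]; group⟩

theorem step {k p : G} (hk : k ∈ A) (hp : p ∈ B) :
    ∀ {n : ℕ} {g : G}, Gam A B n g → Gam A B (n + 1) (k * p * g)
  | 0, g, h => ⟨k, p, g, hk, hp, h, rfl⟩
  | _ + 1, _, ⟨g', p', k', h, hp', hk', e⟩ => ⟨k * p * g', p', k', step hk hp h, hp', hk', by
      rw [e]; group⟩

theorem inv : ∀ {n : ℕ} {g : G}, Gam A B n g → Gam A B n g⁻¹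
  | 0, _, h => A.inv_mem h
  | _ + 1, _, ⟨g', p, k, h, hp, hk, e⟩ => by
      have := step (A.inv_mem hk) (B.inv_mem hp) (inv h)
      rwa [show k⁻¹ * p⁻¹ * g'⁻¹ = (g' * p * k)⁻¹ by group, ← e] at this

theorem one : ∀ n : ℕ, Gam A B n 1
  | 0 => A.one_mem
  | n + 1 => ⟨1, 1, 1, one n, B.one_mem, A.one_mem, by group⟩

theorem ex {g : G} (h : g ∈ A ⊔ B) : ∃ n, Gam A B n g := by
  have key : ∀ x, x ∈ A ∨ x ∈ B → ∀ y, (∃ n, Gam A B n y) → ∃ n, Gam A B n (x * y) := by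
    rintro x (hx | hx) y ⟨n, hn⟩
    · exact ⟨n, left hx hn⟩
    · exact ⟨n + 1, by simpa using step A.one_mem hx hn⟩
  rw [sup_eq_closure] at h
  induction h using closure_induction_left with
  | one => exact ⟨0, one 0⟩
  | mul_left x hx y _ ih => exact key x hx y ih
  | inv_mul_cancel x hx y _ ih =>
    exact key _ (hx.imp (fun h => A.inv_mem h) fun h => B.inv_mem h) y ih

end Gam

theorem wk : WK.{u} := by
  intro G _ A B R X hRA hB hA hn
  classical
  have hex : ∃ n, ∃ g, Gam A B n g ∧ ¬ X ≤ cj g R := by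
    by_contra hc
    refine hn fun g hg => ?_
    obtain ⟨n, h⟩ := Gam.ex hg
    by_contra h'
    exact hc ⟨n, g, h, h'⟩
  have mv : ∀ k ∈ A, ∀ g : G, X ≤ cj (k * g) R → X ≤ cj g R := fun k hk g h => by
    rw [← cj_cj, le_cj_iff, cj_eq_self (hA (A.inv_mem hk))] at h
    exact h
  obtain ⟨g, hg, hX⟩ := Nat.find_spec hex
  have hmin := fun m => @Nat.find_min _ _ hex m
  generalize Nat.find hex = n at hg hmin
  cases n with
  | zero =>
    refine Or.inl fun h => hX (mv g⁻¹ (A.inv_mem hg) g ?_)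
    rwa [inv_mul_cancel, cj_one]
  | succ m =>
    refine Or.inr ⟨{g | Gam A B (m + 1) g}, fun g h => Gam.inv h, ?_, ?_, ?_⟩
    · rintro _ ⟨g', p, k, h, hp, hk, rfl⟩
      have h1 : X ≤ cj g' R := by
        by_contra h'
        exact hmin m (Nat.lt_succ_self m) ⟨g', h, h'⟩
      rw [← cj_cj, cj_eq_self_of_mem hk, ← cj_cj]
      refine h1.trans (cj_mono _ ?_)
      rw [← cj_eq_self (hB hp)]
      exact cj_mono _ hRA
    · intro e he
      exact ⟨1, e, 1, Gam.one m, he, A.one_mem, by group⟩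
    · obtain ⟨g', p, k, h, hp, hk, e⟩ := Gam.inv hg
      refine ⟨k * g, Gam.left hk hg, fun h' => hX (mv k hk g h'), p⁻¹, B.inv_mem hp, fun c hc => ?_⟩
      have := Gam.step A.one_mem hc h
      rwa [show 1 * c * g' = c * (k * g)⁻¹ * p⁻¹ by rw [mul_inv_rev, e]; group] at this

end H57.U2C
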