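import Cfsg.Agent.H57.F2U
import Cfsg.Agent.H57.F2Kit
import Cfsg.Agent.S0035
import Cfsg.Agent.S0042

/-! Tower F2 (row S3817): steps (T) and the Frobenius end. -/

set_option autoImplicit false

namespace H57.F2

open Subgroup Cfsg H98
open scoped commutatorElement

universe u

variable {G : Type u} [Group G] [Finite G] {p q : ℕ} {x y g : G} {M M' P F : Subgroup G}

theorem eq_one_of_pg (hp : p.Prime) (hP : IsPGroup p P) (hF : ¬ p ∣ Nat.card F) (h1 : y ∈ P)
    (h2 : y ∈ F) : y = 1 := by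
  obtain ⟨k, hk⟩ := isPGroup_iff_forall.1 hP y h1
  exact orderOf_eq_one_iff.1 (Nat.eq_one_of_dvd_coprimes
    (Nat.Coprime.pow_left _ (hp.coprime_iff_not_dvd.2 hF)) (orderOf_dvd_of_pow_eq_one hk)
    (orderOf_dvd_natCard _ h2))

omit [Finite G] in
theorem pair_le (h1 : x ∈ M) (h2 : y ∈ M) : closure ({x, y} : Set G) ≤ M :=
  (closure_le _).2 (by rintro z (rfl | rfl); exacts [h1, h2])

theorem Line.eq_of_Fp (K : All (G := G) p (Kit p)) (U : All (G := G) p (FU1 p)) (h : Hyp p x)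
    (l : Line p x M) (hM : IsCoatom M') (hx : x ∈ M') (hF : Fp p M ≤ M') : M = M' := by
  obtain ⟨q, hq, hne⟩ := (K x h).h1c M l.co.1 l.mem l.nm
  have n := self_le_normalizer_pCoreOf (p := q) M l.mem
  exact U x h M M' l.co hM l.mem hx q hq _ (h.mem_cm hq (isPGroup_pCoreOf M) n hne)
    ((cm_le n).trans (pCoreOf_le M)) ((cm_le n).trans ((core_le_Fp hq M).trans hF))

omit [Finite G] in
theorem eq_of_pair (K : All (G := G) p (Kit p)) (U : All (G := G) p (FU1 p)) (h : Hyp p x)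
    (hg : ¬ IsPGroup p (closure ({x, g * x * g⁻¹} : Set G))) (h1 : IsCoatom M) (h2 : IsCoatom M')
    (x1 : x ∈ M) (x2 : x ∈ M') (y1 : g * x * g⁻¹ ∈ M) (y2 : g * x * g⁻¹ ∈ M') : M = M' := by
  obtain ⟨q, Y, hq, hY, l⟩ := (K x h).mem2 _ hg ⟨1, by rw [pow_one, (h.conj g).pow]⟩
  exact U x h M M' h1 h2 x1 x2 q hq Y hY (l.trans (pair_le x1 y1)) (l.trans (pair_le x2 y2))

theorem jobT : JobT.{u} := by
  intro G _ _ p K C U x h M l g hu hx
  have : Fact p.Prime := ⟨h.pp⟩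
  by_contra hg
  have ne : M ≠ cj g M := fun e => hg ((K x h).norM M l.co l.mem (cj_eq_self_iff.1 e.symm))
  have h' := h.conj g
  have l' := l.conj g
  set u := g * x * g⁻¹ with hud
  have cu : cen u ≤ cj g M := l'.cen_le K C h'
  by_cases c1 : u ∈ pCoreOf p M
  · exact ne (l.eq_of_Fp K U h l'.co hx (((Fp_le_cs_core h.pp M).trans fun y hy =>
      mem_cen.2 (mem_cs.1 hy u c1).symm).trans cu))
  by_cases c2 : x ∈ pCoreOf p (cj g M)
  · exact ne (l'.eq_of_Fp K U h' l.co hu (((Fp_le_cs_core h.pp _).trans fun y hy =>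
      mem_cen.2 (mem_cs.1 hy x c2).symm).trans (l.cen_le K C h))).symm
  have cx : cen x ≤ cj g M := Line.cen_le K C h ⟨l'.co, hx, c2⟩
  have all : ∀ f ∈ M, IsPGroup p (closure ({u, f * x * f⁻¹} : Set G)) := fun f hf => by
    by_contra hc
    have e : f * x * f⁻¹ = f * g⁻¹ * u * (f * g⁻¹)⁻¹ := by rw [hud]; group
    rw [e] at hc
    obtain ⟨M'', l'', hm⟩ := (K u h').line _ hc
    have e2 := eq_of_pair K U h' hc l.co l''.co hu l''.mem
      (e ▸ mul_mem (mul_mem hf l.mem) (inv_mem hf)) (mul_mem (mul_mem hm l''.mem) (inv_mem hm))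
    exact hg (inv_mem_iff.1 ((Subgroup.mul_mem_cancel_left M hf).1 (e2.ge hm)))
  refine ne (l.eq_of_Fp K U h l'.co hx fun f hf => ?_)
  have hF := not_dvd_Fp h.pp M
  have pP : IsPGroup p (closure ({u, x} : Set G)) := by
    have := all 1 (one_mem M)
    rwa [show (1 : G) * x * 1⁻¹ = x by group] at this
  set P := closure ({u, x} : Set G) with hP
  have mu : u ∈ P := subset_closure (by simp)
  have mx : x ∈ P := subset_closure (by simp)
  have nF : P ≤ nor (Fp p M) := (pair_le hu l.mem).trans (self_le_nor_Fp p M)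
  obtain ⟨T, hT, hPT⟩ := exists_isSyl_le pP (le_sup_right (a := Fp p M))
  have hTP : T ≤ P := fun t ht => by
    obtain ⟨n, hn, a, ha, rfl⟩ := (mem_sup_right_norm nF).1 (hT.le ht)
    rw [eq_one_of_pg h.pp hT.isPGroup hF ((Subgroup.mul_mem_cancel_right T (hPT ha)).1 ht) hn,
      one_mul]
    exact ha
  obtain ⟨k, hk, hle⟩ := hT.exists_le_cj (all f (Fp_le p M hf)) (pair_le (mem_sup_right mu)
    (mul_mem (mul_mem (mem_sup_left hf) (mem_sup_right mx)) (inv_mem (mem_sup_left hf))))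
  obtain ⟨n, hn, a, ha, rfl⟩ := (mem_sup_right_norm nF).1 hk
  rw [le_antisymm hTP hPT, ← cj_cj, cj_eq_self_of_mem ha] at hle
  have key : ∀ m ∈ Fp p M, ∀ y ∈ P, m * y * m⁻¹ ∈ P → m ∈ cen y := fun m hm y hy h1 =>
    comm_eq_one.1 (eq_one_of_pg h.pp pP hF (mul_mem h1 (inv_mem hy)) (cm_le (nF hy) (comm_mem_cm hm)))
  have k1 := key n⁻¹ (inv_mem hn) u mu (by simpa using mem_cj.1 (hle (subset_closure (by simp))))
  have k2 := key (n⁻¹ * f) (mul_mem (inv_mem hn) hf) x mx (by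
    have := mem_cj.1 (hle (subset_closure (by simp : f * x * f⁻¹ ∈ ({u, f * x * f⁻¹} : Set G))))
    simpa [mul_assoc] using this)
  exact (Subgroup.mul_mem_cancel_left _ (cu k1)).1 (cx k2)

theorem jobEnd : JobEnd.{u} := by
  intro G _ _ p K U T x h
  have : Fact p.Prime := ⟨h.pp⟩
  have S : ∀ {x : G} {P M : Subgroup G}, Hyp p x → IsPGroup p P → x ∈ P → Line p x M → P ≤ M := by
    intro x P M h hP hx l
    by_contra hc
    obtain ⟨g, hg, hg'⟩ := SetLike.exists_of_lt (lt_inf_normalizer hP (inf_lt_left.2 hc))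
    have m : x ∈ P ⊓ M := ⟨hx, l.mem⟩
    exact hg' ⟨hg.1, T x h M l g (conj_mem_of_mem_normalizer hg.2 m).2
      (mem_cj.2 (conj_mem_of_mem_normalizer' hg.2 m).2)⟩
  set B : G → Prop := fun g => IsPGroup p (closure ({x, g * x * g⁻¹} : Set G)) with hB
  have b1 : ∀ {g : G} {M : Subgroup G}, B g → Line p x M → g ∈ M := fun hg l =>
    T x h _ l _ (S h hg (subset_closure (by simp)) l (subset_closure (by simp)))
      (S (h.conj _) hg (subset_closure (by simp)) (l.conj _) (subset_closure (by simp)))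
  have b2 : ∀ {g : G} {M M' : Subgroup G}, ¬ B g → Line p x M → Line p x M' → g ∈ M → g ∈ M' →
      M = M' := fun hg l l' m m' => eq_of_pair K U h hg l.co l'.co l.mem l'.mem
        (mul_mem (mul_mem m l.mem) (inv_mem m)) (mul_mem (mul_mem m' l'.mem) (inv_mem m'))
  have out : ∀ {M : Subgroup G}, Line p x M → ∃ k, k ∉ M := fun l => by
    by_contra! hc; exact l.co.1 ((eq_top_iff' _).2 hc)
  obtain ⟨g₀, hg₀⟩ := (K x h).line0
  obtain ⟨M₀, l₀, -⟩ := (K x h).line g₀ hg₀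
  obtain ⟨k₁, hk₁⟩ := out l₀
  obtain ⟨M₁, l₁, m₁⟩ := (K x h).line k₁ fun e => hk₁ (b1 e l₀)
  have hI : ∀ {g : G}, g ∈ M₀ ⊓ M₁ ↔ B g := ⟨fun hg => by
    by_contra hc; exact hk₁ (b2 hc l₀ l₁ hg.1 hg.2 ▸ m₁), fun hg => ⟨b1 hg l₀, b1 hg l₁⟩⟩
  set I := M₀ ⊓ M₁ with hId
  have A : ∀ {y g k : G} {M : Subgroup G}, y ∈ I → g⁻¹ * y * g ∈ I → g ∉ I → Line p x M → g ∈ M →
      k ∉ M → k⁻¹ * y * k ∈ I := by
    intro y g k M hy hy' hg l m hk
    obtain ⟨M', l', m'⟩ := (K x h).line k fun e => hk (b1 e l)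
    obtain ⟨M'', l'', m''⟩ := (K x h).line (g⁻¹ * k) fun e =>
      hk ((Subgroup.mul_mem_cancel_left M (inv_mem m)).1 (b1 e l))
    by_contra hc
    have e := b2 (fun e => hc (hI.2 e)) l' l'' (mul_mem (mul_mem (inv_mem m') (b1 (hI.1 hy) l')) m')
      (by simpa [mul_assoc] using mul_mem (mul_mem (inv_mem m'') (b1 (hI.1 hy') l'')) m'')
    have m3 : g ∈ M' := inv_mem_iff.1 ((Subgroup.mul_mem_cancel_right M' m').1 (e.ge m''))
    exact hk (b2 (fun e => hg (hI.2 e)) l' l m3 m ▸ m')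
  have xI : x ∈ I := ⟨l₀.mem, l₁.mem⟩
  have core : I.normalCore = ⊥ := by
    by_contra hc
    exact l₀.co.1 (top_le_iff.1 (((K x h).nrm _ inferInstance hc).ge.trans
      ((sup_le I.normalCore_le (zpowers_le.2 xI)).trans inf_le_left)))
  have fr : IsFrobeniusComplement I := by
    refine ⟨fun e => h.ne_one (mem_bot.1 (e ▸ xI)), fun e => l₀.co.1 (top_le_iff.1
      (e.ge.trans inf_le_left)), fun g hg => ?_⟩
    rw [← cj_eq_smul, ← le_bot_iff, ← core]
    intro y hy k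
    have hy' := mem_cj.1 hy.2
    obtain ⟨M, l, m⟩ := (K x h).line g fun e => hg (hI.2 e)
    rw [← inv_inv k, inv_inv k⁻¹]
    generalize k⁻¹ = k
    by_cases c1 : k ∈ I
    · exact mul_mem (mul_mem (inv_mem c1) hy.1) c1
    by_cases c2 : k ∈ M
    · obtain ⟨k₀, hk₀⟩ := out l
      have c3 : k₀ ∉ I := fun e => hk₀ (b1 (hI.1 e) l)
      obtain ⟨M', l', m'⟩ := (K x h).line k₀ fun e => c3 (hI.2 e)
      exact A hy.1 (A hy.1 hy' hg l m hk₀) c3 l' m'
        fun e => hk₀ (b2 (fun e => c1 (hI.2 e)) l' l e c2 ▸ m')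
    · exact A hy.1 hy' hg l m c2
  obtain ⟨N, hN, nN, nil⟩ := Cfsg.Agent.S0042.result I fr
  obtain ⟨N', hN', -, co⟩ := Cfsg.Agent.S0035.result I fr
  obtain rfl : N = N' := SetLike.coe_injective (hN.trans hN'.symm)
  have hne : N ≠ ⊥ := fun e => fr.2.1 (by simpa [e] using co.sup_eq_top)
  obtain ⟨r, hr, hd⟩ := Nat.exists_prime_and_dvd (fun e => hne (card_eq_one.1 e))
  have : Fact r.Prime := ⟨hr⟩
  obtain ⟨P⟩ : Nonempty (Sylow r N) := inferInstance
  have := Sylow.normal_of_normalizerCondition Group.normalizerCondition_of_isNilpotent P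
  have s := isSyl_map_subtype P
  exact s.eq_bot_iff.1 ((s.eq_pCoreOf (le_normalizer_map_subtype _)).trans (h.core_bot hr N)) hd

end H57.F2
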