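import Cfsg.Agent.H57.F2End

/-! Tower F2 (row S3817): the generation lemma for odd `p`. -/

set_option autoImplicit false

namespace H57.F2

open Subgroup Cfsg H98
open scoped commutatorElement

universe u

variable {G : Type u} [Group G] {p q : ℕ} {x : G} {R J : Subgroup G}

theorem comm_z2 {r s v w : G} (hr : r ∈ R) (hs : s ∈ R) (hB : ⁅v, s⁆ ∈ cs R) (hC : ⁅v, w⁆ ∈ cs R)
    (hA : ⁅r, w⁆ ∈ cs R) : ⁅r * v, s * w⁆ = ⁅r, s⁆ * (⁅v, s⁆ * ⁅v, w⁆ * ⁅r, w⁆) := by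
  calc ⁅r * v, s * w⁆ = r * (⁅v, s⁆ * s) * (⁅v, w⁆ * r⁻¹) * (⁅r, w⁆ * s⁻¹) := by
        simp only [commutatorElement_def]; group
    _ = r * s * (⁅v, s⁆ * r⁻¹) * (⁅v, w⁆ * s⁻¹) * ⁅r, w⁆ := by
        rw [← mem_cs.1 hB s hs, ← mem_cs.1 hC _ (inv_mem hr), ← mem_cs.1 hA _ (inv_mem hs)]; group
    _ = r * s * r⁻¹ * (⁅v, s⁆ * s⁻¹) * ⁅v, w⁆ * ⁅r, w⁆ := by
        rw [← mem_cs.1 hB _ (inv_mem hr), ← mem_cs.1 hC _ (inv_mem hs)]; group
    _ = _ := by rw [← mem_cs.1 hB _ (inv_mem hs), commutatorElement_def r s]; group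

theorem comm_cz {a b z : G} (ha : a ∈ R) (hb : b ∈ R) (hz : z ∈ cs R) : ⁅a * z, b * z⁆ = ⁅a, b⁆ := by
  calc ⁅a * z, b * z⁆ = a * (z * b) * a⁻¹ * z⁻¹ * b⁻¹ := by simp only [commutatorElement_def]; group
    _ = a * b * (z * a⁻¹) * z⁻¹ * b⁻¹ := by rw [← mem_cs.1 hz b hb]; group
    _ = _ := by rw [← mem_cs.1 hz _ (inv_mem ha), commutatorElement_def]; group

variable [Finite G]

theorem cm_inf_cen {Z : Subgroup G} (hp : p.Prime) (hx : x ^ p = 1) (hZ : ¬ p ∣ Nat.card Z)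
    (hc : Z ≤ cs Z) (hn : x ∈ nor Z) : cm Z x ⊓ cen x = ⊥ := by
  have m : ∀ z ∈ Z, ⁅z, x⁆ ∈ Z := fun z hz => cm_le hn (comm_mem_cm hz)
  have e : ∀ a ∈ Z, ∀ b ∈ Z, ⁅a * b, x⁆ = ⁅a, x⁆ * ⁅b, x⁆ := fun a ha b hb => by
    calc ⁅a * b, x⁆ = a * ⁅b, x⁆ * a⁻¹ * ⁅a, x⁆ := by simp only [commutatorElement_def]; group
      _ = _ := by
        rw [mem_cs.1 (hc (m b hb)) a ha, mul_inv_cancel_right, mem_cs.1 (hc (m a ha)) _ (m b hb)]
  let S : Subgroup G :=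
    { carrier := {y | ∃ z ∈ Z, y = ⁅z, x⁆}
      mul_mem' := by
        rintro _ _ ⟨a, ha, rfl⟩ ⟨b, hb, rfl⟩
        exact ⟨a * b, mul_mem ha hb, (e a ha b hb).symm⟩
      one_mem' := ⟨1, one_mem Z, by simp⟩
      inv_mem' := by
        rintro _ ⟨a, ha, rfl⟩
        refine ⟨a⁻¹, inv_mem ha, inv_eq_of_mul_eq_one_right ?_⟩
        rw [← e a ha _ (inv_mem ha)]; simp }
  refine le_bot_iff.1 fun y hy => ?_
  obtain ⟨z, hz, rfl⟩ := cm_le_of (K := S) hn (fun z hz => ⟨z, hz, rfl⟩) hy.1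
  have h1 : (⁅z, x⁆ * x) ^ p = 1 := by
    rw [show ⁅z, x⁆ * x = z * x * z⁻¹ by rw [commutatorElement_def]; group, conj_pow, hx]; group
  rw [Commute.mul_pow (mem_cen.1 hy.2), hx, mul_one] at h1
  exact eq_one_of_pg hp (zp_pg (k := 1) (by rwa [pow_one])) hZ (mem_zpowers _) (m z hz)

theorem go_core (hp : p.Prime) (h2 : p ≠ 2) (hq : Pr p q) (hx : x ^ p = 1) (hR : IsPGroup q R)
    (hn : x ∈ nor R) (he : cm R x = R) (hJ : J ≤ R ⊓ cen x) (hY : ∀ n ∈ R, Yn R x n ⊓ cen x ≤ J)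
    (hno : ∀ N : Subgroup G, N ≤ R → R ≤ nor N → x ∈ nor N → N ⊓ cen x ≤ J → N = ⊥) : R = ⊥ := by
  have px : IsPGroup p (zpowers x) := zp_pg (k := 1) (by rwa [pow_one])
  have hd := hq.not_dvd hp hR
  set Z := R ⊓ cs R with hZ
  have nZ : nor R ≤ nor Z := le_normalizer_inf le_rfl (normalizer_le_normalizer_centralizer R)
  have dZ : ¬ p ∣ Nat.card Z := not_dvd_card_of_le inf_le_left hd
  have cZ : ∀ {N : Subgroup G}, N ≤ Z → R ≤ nor N := fun h =>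
    le_normalizer_of_le_centralizer (le_cs_comm.1 (h.trans inf_le_right))
  have Zx : Z ≤ cen x := cm_eq_bot.1 (hno _ ((cm_le (nZ hn)).trans inf_le_left) (cZ (cm_le (nZ hn)))
    (self_nor_cm _ _) ((cm_inf_cen hp hx dZ (inf_le_right.trans (centralizer_anti inf_le_left))
      (nZ hn)).le.trans bot_le))
  have JZ : J ⊓ Z = ⊥ := hno _ (inf_le_right.trans inf_le_left) (cZ inf_le_right)
    (centralizer_le_normalizer _ (mem_cs_of_le (inf_le_right.trans Zx)))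
    (inf_le_left.trans inf_le_left)
  set W := R ⊓ stab R Z with hW
  have nW : x ∈ nor W := le_normalizer_inf (zp_le_nor hn)
    (le_normalizer_stab (zp_le_nor hn) (zp_le_nor (nZ hn))) (mem_zpowers x)
  have w1 : ∀ {r w : G}, r ∈ R → w ∈ W → ⁅r, w⁆ ∈ Z := fun hr hw => (mem_stab.1 hw.2).2 _ hr
  have w2 : ∀ {r w : G}, r ∈ R → w ∈ W → ⁅w, r⁆ ∈ Z := fun hr hw => by
    rw [← commutatorElement_inv]; exact inv_mem (w1 hr hw)
  have gen : ∀ {d : G}, (∀ r ∈ R, ⁅r, x⁆ ∈ cen d) → d ∈ cs R := fun h =>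
    mem_cs_of_le (he.ge.trans (cm_le_of hn h))
  have fix : ∀ {z : G}, z ∈ Z → x * z * x⁻¹ = z := fun hz => conj_eq (cen_comm.1 (Zx hz))
  have fpf : ∀ w ∈ W, ⁅w, x⁆ ∈ Z → w ∈ cs R := fun w hw h => by
    obtain ⟨m, hm, hc⟩ := exists_mul_cen (y := w) hp px dZ (nZ hn)
      (by rw [← commutatorElement_inv]; exact inv_mem h)
    have hw' : m * w ∈ W := mul_mem (mem_inf.2 ⟨hm.1, mem_stab.2 ⟨le_normalizer hm, fun c hc => by
      rw [commutatorElement_eq_one_iff_mul_comm.2 (mem_cs.1 hm.2 c hc)]; exact one_mem _⟩⟩) hw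
    refine (Subgroup.mul_mem_cancel_left _ hm.2).1 (gen fun r hr => mem_cen.2 ?_)
    have e := fix (w1 (inv_mem hr) hw')
    have c1 := mem_cen.1 (inv_mem hc)
    have c2 := mem_cen.1 (cen_comm.1 hc |> inv_mem)
    generalize m * w = c at e c1 c2
    have e2 : x * r⁻¹ * c * r * x⁻¹ = r⁻¹ * c * r := by
      calc x * r⁻¹ * c * r * x⁻¹ = x * ⁅r⁻¹, c⁆ * (c * x⁻¹) := by rw [commutatorElement_def]; group
        _ = x * ⁅r⁻¹, c⁆ * x⁻¹ * c := by rw [← c2]; group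
        _ = _ := by rw [e, commutatorElement_def]; group
    calc ⁅r, x⁆ * c = r * x * r⁻¹ * (x⁻¹ * c) := by rw [commutatorElement_def]; group
      _ = r * (x * r⁻¹ * c * r * x⁻¹) * x * r⁻¹ * x⁻¹ := by rw [c2]; group
      _ = c * ⁅r, x⁆ := by rw [e2, commutatorElement_def]; group
  have xr : ∀ {r : G}, r ∈ R → x * r * x⁻¹ ∈ R := fun h => conj_mem_of_mem_normalizer hn h
  have sR : ∀ {r : G}, r ∈ R → ⁅r, x⁆ ∈ R := fun h => cm_le hn (comm_mem_cm h)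
  have all : ∀ w ∈ W, w ∈ cs R := fun w hw => by
    have hv : ⁅w, x⁆ ∈ W := cm_le nW (comm_mem_cm hw)
    set v := ⁅w, x⁆ with hvd
    have hv' : x * v * x⁻¹ ∈ W := conj_mem_of_mem_normalizer nW hv
    have key : ∀ r₀ ∈ R, ⁅v, x * ⁅r₀, x⁆ * x⁻¹⁆ * ⁅v, x * v * x⁻¹⁆ * ⁅⁅r₀, x⁆, x * v * x⁻¹⁆ = 1 := by
      intro r₀ h₀
      have hr := sR h₀
      have mY := comm_mem_Yn hn h₀
      have mY' := comm_mem_Yn hn (mul_mem h₀ hw.1)
      have z1 := w1 (xr h₀) hv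
      have ea : ⁅r₀ * w, x⁆ = ⁅r₀, x⁆ * v * ⁅x * r₀ * x⁻¹, v⁆ := by
        rw [mul_assoc, mem_cs.1 z1.2 v hv.1, hvd]; simp only [commutatorElement_def]; group
      have ea' : x * ⁅r₀ * w, x⁆ * x⁻¹ =
          x * ⁅r₀, x⁆ * x⁻¹ * (x * v * x⁻¹) * ⁅x * r₀ * x⁻¹, v⁆ := by
        rw [← fix z1, ea]; group
      set r := ⁅r₀, x⁆ with hrd
      have zB := w2 (xr hr) hv
      have zC := w1 hv.1 hv'
      have zA := w1 hr hv'
      have hζ := mul_mem (mul_mem zB zC) zA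
      have e1 := comm_z2 hr (xr hr) zB.2 zC.2 zA.2
      rw [← comm_cz (mul_mem hr hv.1) (mul_mem (xr hr) hv'.1) z1.2, ← ea, ← ea'] at e1
      generalize ⁅v, x * r * x⁻¹⁆ * ⁅v, x * v * x⁻¹⁆ * ⁅r, x * v * x⁻¹⁆ = ζ at hζ e1
      have cc : ∀ {Y : Subgroup G} {a : G}, x ∈ nor Y → a ∈ Y → ⁅a, x * a * x⁻¹⁆ ∈ Y :=
        fun h1 h2 => commutator_le_of_le le_rfl le_rfl
          (commutator_mem_commutator h2 (conj_mem_of_mem_normalizer h1 h2))
      have b1 := cc (nor_Yn hn r₀) mY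
      have b2 := e1 ▸ cc (nor_Yn hn (r₀ * w)) mY'
      generalize ⁅r, x * r * x⁻¹⁆ = b at b1 b2
      obtain ⟨m, hm, hc⟩ := exists_mul_cen (y := b) (N := Yn R x r₀ ⊓ Yn R x (r₀ * w)) hp px
        (not_dvd_card_of_le (inf_le_left.trans (Yn_le R x _)) hd)
        (le_normalizer_inf (zp_le_nor (nor_Yn hn _)) (zp_le_nor (nor_Yn hn _)) (mem_zpowers x))
        (mem_inf.2 ⟨mul_mem (conj_mem_of_mem_normalizer (nor_Yn hn _) b1) (inv_mem b1), by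
          rw [show ⁅x, b⁆ = x * b * x⁻¹ * (x * ζ * x⁻¹) * (b * ζ)⁻¹ by
            rw [fix hζ, commutatorElement_def]; group,
            show x * b * x⁻¹ * (x * ζ * x⁻¹) = x * (b * ζ) * x⁻¹ by group]
          exact mul_mem (conj_mem_of_mem_normalizer (nor_Yn hn _) b2) (inv_mem b2)⟩)
      have j1 := hY _ h₀ (mem_inf.2 ⟨mul_mem hm.1 b1, hc⟩)
      have j2 := hY _ (mul_mem h₀ hw.1) (mem_inf.2 ⟨mul_mem hm.2 b2, by
        rw [← mul_assoc]; exact mul_mem hc (Zx hζ)⟩)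
      rw [← mul_assoc] at j2
      exact mem_bot.1 (JZ.le (mem_inf.2 ⟨(Subgroup.mul_mem_cancel_left J j1).1 j2, hζ⟩))
    have k1 : ⁅v, x * v * x⁻¹⁆ = 1 := by simpa using key 1 (one_mem R)
    have hv'' : x⁻¹ * v * x ∈ W := conj_mem_of_mem_normalizer' nW hv
    have hd : (x⁻¹ * v * x)⁻¹ * (x * v * x⁻¹) ∈ cs R := gen fun r₀ h₀ => by
      have e := key r₀ h₀
      have e' := fix (w1 (sR h₀) hv'')
      rw [k1, mul_one] at e
      generalize ⁅r₀, x⁆ = r at e e'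
      have e3 : ⁅r, x * v * x⁻¹⁆ = ⁅r, x⁻¹ * v * x⁆ := by
        rw [← e', eq_inv_of_mul_eq_one_right e]; simp only [commutatorElement_def]; group
      generalize x * v * x⁻¹ = a at e3
      generalize x⁻¹ * v * x = b at e3
      refine mem_cen.2 ?_
      calc r * (b⁻¹ * a) = r * b⁻¹ * r⁻¹ * ⁅r, a⁆ * a * r := by rw [commutatorElement_def]; group
        _ = b⁻¹ * a * r := by rw [e3, commutatorElement_def]; group
    have h3 : ⁅v⁻¹, x ^ 2⁆ ∈ Z := by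
      rw [show ⁅v⁻¹, x ^ 2⁆ = x * ((x⁻¹ * v * x)⁻¹ * (x * v * x⁻¹)) * x⁻¹ by
        rw [commutatorElement_def, pow_two]; group]
      exact conj_mem_of_mem_normalizer (nZ hn) (mem_inf.2 ⟨mul_mem (inv_mem hv''.1) hv'.1, hd⟩)
    have h4 : ∀ k : ℕ, ⁅v⁻¹, (x ^ 2) ^ k⁆ ∈ Z := fun k => by
      induction k with
      | zero => simp
      | succ k ih =>
        rw [show ⁅v⁻¹, (x ^ 2) ^ (k + 1)⁆ = ⁅v⁻¹, x ^ 2⁆ * (x ^ 2 * ⁅v⁻¹, (x ^ 2) ^ k⁆ * (x ^ 2)⁻¹) by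
          simp only [commutatorElement_def]; group]
        exact mul_mem h3 (conj_mem_of_mem_normalizer (pow_mem (nZ hn) 2) ih)
    obtain ⟨k, hk⟩ := hp.odd_of_ne_two h2
    have h5 := h4 (k + 1)
    rw [← pow_mul, show 2 * (k + 1) = p + 1 by omega, pow_succ, hx, one_mul] at h5
    exact fpf w hw (mem_inf.2 ⟨hv.1, inv_mem_iff.1 (fpf _ (inv_mem hv) h5)⟩)
  have ab : R ≤ cs R := by
    by_contra hc
    obtain ⟨w, hw, hw', h⟩ := exists_z2 hq.1 hR hc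
    exact hw' (all w (mem_inf.2 ⟨hw, mem_stab.2 ⟨nZ (le_normalizer hw), fun y hy => mem_inf.2
      ⟨commutator_le_of_le le_rfl le_rfl (commutator_mem_commutator hy hw), h y hy⟩⟩⟩))
  exact he.symm.trans (cm_eq_bot.2 ((le_inf le_rfl ab).trans Zx))

theorem go_top (hp : p.Prime) (h2 : p ≠ 2) (hq : Pr p q) (hx : x ^ p = 1) (hR : IsPGroup q R)
    (hn : x ∈ nor R) (he : cm R x = R) (hJ : J ≤ R ⊓ cen x) (hY : ∀ n ∈ R, Yn R x n ⊓ cen x ≤ J)
    (ht : R ⊔ zpowers x = ⊤) : R ⊓ cen x ≤ J := by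
  have px : IsPGroup p (zpowers x) := zp_pg (k := 1) (by rwa [pow_one])
  have hd := hq.not_dvd hp hR
  obtain ⟨N, -, hN⟩ := Finite.exists_le_maximal
    (p := fun N : Subgroup G => N ≤ R ∧ R ≤ nor N ∧ x ∈ nor N ∧ N ⊓ cen x ≤ J) (a := ⊥)
    ⟨bot_le, le_normalizer_bot _, le_normalizer_bot ⊤ (mem_top x), inf_le_left.trans bot_le⟩
  obtain ⟨n1, n2, n3, n4⟩ := hN.1
  have : N.Normal := normal_of_top_le_normalizer (ht.ge.trans (sup_le n2 (zp_le_nor n3)))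
  set f := QuotientGroup.mk' N with hf
  have ker : ∀ {z : G}, f z = 1 ↔ z ∈ N := QuotientGroup.eq_one_iff _
  have lift : ∀ {Y : Subgroup G} {y : G}, x ∈ nor Y → y ∈ Y → f y ∈ cen (f x) →
      ∃ c ∈ Y ⊓ cen x, f c = f y := by
    intro Y y h1 hy hc
    obtain ⟨m, hm, hc⟩ := exists_mul_cen (y := y) (N := N ⊓ Y) hp px
      (not_dvd_card_of_le (inf_le_left.trans n1) hd)
      (le_normalizer_inf (zp_le_nor n3) (zp_le_nor h1) (mem_zpowers x))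
      (mem_inf.2 ⟨by rw [← ker, map_commutatorElement, comm_eq_one]; exact cen_comm.1 hc,
        mul_mem (conj_mem_of_mem_normalizer h1 hy) (inv_mem hy)⟩)
    exact ⟨m * y, mem_inf.2 ⟨mul_mem hm.2 hy, hc⟩, by rw [map_mul, ker.2 hm.1, one_mul]⟩
  have back : ∀ {Y : Subgroup G} {y : G}, N ≤ Y → f y ∈ Y.map f → y ∈ Y := by
    rintro Y y h ⟨z, hz, e⟩
    have : z⁻¹ * y ∈ N := by rw [← ker, map_mul, map_inv, e, inv_mul_cancel]
    exact (Subgroup.mul_mem_cancel_left Y (inv_mem hz)).1 (h this)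
  have nf : ∀ {Y : Subgroup G}, x ∈ nor Y → f x ∈ nor (Y.map f) := fun h =>
    map_le_normalizer_map f (zp_le_nor h) (mem_map_of_mem f (mem_zpowers x))
  have h1 : R.map f = ⊥ := go_core (x := f x) (J := J.map f) hp h2 hq (by rw [← map_pow, hx, map_one])
    (hR.map f) (nf hn) (by rw [cm, ← MonoidHom.map_zpowers, ← map_commutator, ← cm, he])
    (by
      rintro _ ⟨y, hy, rfl⟩
      exact mem_inf.2 ⟨mem_map_of_mem f (hJ hy).1, mem_cen.2 (by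
        rw [← map_mul, mem_cen.1 (hJ hy).2, map_mul])⟩)
    (by
      rintro _ ⟨n, hn', rfl⟩ y ⟨⟨y1, y2⟩, y3⟩
      rw [← map_inv, ← map_mul, ← map_mul, ← Set.image_pair, ← MonoidHom.map_closure] at y1
      obtain ⟨y, hy, rfl⟩ := y1
      obtain ⟨c, hc, e⟩ := lift (nor_Yn hn n) (mem_inf.2 ⟨hy, back n1 y2⟩) y3
      exact ⟨c, hY n hn' hc, e⟩)
    fun N' m1 m2 m3 m4 => by
      have l : N ≤ N'.comap f := fun z hz => by rw [mem_comap, ker.2 hz]; exact one_mem _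
      have l2 := hN.2 (y := N'.comap f) ⟨fun z hz => back n1 (m1 hz),
        (le_comap_map f R).trans (comap_le_normalizer_comap f m2),
        comap_le_normalizer_comap f (zp_le_nor m3) (mem_zpowers (f x)), fun z hz => by
          obtain ⟨j, hj, e⟩ := m4 (mem_inf.2 ⟨hz.1, mem_cen.2 (by
            rw [← map_mul, mem_cen.1 hz.2, map_mul])⟩)
          refine (Subgroup.mul_mem_cancel_left J (inv_mem hj)).1 (n4 (mem_inf.2 ⟨?_,
            mul_mem (inv_mem (hJ hj).2) hz.2⟩))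
          rw [← ker, map_mul, map_inv, e, inv_mul_cancel]⟩ l
      refine le_bot_iff.1 fun z hz => ?_
      obtain ⟨z, rfl⟩ := QuotientGroup.mk'_surjective N z
      exact ker.2 (l2 hz)
  exact fun y hy => n4 (mem_inf.2 ⟨ker.1 (mem_bot.1 (h1 ▸ mem_map_of_mem f hy.1)), hy.2⟩)

theorem jobGO : JobGO.{u} := by
  intro G _ _ p q hp h2 hq x R J hx hR hn he hJ hY y hy
  set H := R ⊔ zpowers x with hH
  have mx : x ∈ H := mem_sup_right (mem_zpowers x)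
  have hR' : R ≤ H := le_sup_left
  have inj := Subgroup.map_injective H.subtype_injective
  have ce : ∀ {z : H}, z ∈ cen (⟨x, mx⟩ : H) ↔ (z : G) ∈ cen x := by
    intro z; simp [mem_cen, Subtype.ext_iff]
  have zp : (zpowers (⟨x, mx⟩ : H)).map H.subtype = zpowers x := MonoidHom.map_zpowers _ _
  have key := go_top (G := H) (x := ⟨x, mx⟩) (R := R.subgroupOf H) (J := J.subgroupOf H) hp h2 hq
    (Subtype.ext hx) (isPGroup_subgroupOf hR H)
    (comap_le_normalizer_comap H.subtype (zp_le_nor hn) (mem_zpowers x))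
    (inj (by rw [cm, map_commutator, map_subgroupOf_eq_of_le hR', zp, ← cm, he]))
    (fun z hz => mem_inf.2 ⟨(hJ hz).1, ce.2 (hJ hz).2⟩)
    (fun n hn' z hz => hY n hn' (mem_inf.2 ⟨mem_inf.2 ⟨by
      have := mem_map_of_mem H.subtype hz.1.1
      rwa [MonoidHom.map_closure, Set.image_pair] at this, hz.1.2⟩, ce.1 hz.2⟩))
    (inj (by rw [Subgroup.map_sup, map_subgroupOf_eq_of_le hR', zp, map_subtype_top]))
  exact key (x := ⟨y, hR' hy.1⟩) (mem_inf.2 ⟨hy.1, ce.2 hy.2⟩)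

end H57.F2
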