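/- Tower HM: models `L ≤ H < G = H⟨τ⟩` with Sylow subgroup `U⟨τ⟩`. -/
import Cfsg.Agent.H87.HMK2

set_option autoImplicit false

namespace H57.HM
open Cfsg Subgroup H87.HM

variable {Ω : Type} [Group Ω]

/-- `H ∪ Hτ`. -/
def ext2 (H : Subgroup Ω) (τ : Ω) (h2 : τ * τ = 1) (hn : ∀ g ∈ H, τ * g * τ⁻¹ ∈ H) : Subgroup Ω where
  carrier := {g | g ∈ H ∨ g * τ ∈ H}
  one_mem' := Or.inl H.one_mem
  mul_mem' := by
    have hi : τ⁻¹ = τ := inv_eq_of_mul_eq_one_right h2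
    rintro a b (ha | ha) (hb | hb)
    · exact Or.inl (H.mul_mem ha hb)
    · exact Or.inr (by rw [mul_assoc]; exact H.mul_mem ha hb)
    · refine Or.inr ?_
      have := H.mul_mem ha (hn b hb)
      rwa [hi, show a * τ * (τ * b * τ) = a * (τ * τ) * b * τ by group, h2, mul_one] at this
    · refine Or.inl ?_
      have := H.mul_mem ha (hn _ hb)
      rwa [show a * τ * (τ * (b * τ) * τ⁻¹) = a * (τ * τ) * b by group, h2, mul_one] at this
  inv_mem' := by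
    rintro a (ha | ha)
    · exact Or.inl (H.inv_mem ha)
    · refine Or.inr ?_
      have hi : τ⁻¹ = τ := inv_eq_of_mul_eq_one_right h2
      have := hn _ (H.inv_mem ha)
      rwa [show τ * (a * τ)⁻¹ * τ⁻¹ = a⁻¹ * τ⁻¹ by group, hi] at this

theorem mem_ext2 {H : Subgroup Ω} {τ : Ω} {h2 : τ * τ = 1} {hn : ∀ g ∈ H, τ * g * τ⁻¹ ∈ H} {g : Ω} :
    g ∈ ext2 H τ h2 hn ↔ g ∈ H ∨ g * τ ∈ H := Iff.rfl

theorem relIndex_ext2 {H : Subgroup Ω} {τ : Ω} (h2 : τ * τ = 1) (hn : ∀ g ∈ H, τ * g * τ⁻¹ ∈ H)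
    (hτ : τ ∉ H) : H.relIndex (ext2 H τ h2 hn) = 2 := by
  rw [relIndex, index_eq_two_iff]
  refine ⟨⟨τ, Or.inr (by rw [h2]; exact H.one_mem)⟩, fun b => ?_⟩
  simp only [mem_subgroupOf, coe_mul]
  rcases b.2 with hb | hb
  · exact Or.inr ⟨hb, fun h => hτ (by simpa using H.mul_mem (H.inv_mem hb) h)⟩
  · exact Or.inl ⟨hb, fun h => hτ (by simpa using H.mul_mem (H.inv_mem h) hb)⟩

theorem odd_relIndex [Finite Ω] {I H : Subgroup Ω} [I.Normal]
    (hodd : ∀ g ∈ H, ∃ k, Odd k ∧ g ^ k ∈ I) : Odd (I.relIndex H) := by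
  rw [← Nat.not_even_iff_odd, even_iff_two_dvd, relIndex, index]
  intro h
  obtain ⟨x, hx⟩ := exists_prime_orderOf_dvd_card' 2 h
  obtain ⟨x, rfl⟩ := QuotientGroup.mk_surjective x
  obtain ⟨k, hk, h1⟩ := hodd x x.2
  have : (QuotientGroup.mk x : H ⧸ I.subgroupOf H) ^ k = 1 := by
    rw [← QuotientGroup.mk_pow, QuotientGroup.eq_one_iff]; exact h1
  have := orderOf_dvd_of_pow_eq_one this
  rw [hx] at this
  exact (Nat.not_even_iff_odd.2 hk) (even_iff_two_dvd.2 this)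

theorem exists_model [Finite Ω] (I H U : Subgroup Ω) [I.Normal] (τ : Ω)
    (hIH : I ≤ H) (hodd : ∀ g ∈ H, ∃ k, Odd k ∧ g ^ k ∈ I) (h2 : τ * τ = 1) (hτ : τ ∉ H)
    (hn : ∀ g ∈ H, τ * g * τ⁻¹ ∈ H) (hU : U ≤ I) (hU2 : IsPGroup 2 U) (hidx : Odd (U.relIndex I))
    (hτU : ∀ u ∈ U, τ * u * τ⁻¹ ∈ U) :
    ∃ (G : Subgroup Ω) (T : Sylow 2 G), (∀ g, g ∈ G ↔ g ∈ H ∨ g * τ ∈ H) ∧
      (∀ g : G, g ∈ (T : Subgroup G) ↔ (g : Ω) ∈ U ∨ (g : Ω) * τ ∈ U) ∧
      (H.subgroupOf G).index = 2 ∧ Sc (T : Subgroup G) (U.subgroupOf G) := by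
  have hτU' : τ ∉ U := fun h => hτ (hIH (hU h))
  set G := ext2 H τ h2 hn
  set T := ext2 U τ h2 hτU
  have hTG : T ≤ G := fun g hg => hg.imp (fun h => hIH (hU h)) (fun h => hIH (hU h))
  have hUT : U ≤ T := fun g hg => Or.inl hg
  have hHG : H ≤ G := fun g hg => Or.inl hg
  have i1 : U.relIndex T = 2 := relIndex_ext2 h2 hτU hτU'
  have i2 : H.relIndex G = 2 := relIndex_ext2 h2 hn hτ
  have hT : IsPGroup 2 T := by
    intro g
    have h1 : g ^ 2 ∈ U.subgroupOf T := sq_mem_of_index_two i1 g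
    obtain ⟨k, hk⟩ := hU2 ⟨_, h1⟩
    refine ⟨k + 1, ?_⟩
    rw [pow_succ', pow_mul]
    exact Subtype.ext (by simpa using congrArg Subtype.val hk)
  have hi : ¬ 2 ∣ (T.subgroupOf G).index := by
    have e1 := relIndex_mul_relIndex U T G hUT hTG
    have e2 := relIndex_mul_relIndex U H G (hU.trans hIH) hHG
    have e3 := relIndex_mul_relIndex U I H hU hIH
    rw [i1, ← e2, i2, ← e3] at e1
    have : T.relIndex G = U.relIndex I * I.relIndex H := by omega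
    change ¬ 2 ∣ T.relIndex G
    rw [this, ← even_iff_two_dvd, Nat.not_even_iff_odd]
    exact hidx.mul (odd_relIndex hodd)
  have hT' : IsPGroup 2 (T.subgroupOf G) := hT.of_equiv (subgroupOfEquivOfLe hTG).symm
  refine ⟨G, hT'.toSylow hi, fun g => Iff.rfl, fun g => Iff.rfl, i2, fun g x hx h => ?_⟩
  rcases (show ((g * x * g⁻¹ : G) : Ω) ∈ T from h) with h | h
  · exact h
  · have h1 : ((g * x * g⁻¹ : G) : Ω) ∈ I := Normal.conj_mem inferInstance _ (hU hx) (g : Ω)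
    exact (hτ (hIH ((I.mul_mem_cancel_left h1).1 (hU h)))).elim

theorem conj_inj {L : Type} [Group L] (hc : center L = ⊥) :
    Function.Injective (MulAut.conj : L →* MulAut L) := by
  rw [injective_iff_map_eq_one]
  intro a ha
  have : a ∈ center L := mem_center_iff.2 fun b => by
    have := MulEquiv.congr_fun ha b
    rw [MulAut.conj_apply, MulAut.one_apply, mul_inv_eq_iff_eq_mul] at this
    exact this.symm
  rwa [hc, mem_bot] at this

theorem conj_conj {L : Type} [Group L] (α : MulAut L) (x : L) :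
    α * MulAut.conj x * α⁻¹ = MulAut.conj (α x) := by
  ext y
  simp [MulAut.conj_apply]

theorem center_eq_bot {L : Type} [Group L] [IsSimpleGroup L] (hc : ¬ IsMulCommutative L) :
    center L = ⊥ := by
  refine (Normal.eq_bot_or_eq_top (inferInstance : (center L).Normal)).resolve_right fun h => hc ?_
  exact ⟨⟨fun a b => mem_center_iff.1 (h ▸ mem_top b) a⟩⟩

theorem alt6_model {L : Type} [Group L] [Finite L] [IsSimpleGroup L] (hc : ¬ IsMulCommutative L)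
    (H G : Subgroup (MulAut L)) (hG : Inn L ≤ G) (hodd : ∀ g ∈ H, ∃ k, Odd k ∧ g ^ k ∈ Inn L)
    (hi : (H.subgroupOf G).index = 2) (K : Type) [Field K] [Fintype K]
    (h6 : Nonempty (L ≃* Matrix.ProjectiveSpecialLinearGroup (Fin 3) K) ∨
      (Nonempty (L ≃* PSp 2 K) ∧ ∃ e : ℕ, Odd e ∧ Fintype.card K = 2 ^ e)) : Alt6 G := by
  have hz := center_eq_bot hc
  let e : ((Inn L).subgroupOf G) ≃* L :=
    (subgroupOfEquivOfLe hG).trans (MonoidHom.ofInjective (conj_inj hz)).symm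
  have : IsSimpleGroup ((Inn L).subgroupOf G) := e.isSimpleGroup
  refine alt6_of ((Inn L).subgroupOf G) (H.subgroupOf G) (fun h => hc ⟨⟨fun a b => ?_⟩⟩) ?_ hi
    (fun g hg => hodd g hg) K (h6.imp (fun ⟨f⟩ => ⟨e.trans f⟩) fun ⟨⟨f⟩, h⟩ => ⟨⟨e.trans f⟩, h⟩)
  · obtain ⟨a, rfl⟩ := e.surjective a
    obtain ⟨b, rfl⟩ := e.surjective b
    rw [← map_mul, ← map_mul, h.1.1]
  · rw [eq_bot_iff]
    intro g hg
    rw [mem_bot]
    ext x
    have h1 := congrArg Subtype.val (hg ⟨MulAut.conj x, hG ⟨x, rfl⟩⟩ ⟨x, rfl⟩)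
    have h2 := conj_conj (g : MulAut L) x
    rw [mul_inv_eq_iff_eq_mul] at h2
    exact conj_inj hz (mul_right_cancel (h2.symm.trans h1.symm))

/-- A finite multiplicatively closed set of elements, times a normal subgroup. -/
def mulSet [Finite Ω] (I : Subgroup Ω) [I.Normal] (D : Set Ω) (h1 : (1 : Ω) ∈ D)
    (hm : ∀ a ∈ D, ∀ b ∈ D, a * b ∈ D) : Subgroup Ω where
  carrier := {g | ∃ x ∈ I, ∃ d ∈ D, g = x * d}
  one_mem' := ⟨1, I.one_mem, 1, h1, (mul_one _).symm⟩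
  mul_mem' := by
    rintro _ _ ⟨x, hx, d, hd, rfl⟩ ⟨y, hy, e, he, rfl⟩
    exact ⟨x * (d * y * d⁻¹), I.mul_mem hx (Normal.conj_mem inferInstance _ hy d), d * e,
      hm _ hd _ he, by group⟩
  inv_mem' := by
    rintro _ ⟨x, hx, d, hd, rfl⟩
    have hp : ∀ k : ℕ, d ^ k ∈ D := fun k => by
      induction k with
      | zero => rwa [pow_zero]
      | succ k ih => rw [pow_succ]; exact hm _ ih _ hd
    have hd' : d⁻¹ ∈ D := by
      have : d⁻¹ = d ^ (orderOf d - 1) := by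
        rw [inv_eq_iff_mul_eq_one, ← pow_succ', Nat.sub_add_cancel (orderOf_pos d), pow_orderOf_eq_one]
      rw [this]; exact hp _
    exact ⟨d⁻¹ * x⁻¹ * d⁻¹⁻¹, Normal.conj_mem inferInstance _ (I.inv_mem hx) _, d⁻¹, hd', by group⟩

theorem mem_mulSet [Finite Ω] {I : Subgroup Ω} [I.Normal] {D : Set Ω} {h1 : (1 : Ω) ∈ D}
    {hm : ∀ a ∈ D, ∀ b ∈ D, a * b ∈ D} {g : Ω} :
    g ∈ mulSet I D h1 hm ↔ ∃ x ∈ I, ∃ d ∈ D, g = x * d := Iff.rfl

theorem mul_pow_mem {I : Subgroup Ω} [I.Normal] {x d : Ω} (hx : x ∈ I) {k : ℕ} (hd : d ^ k ∈ I) :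
    (x * d) ^ k ∈ I := by
  rw [← QuotientGroup.eq_one_iff] at hx hd ⊢
  rw [QuotientGroup.mk_pow, QuotientGroup.mk_mul, hx, one_mul, ← QuotientGroup.mk_pow, hd]

end H57.HM
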