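/- Tower HM, job M3: the models inside `Aut (PSL₃(q))`, `q` even. -/
import Cfsg.Agent.H57.HMMod
import Cfsg.Agent.H57.PslOut
import Cfsg.Agent.H57.SLGen
import Cfsg.Agent.H57.SLCard

set_option autoImplicit false
set_option linter.unusedSectionVars false

namespace H57.HM
open Cfsg Subgroup H87.HM Matrix
open Matrix.SpecialLinearGroup (transvection)

variable {K : Type} [Field K]

abbrev SL3 (K : Type) [Field K] := SpecialLinearGroup (Fin 3) K
abbrev L3 (K : Type) [Field K] := ProjectiveSpecialLinearGroup (Fin 3) K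

/-- The image of an elementary transvection. -/
def xx (i j : Fin 3) (h : i ≠ j) (a : K) : L3 K := QuotientGroup.mk (transvection h a)

theorem xx_congr {i j k l : Fin 3} (h : i ≠ j) (h' : k ≠ l) {a b : K} (e1 : i = k) (e2 : j = l)
    (e3 : a = b) : xx i j h a = xx k l h' b := by subst e1 e2 e3; rfl

theorem aut_ext {α β : MulAut (L3 K)} (h : ∀ i j hij (c : K), α (xx i j hij c) = β (xx i j hij c)) :
    α = β := psl_aut_ext h

/-- Diagonal-field automorphisms. -/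
def mu (e : Fin 3 → Kˣ) (ρ : RingAut K) : MulAut (L3 K) :=
  pslDiag (Fin 3) K (diagGL e) * pslField (Fin 3) K ρ

theorem mu_xx (e : Fin 3 → Kˣ) (ρ : RingAut K) (i j : Fin 3) (h : i ≠ j) (a : K) :
    mu e ρ (xx i j h a) = xx i j h (e i * ρ a * ((e j : K))⁻¹) := by
  rw [mu, MulAut.mul_apply, xx, pslField_mk, slField_transvection, pslDiag_mk,
    slDiag_diagGL_transvection, xx, Units.val_inv_eq_inv_val]

/-- A field automorphism on units. -/
def un (ρ : RingAut K) (x : Kˣ) : Kˣ := Units.mk0 (ρ x) (by simp)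

@[simp] theorem un_val (ρ : RingAut K) (x : Kˣ) : (un ρ x : K) = ρ x := rfl

theorem mu_mul (e e' : Fin 3 → Kˣ) (ρ ρ' : RingAut K) :
    mu e ρ * mu e' ρ' = mu (fun i => e i * un ρ (e' i)) (ρ * ρ') := by
  refine aut_ext fun i j h c => ?_
  rw [MulAut.mul_apply, mu_xx, mu_xx, mu_xx]
  refine xx_congr _ _ rfl rfl ?_
  simp only [map_mul, map_inv₀, Units.val_mul, un_val, mul_inv, RingAut.mul_apply]
  ring

theorem mu_one : mu (fun _ => (1 : Kˣ)) 1 = 1 := by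
  refine aut_ext fun i j h c => ?_
  rw [mu_xx]
  exact xx_congr _ _ rfl rfl (by simp)

def JJ (K : Type) [Field K] : GL (Fin 3) K :=
  ⟨!![0, 0, 1; 0, 1, 0; 1, 0, 0], !![0, 0, 1; 0, 1, 0; 1, 0, 0],
    by ext i j; fin_cases i <;> fin_cases j <;> simp [mul_apply, Fin.sum_univ_three],
    by ext i j; fin_cases i <;> fin_cases j <;> simp [mul_apply, Fin.sum_univ_three]⟩

theorem JJ_tv (i j : Fin 3) (h : i ≠ j) (a : K) :
    slDiag (Fin 3) K (JJ K) (transvection h a) = transvection (Fin.rev_injective.ne h) a := by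
  rw [sl_ext_iff, slDiag_coe, SpecialLinearGroup.transvection_coe,
    SpecialLinearGroup.transvection_coe, mul_add, add_mul, mul_one, Units.mul_inv]
  congr 1
  change (!![0, 0, 1; 0, 1, 0; 1, 0, 0] : Matrix (Fin 3) (Fin 3) K) * _ *
    !![0, 0, 1; 0, 1, 0; 1, 0, 0] = _
  ext r s
  fin_cases i <;> fin_cases j <;> first
    | exact absurd rfl h
    | fin_cases r <;> fin_cases s <;> simp [mul_apply, Fin.sum_univ_three, single_apply, Fin.rev, vecMul, dotProduct]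

/-- The graph or graph-field automorphism. -/
def tau (σ : RingAut K) : MulAut (L3 K) :=
  pslDiag (Fin 3) K (JJ K) * pslGraph (Fin 3) K * pslField (Fin 3) K σ

theorem tau_xx [CharP K 2] (σ : RingAut K) (i j : Fin 3) (h : i ≠ j) (a : K) :
    tau σ (xx i j h a) = xx j.rev i.rev (Fin.rev_injective.ne h.symm) (σ a) := by
  rw [tau, MulAut.mul_apply, MulAut.mul_apply, xx, pslField_mk, slField_transvection, pslGraph_mk,
    slGraph_transvection, pslDiag_mk, JJ_tv, CharTwo.neg_eq, xx]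

theorem tau_sq [CharP K 2] {σ : RingAut K} (h : σ * σ = 1) : tau σ * tau σ = 1 := by
  refine aut_ext fun i j hij c => ?_
  rw [MulAut.mul_apply, tau_xx, tau_xx]
  exact xx_congr _ _ (Fin.rev_rev i) (Fin.rev_rev j) (MulEquiv.congr_fun (congrArg RingEquiv.toMulEquiv h) c)

theorem tau_mu [CharP K 2] [Finite K] (σ ρ : RingAut K) (e : Fin 3 → Kˣ) :
    tau σ * mu e ρ = mu (fun i => (un σ (e i.rev))⁻¹) ρ * tau σ := by
  have hc : σ * ρ = ρ * σ := (isCyclic_ringAut (F := K)).isMulCommutative.1.1 σ ρ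
  refine aut_ext fun i j hij c => ?_
  rw [MulAut.mul_apply, MulAut.mul_apply, mu_xx, tau_xx, tau_xx, mu_xx]
  refine xx_congr _ _ rfl rfl ?_
  have : σ (ρ c) = ρ (σ c) := by rw [← RingAut.mul_apply, hc, RingAut.mul_apply]
  simp only [map_mul, map_inv₀, Units.val_inv_eq_inv_val, un_val, Fin.rev_rev, inv_inv, this]
  ring

/-- Upper unitriangular matrices. -/
def uu (a b c : K) : SL3 K := ⟨!![1, a, c; 0, 1, b; 0, 0, 1], by simp [det_fin_three]⟩

theorem uu_mul (a b c a' b' c' : K) :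
    uu a b c * uu a' b' c' = uu (a + a') (b + b') (c + c' + a * b') := by
  ext i j
  change ((uu a b c).1 * (uu a' b' c').1) i j = _
  fin_cases i <;> fin_cases j <;> simp [uu, mul_apply, Fin.sum_univ_three] <;> ring

theorem uu_X (a : K) : uu a 0 0 = transvection (show (0 : Fin 3) ≠ 1 by decide) a := by
  ext i j
  rw [SpecialLinearGroup.transvection_coe]
  fin_cases i <;> fin_cases j <;> simp [uu, single_apply, one_apply]

theorem uu_Y (a : K) : uu 0 a 0 = transvection (show (1 : Fin 3) ≠ 2 by decide) a := by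
  ext i j
  rw [SpecialLinearGroup.transvection_coe]
  fin_cases i <;> fin_cases j <;> simp [uu, single_apply, one_apply]

theorem uu_Z (a : K) : uu 0 0 a = transvection (show (0 : Fin 3) ≠ 2 by decide) a := by
  ext i j
  rw [SpecialLinearGroup.transvection_coe]
  fin_cases i <;> fin_cases j <;> simp [uu, single_apply, one_apply]

/-- The images in `PSL₃`. -/
def ub (a b c : K) : L3 K := QuotientGroup.mk (uu a b c)

theorem ub_mul (a b c a' b' c' : K) :
    ub a b c * ub a' b' c' = ub (a + a') (b + b') (c + c' + a * b') := by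
  rw [ub, ub, ub, ← QuotientGroup.mk_mul, uu_mul]

theorem ub_X (a : K) : ub a 0 0 = xx 0 1 (by decide) a := by rw [ub, uu_X, xx]
theorem ub_Y (a : K) : ub 0 a 0 = xx 1 2 (by decide) a := by rw [ub, uu_Y, xx]
theorem ub_Z (a : K) : ub 0 0 a = xx 0 2 (by decide) a := by rw [ub, uu_Z, xx]

theorem ub_dec (a b c : K) :
    ub a b c = xx 1 2 (by decide) b * xx 0 2 (by decide) c * xx 0 1 (by decide) a := by
  rw [← ub_X, ← ub_Y, ← ub_Z, ub_mul, ub_mul]; simp

theorem ub_inj {a b c a' b' c' : K} (h : ub a b c = ub a' b' c') : a = a' ∧ b = b' ∧ c = c' := by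
  obtain ⟨z, hz, h⟩ := (QuotientGroup.mk'_eq_mk' _).1 h
  obtain ⟨r, -, hr⟩ := Matrix.SpecialLinearGroup.mem_center_iff.1 hz
  have h1 : (uu a b c : Matrix (Fin 3) (Fin 3) K) * scalar (Fin 3) r = uu a' b' c' := by
    rw [hr, ← h]; rfl
  have e := fun i j => congrFun (congrFun h1 i) j
  have e0 := e 0 0
  have e1 := e 0 1
  have e2 := e 1 2
  have e3 := e 0 2
  simp [uu] at e0 e1 e2 e3
  subst e0
  simp_all

theorem not_comm : ¬ IsMulCommutative (L3 K) := fun h => by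
  have := h.1.1 (ub (1 : K) 0 0) (ub 0 1 0)
  rw [ub_mul, ub_mul] at this
  simpa using (ub_inj this).2.2

theorem mu_ub (e : Fin 3 → Kˣ) (ρ : RingAut K) (a b c : K) :
    mu e ρ (ub a b c) = ub (e 0 * (e 1 : K)⁻¹ * ρ a) (e 1 * (e 2 : K)⁻¹ * ρ b)
      (e 0 * (e 1 : K)⁻¹ * (e 1 * (e 2 : K)⁻¹) * ρ c) := by
  rw [ub_dec, ub_dec, map_mul, map_mul, mu_xx, mu_xx, mu_xx]
  refine congrArg₂ _ (congrArg₂ _ ?_ ?_) ?_ <;> refine xx_congr _ _ rfl rfl ?_ <;> field_simp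

theorem tau_ub [CharP K 2] (σ : RingAut K) (a b c : K) :
    tau σ (ub a b c) = ub (σ b) (σ a) (σ (c + a * b)) := by
  rw [ub_dec, map_mul, map_mul, tau_xx, tau_xx, tau_xx]
  change xx 0 1 _ _ * xx 0 2 _ _ * xx 1 2 _ _ = _
  rw [← ub_X, ← ub_Y, ← ub_Z, ub_mul, ub_mul]
  simp [mul_comm]

/-- The Weyl element. -/
def ww (K : Type) [Field K] [CharP K 2] : SL3 K :=
  ⟨!![1, 0, 0; 0, 0, 1; 0, 1, 0], by simp [det_fin_three, CharTwo.neg_eq]⟩

theorem ww_uu [CharP K 2] (a z : K) : ww K * uu a 0 z = uu z 0 a * ww K := by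
  ext i j
  change ((ww K).1 * (uu a 0 z).1) i j = ((uu z 0 a).1 * (ww K).1) i j
  fin_cases i <;> fin_cases j <;> simp [uu, ww, mul_apply, Fin.sum_univ_three]

theorem conj_xx {x : SL3 K} {i j k l : Fin 3} {h : i ≠ j} {h' : k ≠ l} {a b : K}
    (e : MulAut.conj (QuotientGroup.mk x : L3 K) (xx i j h a) = xx k l h' b) :
    (x : Matrix (Fin 3) (Fin 3) K) * single i j a = single k l b * x := by
  rw [← pslDiag_toGL, xx, xx, pslDiag_mk] at e
  exact slDiag_transvection_eq_of_mk_eq h h' e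

/-- An inner automorphism does not interchange the two root groups. -/
theorem no_swap {y : L3 K} {a b c d : K} (ha : a ≠ 0) (hb : b ≠ 0)
    (h1 : MulAut.conj y (ub a 0 0) = ub 0 c 0) (h2 : MulAut.conj y (ub 0 b 0) = ub d 0 0) : False := by
  obtain ⟨x, rfl⟩ := QuotientGroup.mk_surjective y
  rw [ub_X, ub_Y] at h1 h2
  have e1 := conj_xx h1
  have e2 := conj_xx h2
  have e3 : (x : Matrix (Fin 3) (Fin 3) K) * (single 0 1 a * single 1 2 b) = 0 := by
    rw [← mul_assoc, e1, mul_assoc, e2, ← mul_assoc, single_mul_single_of_ne _ _ _ _ (by decide),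
      zero_mul]
  rw [single_mul_single_same] at e3
  have e4 : (single 0 2 (a * b) : Matrix (Fin 3) (Fin 3) K) = 0 := by
    have := congrArg (((x⁻¹ : SL3 K) : Matrix (Fin 3) (Fin 3) K) * ·) e3
    simpa only [← mul_assoc, sl_inv_mul_coe, one_mul, mul_zero] using this
  have := congrFun (congrFun e4 0) 2
  simp [ha, hb] at this

/-- An inner automorphism normalizing both root groups is diagonal on them. -/
theorem diag_of {y : L3 K} {c c' d d' : K} {ρ ρ' : RingAut K} (hd : d ≠ 0) (hd' : d' ≠ 0)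
    (hc : c ≠ 0) (hc' : c' ≠ 0)
    (h1 : ∀ a, MulAut.conj y (ub (d * ρ' a) 0 0) = ub (c * ρ a) 0 0)
    (h2 : MulAut.conj y (ub 0 d' 0) = ub 0 c' 0) :
    ρ = ρ' ∧ ∃ r s : K, r ≠ 0 ∧ s ≠ 0 ∧ c = s⁻¹ * r ^ 2 * d ∧ c' = s ^ 2 * r⁻¹ * d' := by
  obtain ⟨x, rfl⟩ := QuotientGroup.mk_surjective y
  simp only [ub_X, ub_Y] at h1 h2
  have e1 := fun a i j => congrFun (congrFun (conj_xx (h1 a)) i) j
  have e2 := fun i j => congrFun (congrFun (conj_xx h2) i) j
  have a1 := e1 1 1 1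
  have a2 := e1 1 2 1
  have a3 := fun a => e1 a 0 1
  have a4 := e2 2 2
  have a5 := e2 1 2
  simp [hd, hd'] at a1 a2 a3 a4 a5
  have hdet := x.det_coe
  rw [det_fin_three, a1, a2, a4] at hdet
  have hdet' : x 0 0 * x 1 1 * x 2 2 = 1 := by simpa using hdet
  have n0 : x 0 0 ≠ 0 := fun h => by simp [h] at hdet'
  have n1 : x 1 1 ≠ 0 := fun h => by simp [h] at hdet'
  have n2 : x 2 2 ≠ 0 := fun h => by simp [h] at hdet'
  have b1 := a3 1
  simp only [map_one, mul_one] at b1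
  refine ⟨RingEquiv.ext fun a => ?_, x 0 0, (x 2 2)⁻¹, n0, inv_ne_zero n2, ?_, ?_⟩
  · have := a3 a
    rw [← mul_assoc, b1] at this
    exact mul_left_cancel₀ (mul_ne_zero hc n1) (by linear_combination this.symm)
  · rw [inv_inv]
    apply mul_right_cancel₀ n1
    linear_combination -b1 - x 0 0 * d * hdet'
  · field_simp
    linear_combination -(x 0 0 * x 2 2) * a5 + d' * hdet'

/-- The Heisenberg coordinates in the automorphism group. -/
def mm (a b c : K) : MulAut (L3 K) := MulAut.conj (ub a b c)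

theorem mm_mul (a b c a' b' c' : K) :
    mm a b c * mm a' b' c' = mm (a + a') (b + b') (c + c' + a * b') := by
  rw [mm, mm, mm, ← map_mul, ub_mul]

theorem simple3 : IsSimpleGroup (L3 K) := psl_isSimpleGroup_of_three_le (by simp)

theorem cinj : Function.Injective (MulAut.conj : L3 K →* MulAut (L3 K)) :=
  have := simple3 (K := K)
  conj_inj (center_eq_bot not_comm)

theorem mm_one : mm (0 : K) 0 0 = 1 := by
  have := mm_mul (0 : K) 0 0 0 0 0
  simpa using this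

/-- The unitriangular group. -/
def UU (K : Type) [Field K] : Subgroup (MulAut (L3 K)) where
  carrier := {g | ∃ a b c, g = mm a b c}
  one_mem' := ⟨0, 0, 0, mm_one.symm⟩
  mul_mem' := by
    rintro _ _ ⟨a, b, c, rfl⟩ ⟨a', b', c', rfl⟩
    exact ⟨_, _, _, mm_mul ..⟩
  inv_mem' := by
    rintro _ ⟨a, b, c, rfl⟩
    refine ⟨-a, -b, -c + a * b, inv_eq_of_mul_eq_one_right ?_⟩
    rw [mm_mul, ← mm_one]
    congr 1 <;> ring

theorem UU_two [CharP K 2] : IsPGroup 2 (UU K) := by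
  rintro ⟨_, a, b, c, rfl⟩
  refine ⟨2, Subtype.ext ?_⟩
  change mm a b c ^ (2 * 2) = 1
  rw [pow_mul, sq, sq, mm_mul, mm_mul, ← mm_one]
  simp [CharTwo.add_self_eq_zero]

theorem UU_idx [Finite K] [CharP K 2] : Odd ((UU K).relIndex (Inn (L3 K))) := by
  have := Fintype.ofFinite K
  have hle : UU K ≤ Inn (L3 K) := by rintro _ ⟨a, b, c, rfl⟩; exact ⟨_, rfl⟩
  have h1 : Nat.card (UU K) = Nat.card (K × K × K) :=
    card_of_param (fun v : K × K × K => mm v.1 v.2.1 v.2.2) (fun v w h => by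
      obtain ⟨h1, h2, h3⟩ := ub_inj (cinj h)
      exact Prod.ext h1 (Prod.ext h2 h3)) fun g =>
      ⟨fun ⟨a, b, c, h⟩ => ⟨(a, b, c), h⟩, fun ⟨v, h⟩ => ⟨_, _, _, h⟩⟩
  have h2 : Nat.card (Inn (L3 K)) = Nat.card (L3 K) :=
    (Nat.card_congr (MonoidHom.ofInjective cinj).toEquiv).symm
  have h3 := card_mul_index ((UU K).subgroupOf (Inn (L3 K)))
  rw [Nat.card_congr (subgroupOfEquivOfLe hle).toEquiv, h1, h2] at h3
  have h4 := gcd_mul_card_psl (ι := Fin 3) (F := K)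
  rw [card_sl_fin_eq, ← h3, Nat.card_prod, Nat.card_prod] at h4
  simp only [Nat.card_eq_fintype_card (α := K), Finset.prod_range_succ, Finset.prod_range_zero,
    show 3 - 1 = 2 from rfl, show 3 * 2 / 2 = 3 from rfl, one_mul] at h4
  set q := Fintype.card K
  have hq : 0 < q := Fintype.card_pos
  have he : Even q := Nat.even_iff.2 (FiniteField.even_card_of_char_two (ringChar.eq K 2))
  have ho : ∀ k, Odd (q ^ (k + 2) - 1) := fun k =>
    Nat.Even.sub_odd (Nat.one_le_pow _ _ hq) (he.pow_of_ne_zero (by omega)) odd_one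
  refine Odd.of_dvd_nat ((ho 0).mul (ho 1)) ⟨Nat.gcd (Fintype.card (Fin 3)) (q - 1), ?_⟩
  apply Nat.eq_of_mul_eq_mul_left (pow_pos hq 3)
  rw [← h4, relIndex]
  ring

theorem mu_pow (e : Fin 3 → Kˣ) (ρ : RingAut K) (k : ℕ) : ∃ e', mu e ρ ^ k = mu e' (ρ ^ k) := by
  induction k with
  | zero => exact ⟨_, by rw [pow_zero, pow_zero, mu_one]⟩
  | succ k ih =>
    obtain ⟨e', h⟩ := ih
    exact ⟨_, by rw [pow_succ, pow_succ, h, mu_mul]⟩

theorem mu_pow' (e : Fin 3 → Kˣ) (k : ℕ) : mu e 1 ^ k = mu (fun i => e i ^ k) 1 := by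
  induction k with
  | zero => simp only [pow_zero, mu_one]
  | succ k ih =>
    rw [pow_succ, ih, mu_mul, mul_one]
    congr 1
    ext i
    simp [pow_succ]

theorem jobM3 : JobM3 := by
  intro K _ _ _ σ P _ hσ hP
  have := Fintype.ofFinite K
  have := simple3 (K := K)
  let D : Set (MulAut (L3 K)) :=
    {g | ∃ (e : Fin 3 → Kˣ) (ρ : RingAut K), P (e 0 * (e 1 : K)⁻¹) (e 1 * (e 2 : K)⁻¹) ρ ∧ g = mu e ρ}
  have P1 : ∀ r s : K, r ≠ 0 → s ≠ 0 → P (s⁻¹ * r ^ 2) (s ^ 2 * r⁻¹) 1 := fun r s hr hs => by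
    simpa using hP.mul _ _ _ _ _ _ (hP.tor s hs).1 (hP.tor r hr).2
  have hD1 : (1 : MulAut (L3 K)) ∈ D := ⟨fun _ => 1, 1, by simpa using P1 1 1 one_ne_zero one_ne_zero,
    mu_one.symm⟩
  have hDm : ∀ a ∈ D, ∀ b ∈ D, a * b ∈ D := by
    rintro _ ⟨e, ρ, h, rfl⟩ _ ⟨e', ρ', h', rfl⟩
    refine ⟨_, _, ?_, mu_mul ..⟩
    convert hP.mul _ _ _ _ _ _ h h' using 1 <;>
      simp only [Units.val_mul, un_val, map_mul, map_inv₀, mul_inv] <;> ring
  let H := mulSet (Inn (L3 K)) D hD1 hDm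
  have hIH : Inn (L3 K) ≤ H := fun x hx => ⟨x, hx, 1, hD1, (mul_one x).symm⟩
  have hDH : ∀ d ∈ D, d ∈ H := fun d hd => ⟨1, one_mem _, d, hd, (one_mul d).symm⟩
  have hodd : ∀ g ∈ H, ∃ k, Odd k ∧ g ^ k ∈ Inn (L3 K) := by
    rintro _ ⟨x, hx, _, ⟨e, ρ, h, rfl⟩, rfl⟩
    refine ⟨orderOf ρ * (Fintype.card K - 1), (hP.odd _ _ _ h).mul (Nat.Even.sub_odd Fintype.card_pos
      (Nat.even_iff.2 (FiniteField.even_card_of_char_two (ringChar.eq K 2))) odd_one), mul_pow_mem hx ?_⟩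
    obtain ⟨e', h'⟩ := mu_pow e ρ (orderOf ρ)
    rw [pow_mul, h', pow_orderOf_eq_one, mu_pow']
    classical
    simp only [← Fintype.card_units, pow_card_eq_one, mu_one]
    exact one_mem _
  have ht2 : tau σ * tau σ = 1 := tau_sq hσ
  have hsw : ∀ g ∈ H, ∀ c d : K, g (ub 1 0 0) = ub 0 c 0 → g (ub 0 1 0) = ub d 0 0 → False := by
    rintro _ ⟨_, ⟨y, rfl⟩, _, ⟨e, ρ, h, rfl⟩, rfl⟩ c d h1 h2
    rw [MulAut.mul_apply, mu_ub] at h1 h2
    simp only [map_zero, mul_zero, map_one, mul_one] at h1 h2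
    exact no_swap (hP.ne _ _ _ h).1 (hP.ne _ _ _ h).2 h1 h2
  have hτ : tau σ ∉ H := fun h => hsw _ h 1 1 (by simp [tau_ub]) (by simp [tau_ub])
  have hn : ∀ g ∈ H, tau σ * g * (tau σ)⁻¹ ∈ H := by
    rintro _ ⟨x, hx, _, ⟨e, ρ, h, rfl⟩, rfl⟩
    refine ⟨_, Normal.conj_mem inferInstance _ hx (tau σ), _, ⟨fun i => (un σ (e i.rev))⁻¹, ρ, ?_, rfl⟩, ?_⟩
    · convert hP.sw _ _ _ h using 1 <;>
        simp only [Units.val_inv_eq_inv_val, un_val, map_mul, map_inv₀, inv_inv] <;>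
        exact mul_comm _ _
    · rw [mul_assoc _ (tau σ)⁻¹, ← mul_inv_eq_iff_eq_mul.2 (tau_mu σ ρ e)]
      group
  have hU : UU K ≤ Inn (L3 K) := by rintro _ ⟨a, b, c, rfl⟩; exact ⟨_, rfl⟩
  have hact : ∀ a b c : K, tau σ * mm a b c * (tau σ)⁻¹ = mm (σ b) (σ a) (σ (c + a * b)) :=
    fun a b c => by rw [mm, conj_conj, tau_ub, mm]
  obtain ⟨G, T, hG, hT, hi, hS⟩ := exists_model (Inn (L3 K)) H (UU K) (tau σ) hIH hodd ht2 hτ hn hU
    UU_two UU_idx (by rintro _ ⟨a, b, c, rfl⟩; exact ⟨_, _, _, hact a b c⟩)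
  have hHG : H ≤ G := fun g hg => (hG g).2 (Or.inl hg)
  let m : K → K → K → G := fun a b c => ⟨mm a b c, hHG (hIH ⟨_, rfl⟩)⟩
  let t : G := ⟨tau σ, (hG _).2 (Or.inr (by rw [ht2]; exact one_mem _))⟩
  have hdg : ∀ (g : G) c c' ρ, Dg3 m g c c' ρ ↔
      ∀ a b z, (g : MulAut (L3 K)) (ub a b z) = ub (c * ρ a) (c' * ρ b) (c * c' * ρ z) := by
    intro g c c' ρ
    refine forall₃_congr fun a b z => ?_
    rw [Subtype.ext_iff]
    change (g : MulAut (L3 K)) * mm a b z * (g : MulAut (L3 K))⁻¹ = mm _ _ _ ↔ _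
    rw [mm, conj_conj, mm, cinj.eq_iff]
  refine ⟨G, inferInstance, inferInstance, T, (UU K).subgroupOf G, m, t,
    ⟨⟨fun a b c => ⟨a, b, c, rfl⟩, fun g ⟨a, b, c, h⟩ => ⟨a, b, c, Subtype.ext h⟩,
      fun a b c a' b' c' => Subtype.ext (mm_mul ..), fun h => ub_inj (cinj (congrArg Subtype.val h))⟩,
      T.isPGroup', fun g hg => (hT g).2 (Or.inl hg),
      (hT t).2 (Or.inr (by rw [ht2]; exact one_mem _)), fun s hs => (hT s).1 hs, Subtype.ext ht2,
      fun a b c => Subtype.ext (hact a b c)⟩,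
    ⟨⟨MulAut.conj (QuotientGroup.mk (ww K)), hHG (hIH ⟨_, rfl⟩)⟩, fun a z => Subtype.ext ?_⟩,
    fun h1 s hs => ?_, fun c c' ρ => ⟨fun h => ⟨(hP.ne _ _ _ h).1, (hP.ne _ _ _ h).2, ?_⟩, ?_⟩, hS,
    alt6_model not_comm H G (hIH.trans hHG) hodd hi K (Or.inl ⟨MulEquiv.refl _⟩)⟩
  · change MulAut.conj _ * mm a 0 z * (MulAut.conj _)⁻¹ = mm z 0 a
    rw [mm, mm, ← map_inv, ← map_mul, ← map_mul, ub, ub, ← QuotientGroup.mk_mul, ww_uu,
      QuotientGroup.mk_mul, mul_inv_cancel_right]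
  · let e : Fin 3 → Kˣ := ![Units.mk0 s hs, 1, (Units.mk0 s hs)⁻¹]
    have e0 : (e 0 * (e 1 : K)⁻¹ : K) = s := by simp [e]
    have e1 : (e 1 * (e 2 : K)⁻¹ : K) = s := by simp [e]
    refine ⟨⟨mu e 1, hHG (hDH _ ⟨e, 1, ?_, rfl⟩)⟩, (hdg _ _ _ _).2 fun a b z => ?_, Subtype.ext ?_⟩
    · rw [e0, e1]
      convert P1 s s hs hs using 1 <;> field_simp
    · change mu e 1 _ = _
      rw [mu_ub, e0, e1]
    · change mu e 1 * tau σ = tau σ * mu e 1
      rw [tau_mu, h1]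
      congr 2
      ext i
      fin_cases i <;> simp [e, Fin.rev]
  · obtain ⟨hc, hc'⟩ := hP.ne _ _ _ h
    let e : Fin 3 → Kˣ := ![Units.mk0 c hc * Units.mk0 c' hc', Units.mk0 c' hc', 1]
    have e0 : (e 0 * (e 1 : K)⁻¹ : K) = c := by simp [e, hc']
    have e1 : (e 1 * (e 2 : K)⁻¹ : K) = c' := by simp [e]
    refine ⟨⟨mu e ρ, hHG (hDH _ ⟨e, ρ, by rwa [e0, e1], rfl⟩)⟩, (hdg _ _ _ _).2 fun a b z => ?_⟩
    change mu e ρ _ = _
    rw [mu_ub, e0, e1]
  · rintro ⟨hc, hc', g, hg⟩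
    rw [hdg] at hg
    rcases (hG g).1 g.2 with h | h
    · obtain ⟨_, ⟨y, rfl⟩, _, ⟨e, ρ', h, rfl⟩, hy⟩ := h
      rw [hy] at hg
      simp only [MulAut.mul_apply, mu_ub] at hg
      obtain ⟨rfl, r, s, hr, hs, rfl, rfl⟩ := diag_of (y := y) (ρ := ρ) (ρ' := ρ') (hP.ne _ _ _ h).1
        (hP.ne _ _ _ h).2 hc hc' (fun a => by simpa using hg a 0 0) (by simpa using hg 0 1 0)
      simpa using hP.mul _ _ _ _ _ _ (P1 r s hr hs) h
    · exact (hsw _ h c' c (by simp [tau_ub, hg]) (by simp [tau_ub, hg])).elim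

end H57.HM
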