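import Cfsg.Agent.H98.CGTB
import Cfsg.Agent.H55.Basic

/-! Groups `V : SL₂(q)` with natural `V`; two of them over a common Sylow subgroup are blocks. -/

set_option autoImplicit false

namespace H57.L3

open Subgroup Cfsg H98 H96 H96.CG MatrixGroups
open H52 (zc Vv Cv R1 Vtx)
open scoped commutatorElement

universe u

variable {G : Type u} [Group G]

/-- `L` acts on `O₂(L)` as `SL₂(F)` on the natural module -/
structure NM (L : Subgroup G) (F : Type) [Field F] where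
  ρ : L →* SL(2, F)
  surj : Function.Surjective ρ
  ker : ∀ l : L, ρ l = 1 ↔ (l : G) ∈ pCoreOf 2 L
  s : Sec (Fin 2 → F) (pCoreOf 2 L) ⊥
  act : ∀ l : L, ∀ v ∈ pCoreOf 2 L, s.ψ (l * v * (l : G)⁻¹) = sl F (ρ l) • s.ψ v

/-- the field has even order `q > 2` -/
structure Fq (F : Type) [Fintype F] (q : ℕ) : Prop where
  card : Fintype.card F = q
  pow : ∃ e, q = 2 ^ e
  lt : 2 < q

namespace Fq

variable {F : Type} [Field F] [Fintype F] {q : ℕ} (f : Fq F q)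
include f

theorem charP : _root_.CharP F 2 :=
  let ⟨_, h⟩ := f.pow; NS.charP (f.card.trans h)

theorem two : (2 : F) = 0 := by
  have := f.charP
  exact CharTwo.two_eq_zero

theorem ex : ∃ a : F, a ≠ 0 ∧ a ^ 2 ≠ 1 := by
  obtain ⟨l, h0, h1⟩ := exists_ne_zero_one (F := F) (f.card ▸ f.lt)
  exact ⟨l, h0, fun e => h1 (f2_sq_inj f.two (by rw [e, one_pow]))⟩

theorem eq_one {g : SL(2, F)} (h : g ∈ center SL(2, F)) : g = 1 := by
  obtain ⟨r, h1, h2⟩ := Matrix.SpecialLinearGroup.mem_center_iff.1 h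
  have : r = 1 := f2_sq_inj f.two (by simpa using h1)
  refine Subtype.ext ?_
  rw [← h2, this]; simp

theorem normal (N : Subgroup SL(2, F)) [N.Normal] : N = ⊤ ∨ N = ⊥ :=
  (NS.normal_cases f.ex N).imp_right fun h => eq_bot_iff.2 fun _ hx => f.eq_one (h hx)

theorem comm_top : commutator SL(2, F) = ⊤ := by
  refine (f.normal _).resolve_right fun h => ?_
  have h1 := NS.commutator_sup (F := F)
  rw [h, bot_sup_eq] at h1
  have h2 : (H61.sl2 (0 : F) 1 (-1) 0 (by simp)) ∈ H11.uSub F := h1 ▸ mem_top _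
  obtain ⟨t, ht⟩ := H11.mem_uSub.1 h2
  have := congrArg (fun g : SL(2, F) => g 0 0) ht
  simp [H11.uMat, H61.sl2] at this

end Fq

namespace NM

variable {L K X N T : Subgroup G} {F : Type} [Field F] (m : NM L F) {v x : G}

/-- restriction to an overgroup -/
def sub (h : L ≤ K) : NM (L.subgroupOf K) F where
  ρ := m.ρ.comp (subgroupOfEquivOfLe h).toMonoidHom
  surj := m.surj.comp (subgroupOfEquivOfLe h).surjective
  ker l := by rw [pCoreOf_subgroupOf_eq h]; exact m.ker _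
  s :=
    { ψ := fun x => m.s.ψ x
      le := bot_le
      mul := fun x hx y hy => by
        rw [pCoreOf_subgroupOf_eq h] at hx hy
        exact m.s.mul _ hx _ hy
      ker := fun x hx => by
        rw [pCoreOf_subgroupOf_eq h] at hx
        rw [m.s.ker (x : G) hx, mem_bot, mem_bot, OneMemClass.coe_eq_one]
      surj := fun a => by
        obtain ⟨x, hx, e⟩ := m.s.surj a
        exact ⟨⟨x, h (pCoreOf_le L hx)⟩, by rw [pCoreOf_subgroupOf_eq h]; exact hx, e⟩ }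
  act l v hv := by
    rw [pCoreOf_subgroupOf_eq h] at hv
    exact m.act (subgroupOfEquivOfLe h l) v hv

theorem inj (hv : v ∈ pCoreOf 2 L) (hx : x ∈ pCoreOf 2 L) (e : m.s.ψ v = m.s.ψ x) : v = x := by
  have := (m.s.eq_iff hv hx).1 e
  rwa [mem_bot, inv_mul_eq_one] at this

include m in
theorem ab : pCoreOf 2 L ≤ cen (pCoreOf 2 L) :=
  commutator_eq_bot_iff_le_centralizer.1 (le_bot_iff.1 m.s.comm_le)

include m in
theorem cenV : L ⊓ cen (pCoreOf 2 L) ≤ pCoreOf 2 L := fun x hx => by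
  refine (m.ker ⟨x, hx.1⟩).1 (sl_inj ?_)
  rw [map_one]
  ext1 a
  obtain ⟨v, hv, rfl⟩ := m.s.surj a
  have := m.act ⟨x, hx.1⟩ v hv
  rw [show ((⟨x, hx.1⟩ : L) : G) = x from rfl, ← (com hx.2 hv).eq, mul_inv_cancel_right] at this
  exact this.symm

include m in
theorem charP : CharP 2 L := m.cenV

include m in
theorem irr (h : X ≤ pCoreOf 2 L) (hn : L ≤ nor X) : X = ⊥ ∨ X = pCoreOf 2 L := by
  refine or_iff_not_imp_left.2 fun h0 => le_antisymm h fun v hv => ?_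
  obtain ⟨x, hx, h1⟩ := (Subgroup.bot_or_exists_ne_one X).resolve_left h0
  by_cases h2 : v = 1
  · exact h2 ▸ X.one_mem
  obtain ⟨g, hg⟩ := NS.exists_sl (mt (m.s.ker x (h hx)).1 (by rwa [mem_bot]))
  obtain ⟨g', hg'⟩ := NS.exists_sl (mt (m.s.ker v hv).1 (by rwa [mem_bot]))
  obtain ⟨l, hl⟩ := m.surj (g' * g⁻¹)
  have e := m.act l x (h hx)
  rw [hl, ← hg, smul_smul, ← map_mul, inv_mul_cancel_right, hg'] at e
  have h3 := conj_mem_of_mem_normalizer (hn l.2) hx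
  exact m.inj (h h3) hv e ▸ h3

include m in
theorem not_cen : ¬ pCoreOf 2 L ≤ cen L := fun h => by
  obtain ⟨v, hv, e⟩ := m.s.surj (NS.e1 F)
  obtain ⟨l, hl⟩ := m.surj (H11.uMat 1)
  have e1 := m.act l v hv
  rw [(com (h hv) l.2).eq, mul_inv_cancel_right, e, hl] at e1
  have := congrFun e1 0
  rw [sl_smul_apply] at this
  simp [NS.e1, H11.uMat] at this

include m in
theorem fix : pCoreOf 2 L ⊓ cen L = ⊥ :=
  (m.irr inf_le_left (le_normalizer_of_le_centralizer (cen_symm inf_le_right))).resolve_right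
    fun e => m.not_cen (e.ge.trans inf_le_right)

include m in
theorem V_ne : pCoreOf 2 L ≠ ⊥ := fun e => m.not_cen (e.le.trans bot_le)

include m in
theorem VL : ⁅pCoreOf 2 L, L⁆ = pCoreOf 2 L :=
  (m.irr (commutator_le_left' (self_le_normalizer_pCoreOf L)) (H98.le_normalizer_commutator
    (self_le_normalizer_pCoreOf L) le_normalizer)).resolve_left fun e =>
      m.not_cen (commutator_eq_bot_iff_le_centralizer.1 e)

include m in
theorem Vv_eq : Vv 2 L = pCoreOf 2 L := inf_eq_left.2 m.ab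

theorem ker_eq : m.ρ.ker = pCore 2 L := by
  ext l
  rw [MonoidHom.mem_ker, m.ker, ← pCoreOf_subgroupOf, mem_subgroupOf]

variable [Fintype F] {q : ℕ} (f : Fq F q)
include m f

theorem ea : IsElementaryAbelian 2 (pCoreOf 2 L) :=
  H12.ea_of (fun _ ha _ hb => (com (m.ab hb) ha).eq) fun a ha => by
    rw [← mem_bot, ← m.s.ker _ (pow_mem ha 2), m.s.pow ha, two_nsmul, ← two_smul F, f.two, zero_smul]

theorem card_V : Nat.card (pCoreOf 2 L) = q * q := by
  have := m.s.card_eq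
  rw [relIndex_bot_left, Nat.card_fun, Nat.card_eq_fintype_card (α := F), f.card] at this
  simp [← this, sq]

theorem oz_eq : oz 2 (pCoreOf 2 L) = pCoreOf 2 L :=
  le_antisymm (oz_le _) (le_oz (m.ea f) le_rfl m.ab)

theorem normal (h : N ≤ L) (hn : L ≤ nor N) : N ≤ pCoreOf 2 L ∨ N = L := by
  have h1 : (N.subgroupOf L).Normal := (normal_subgroupOf_iff_le_normalizer h).2 hn
  have h2 := Subgroup.Normal.map h1 m.ρ m.surj
  rcases f.normal ((N.subgroupOf L).map m.ρ) with e | e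
  · right
    have h3 : L ≤ N ⊔ pCoreOf 2 L := fun x hx => by
      obtain ⟨y, hy, e'⟩ : m.ρ ⟨x, hx⟩ ∈ (N.subgroupOf L).map m.ρ := e ▸ mem_top _
      have := (m.ker (y⁻¹ * ⟨x, hx⟩)).1 (by rw [map_mul, map_inv, e', inv_mul_cancel])
      have := mul_mem (mem_sup_left hy : (y : G) ∈ N ⊔ pCoreOf 2 L) (mem_sup_right this)
      simpa using this
    refine le_antisymm h (h3.trans (sup_le le_rfl ?_))
    rw [← m.VL, commutator_comm]
    refine (commutator_mono h3 le_rfl).trans ?_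
    rw [commutator_sup_centralizer_left m.ab (Or.inl ((pCoreOf_le L).trans hn))]
    exact commutator_le_left' ((pCoreOf_le L).trans hn)
  · left
    intro x hx
    refine (m.ker ⟨x, h hx⟩).1 ?_
    rw [← mem_bot, ← e]
    exact ⟨_, hx, rfl⟩

theorem le_V (h : X ≤ L) (e : ⁅L, X⁆ ≤ pCoreOf 2 L) : X ≤ pCoreOf 2 L := fun x hx => by
  refine (m.ker ⟨x, h hx⟩).1 (f.eq_one (mem_center_iff.2 fun g => ?_))
  obtain ⟨l, rfl⟩ := m.surj g
  rw [← commutatorElement_eq_one_iff_mul_comm, ← map_commutatorElement]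
  exact (m.ker _).2 (e (commutator_mem_commutator l.2 hx))

variable [Finite G]

theorem r1 (hT : IsSyl 2 T L) : R1 2 q L := by
  have := f.charP
  have g := H52.geo_psl (F := F) 2
  obtain ⟨φ, hφ, e⟩ := H52.geo_exists_hom g ((H52.pj F).comp m.ρ) (H52.pj_surj.comp m.surj) hT
  have hk : ∀ l : L, φ l = 1 → (l : G) ∈ T := fun l hl => by
    rcases m.normal f (map_subtype_le φ.ker) (le_normalizer_map_subtype _) with h | h
    · exact hT.pCoreOf_le (h ⟨l, hl, rfl⟩)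
    · obtain ⟨a, -, ha⟩ := g.umax.exists_not_mem
      obtain ⟨a, rfl⟩ := hφ a
      obtain ⟨b, hb, e'⟩ := h.ge a.2
      rw [← Subtype.ext e', MonoidHom.mem_ker.1 hb] at ha
      exact absurd (one_mem _) ha
  have hM : UMax T ((((H52.bSub F).map (H52.pj F)).comap φ).map L.subtype) L := by
    refine ⟨fun t ht => ⟨⟨t, hT.le ht⟩, g.umax.le (e ▸ ⟨_, ht, rfl⟩), rfl⟩,
      lt_of_le_of_ne (map_subtype_le _) fun e' => ?_, fun X h1 h2 => ?_⟩
    · obtain ⟨a, -, ha⟩ := g.umax.exists_not_mem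
      obtain ⟨a, rfl⟩ := hφ a
      obtain ⟨b, hb, e'⟩ := e'.ge a.2
      exact ha (Subtype.ext e' ▸ hb)
    · refine (g.umax.uniq ((X.subgroupOf L).map φ) (e ▸ map_mono fun t ht => h1 ht) le_top).imp
        (fun h x hx => ⟨⟨x, h2 hx⟩, h ⟨_, hx, rfl⟩, rfl⟩) fun h => le_antisymm h2 fun x hx => ?_
      obtain ⟨y, hy, e'⟩ : φ ⟨x, hx⟩ ∈ (X.subgroupOf L).map φ := h ▸ mem_top _
      have := h1 (hk (y⁻¹ * ⟨x, hx⟩) (by rw [map_mul, map_inv, e', inv_mul_cancel]))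
      simpa using X.mul_mem hy this
  have := R1.of_geo g φ hφ hT hM
  rwa [Nat.card_eq_fintype_card, f.card] at this

theorem res_eq : res 2 L = L :=
  let ⟨_, hT⟩ := exists_isSyl 2 L
  (m.normal f (res_le L) (self_le_normalizer_res L)).resolve_left (m.r1 f hT).not_res_le_Q

omit [Finite G] in
theorem acts : ActsAsSL2OnSection F (commutator SL(2, F)) L (pCoreOf 2 L) ⊥ := by
  refine ⟨self_le_normalizer_pCoreOf L, bot_le, m.ρ, m.s.hom, ?_, fun a => ?_, fun u => ?_, fun e u => ?_⟩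
  · rw [f.comm_top, MonoidHom.range_eq_top.2 m.surj]
  · obtain ⟨x, hx, e⟩ := m.s.surj a.toAdd
    exact ⟨⟨x, hx⟩, congrArg Multiplicative.ofAdd e⟩
  · exact m.s.ker u u.2
  · exact ⟨⟨_, conj_mem_of_mem_normalizer (self_le_normalizer_pCoreOf L e.2) u.2⟩, rfl, m.act e u u.2⟩

theorem blk (hT : IsSyl 2 T L) (h : ¬ bm 2 T ≤ pCoreOf 2 L) : IsBaumannBlock 2 T L := by
  have hB : bm 2 T ≤ L := (bm_le T).trans hT.le
  refine ⟨m.res_eq f, ?_, m.VL, fun e => ?_, Or.inl ?_⟩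
  · exact (m.normal f (commutator_le_of_le le_rfl hB) (normalizer_commutator_ge_left _ _)).resolve_left
      fun e => h (m.le_V f hB e)
  · have h1 : oz 2 T ≤ cen L := cen_symm (commutator_eq_bot_iff_le_centralizer.1 e)
    refine oz_ne_bot hT.isPGroup (fun e' => m.V_ne (le_bot_iff.1 (e' ▸ hT.pCoreOf_le)))
      (le_bot_iff.1 (m.fix ▸ le_inf (le_trans (le_inf ((oz_le T).trans hT.le)
        (h1.trans (centralizer_anti (pCoreOf_le L)))) m.cenV) h1))
  · obtain ⟨e, he⟩ := f.pow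
    refine ⟨F, inferInstance, inferInstance, e, f.card.trans he, ⟨?_⟩, ?_, Or.inl (m.oz_eq f).symm⟩
    · exact (QuotientGroup.quotientMulEquivOfEq m.ker_eq.symm).trans
        ((QuotientGroup.quotientKerEquivOfSurjective _ m.surj).trans
          (topEquiv.symm.trans (MulEquiv.subgroupCongr f.comm_top.symm)))
    · rw [show omegaOneCenter 2 (pCoreOf 2 L) = pCoreOf 2 L from m.oz_eq f, m.fix]
      exact m.acts f

end NM

/-- two such groups over a common Sylow subgroup -/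
structure Pr (q : ℕ) (J L₁ L₂ : Subgroup G) (F : Type) [Field F] [Fintype F] where
  f : Fq F q
  m₁ : NM L₁ F
  m₂ : NM L₂ F
  gen : pCoreOf 2 L₁ ⊔ pCoreOf 2 L₂ = J
  s₁ : IsSyl 2 J L₁
  s₂ : IsSyl 2 J L₂

namespace Pr

variable {q : ℕ} {J L₁ L₂ K : Subgroup G} {F : Type} [Field F] [Fintype F] (P : Pr q J L₁ L₂ F)

/-- interchange -/
def symm : Pr q J L₂ L₁ F := ⟨P.f, P.m₂, P.m₁, (sup_comm _ _).trans P.gen, P.s₂, P.s₁⟩

/-- restriction to an overgroup -/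
def sub (h₁ : L₁ ≤ K) (h₂ : L₂ ≤ K) : Pr q (J.subgroupOf K) (L₁.subgroupOf K) (L₂.subgroupOf K) F where
  f := P.f
  m₁ := P.m₁.sub h₁
  m₂ := P.m₂.sub h₂
  gen := by
    rw [pCoreOf_subgroupOf_eq h₁, pCoreOf_subgroupOf_eq h₂, ← P.gen,
      subgroupOf_sup ((pCoreOf_le _).trans h₁) ((pCoreOf_le _).trans h₂)]
  s₁ := P.s₁.subgroupOf h₁
  s₂ := P.s₂.subgroupOf h₂

include P

theorem V_le : pCoreOf 2 L₁ ≤ J := P.s₁.pCoreOf_le

theorem Z_le : zc J ≤ pCoreOf 2 L₁ := H52.zc_le_Vv P.m₁.charP P.s₁ |>.trans inf_le_left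

theorem D_eq : J ⊓ cen L₁ = ⊥ :=
  le_bot_iff.1 (P.m₁.fix ▸ le_inf (le_trans (inf_le_inf P.s₁.le (centralizer_anti (pCoreOf_le _)))
    P.m₁.cenV) inf_le_right)

theorem hD : zc J ⊓ cen L₁ = ⊥ := le_bot_iff.1 (P.D_eq ▸ inf_le_inf_right _ inf_le_left)

variable [Finite G]

theorem not_le : ¬ pCoreOf 2 L₂ ≤ pCoreOf 2 L₁ := fun h => by
  obtain ⟨t, ht, e⟩ := (P.m₁.r1 P.f P.s₁).exists_not_mem P.s₁
  exact e ((sup_eq_left.2 h).symm.trans P.gen ▸ ht)

theorem bk : Bk q J L₁ (pCoreOf 2 L₁) (pCoreOf 2 L₂) := by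
  have r := P.m₁.r1 P.f P.s₁
  have hc : Nat.card (pCoreOf 2 L₂) = Nat.card (pCoreOf 2 L₁) := by
    rw [P.m₁.card_V P.f, P.m₂.card_V P.f]
  obtain ⟨h5, h6⟩ := r.ff P.s₁ ((isPGroup_pCoreOf L₁).to_le (H52.Vv_le_Q L₁)) (H52.zc_ab _)
    (H52.n_Vv L₁) (H52.Q_le_cent L₁) (by
      rw [H52.Vv_inf_cent P.m₁.charP P.s₁]
      intro h
      exact inf_centralizer_ne_bot P.s₁.isPGroup P.s₁.isPGroup le_normalizer
        (fun e => P.m₁.V_ne (le_bot_iff.1 (e ▸ P.V_le))) (le_bot_iff.1 (P.hD ▸ le_inf le_rfl h)))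
    P.symm.V_le P.not_le (by
      rw [P.m₁.Vv_eq, ← hc]
      exact Nat.mul_le_mul_left _ (card_le_of_le (le_inf inf_le_right (inf_le_left.trans P.m₂.ab))))
  have hv : Vtx 2 q L₁ := Vtx.of_spr h5 (fun T' hT' => by
    obtain ⟨g, hg, rfl⟩ := P.s₁.exists_cj_eq hT'
    rw [← h5.cj_fx hg, h6, H52.Vv_inf_cent P.m₁.charP P.s₁, H52.cj_zc]) P.m₁.charP P.s₁
    fun z hz => (P.m₁.ea P.f).2 z (P.Z_le hz)
  have hb : ¬ bm 2 J ≤ pCoreOf 2 L₁ := fun h => by
    obtain ⟨A, hA⟩ := H12.exists_mem_maxEA (p := 2) J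
    have h1 := (jt_le_bm J).trans h
    exact P.not_le ((H12.le_thompsonSubgroupOf (H12.mem_maxEA_of_card_le hA P.symm.V_le (P.m₂.ea P.f)
      (hc ▸ card_le_of_le ((H12.le_thompsonSubgroupOf hA).trans h1)))).trans h1)
  have hr := P.m₁.res_eq P.f
  have h1 : J ⊓ cen (pCoreOf 2 L₁) ≤ pCoreOf 2 L₁ := (inf_le_inf_right _ P.s₁.le).trans P.m₁.cenV
  refine ⟨L₁, pCoreOf 2 L₂, ⟨hv, P.s₁, hr.symm ▸ P.m₁.blk P.f P.s₁ hb, P.m₂.ea P.f,
    (sup_comm _ _).trans P.gen, ?_, ?_, ?_, fun _ => ?_, ?_⟩, hr.symm, P.m₁.Vv_eq.symm,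
    (sup_eq_left.2 P.symm.Z_le).symm⟩
  · rw [show Cv 2 L₁ = Vv 2 L₁ ⊓ cen L₁ from rfl, P.m₁.Vv_eq, P.m₁.fix]
    refine le_trans (inf_le_inf_left _ ?_) P.m₁.cenV
    exact cen_symm (commutator_eq_bot_iff_le_centralizer.1 (le_bot_iff.1 (le_stab_iff.1 le_rfl).2))
  · rw [hr, P.m₁.Vv_eq]
    exact h1.trans le_sup_left
  · rw [hr]
    exact (commutator_mono le_rfl P.symm.V_le).trans ((r.comm J P.s₁).trans
      (P.m₁.ab.trans (centralizer_anti h1)))
  · rw [P.m₁.Vv_eq]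
    exact P.gen.ge.trans (sup_le_sup_left (le_inf P.symm.V_le P.m₂.ab) _)
  · rw [hr, commutator_eq_bot_iff_le_centralizer.2 P.m₁.ab]
    exact bot_le

theorem tri : Tri q J (pCoreOf 2 L₁) (pCoreOf 2 L₂) ⊥ := P.D_eq ▸ P.bk.tri

end Pr

end H57.L3
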