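import Cfsg.Agent.H57.L3A
import Cfsg.Agent.H99.SPE2

/-! Two groups `V : SL₂(q)` over a common Sylow subgroup: self-centralizing cores, `Uno`, `F*(G)`. -/

set_option autoImplicit false

namespace H57.L3

open Subgroup Cfsg H98 H96 H96.CG H98.H96.CG MatrixGroups
open H52 (zc)
open scoped commutatorElement

universe u

variable {G : Type u} [Group G] [Finite G]

/-- local characteristic two -/
def Loc (G : Type u) [Group G] : Prop := ∀ D : Subgroup G, IsPGroup 2 D → D ≠ ⊥ → CharP 2 (nor D)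

theorem Loc.cen (h : Loc G) {x : G} (h1 : x * x = 1) (h2 : x ≠ 1) : CharP 2 (cen1 x) :=
  nor_zpowers h1 ▸ h _ (two_zpowers h1) (mt zpowers_eq_bot.1 h2)

theorem Loc.sub (h : Loc G) (K : Subgroup G) [K.Normal] : Loc K := fun D hD h0 => by
  refine CharP.of_map_injective K.subtype_injective ?_
  have h1 := h (D.map K.subtype) (hD.map _) (mt (map_eq_bot_iff_of_injective _ K.subtype_injective).1 h0)
  have e : (nor D).map K.subtype = nor (D.map K.subtype) ⊓ K := by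
    have := subgroupOf_normalizer_eq (map_subtype_le D)
    rw [subgroupOf, subgroupOf, comap_map_eq_self_of_injective K.subtype_injective] at this
    rw [nor, ← this, ← subgroupOf, subgroupOf_map_subtype]
  rw [e]
  exact h1.normal inf_le_left (le_normalizer_inf le_normalizer (le_top.trans (normalizer_eq_top K).ge))

theorem Loc.odd (h : Loc G) {V : Subgroup G} (hV : IsElementaryAbelian 2 V) (hc : 2 < Nat.card V) :
    pPrimeCore 2 G = ⊥ := by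
  have := hV.1
  have hn : ∀ X : Subgroup G, X ≤ nor (pPrimeCore 2 G) := fun _ => le_top.trans (normalizer_eq_top _).ge
  have ho := H2.coprime_card_pPrimeCore 2 G
  refine le_bot_iff.1 (H1.le_of_noncyclic_centralizer_le (H99.not_isCyclic_of_exp hV.2 hc) (hn V) ?_ ⊥
    fun a ha h1 => le_bot_iff.2 (by_contra fun h0 => ?_))
  · obtain ⟨n, e⟩ := (H12.ea_isPGroup hV).exists_card_eq
    exact e ▸ ho.symm.pow_left n
  · refine ((h.cen (ea_sq hV ha) h1).normal inf_le_right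
      (le_normalizer_inf (hn _) le_normalizer)).pCoreOf_ne_bot h0 ?_
    obtain ⟨n, e⟩ := (isPGroup_pCoreOf (p := 2) (pPrimeCore 2 G ⊓ cen1 a)).exists_card_eq
    refine card_eq_one.1 ((Nat.coprime_self _).1 ?_)
    nth_rw 2 [e]
    exact (ho.coprime_dvd_left (card_dvd_of_le ((pCoreOf_le _).trans inf_le_left))).pow_right n

theorem Loc.fstar (h : Loc G) (hO : pPrimeCore 2 G = ⊥) (hO2 : pCore 2 G = ⊥) [Nontrivial G] :
    IsSimpleGroup (generalizedFittingSubgroup G) ∧ ¬ IsMulCommutative (generalizedFittingSubgroup G) := by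
  have hF : generalizedFittingSubgroup G = layer G := by
    rw [H14.fstar_eq_of_pPrimeCore_eq_bot hO, hO2, sup_bot_eq]
  obtain ⟨L, hL⟩ : ∃ L : Subgroup G, IsComponent L := by
    by_contra hn
    push Not at hn
    exact H14.fstar_ne_bot (hF.trans (H14.layer_eq_bot_iff.2 hn))
  have hd : 2 ∣ Nat.card L := by_contra fun hn => H14.comp_ne_bot hL (le_bot_iff.1 (hO ▸
    H2.le_pPrimeCore_of_isSubnormal (H14.comp_subnormal hL) (Nat.prime_two.coprime_iff_not_dvd.2 hn).symm))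
  obtain ⟨t, ht⟩ := exists_prime_orderOf_dvd_card' 2 hd
  rw [← orderOf_coe] at ht
  have hu : ∀ K : Subgroup G, IsComponent K → K = L := fun K hK => by_contra fun hne => by
    have hs := subN_top_iff.2 (H14.comp_subnormal hK)
    have h1 : K ≤ cen1 (t : G) := fun k hk => mem_centralizer_singleton_iff.2
      (H14.commutator_eq_bot_iff_comm.1 (H14.comp_commute_of_ne hK hL hne) k hk t t.2)
    have h2 := hs.inf_of_le (le_top : cen1 (t : G) ≤ ⊤)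
    rw [inf_of_le_left h1] at h2
    refine ((h.cen (by rw [← sq, ← ht, pow_orderOf_eq_one]) fun e => by
      rw [e, orderOf_one] at ht; omega).subN h2).pCoreOf_ne_bot (H14.comp_ne_bot hK) ?_
    exact le_bot_iff.1 (hs.pCoreOf_le.trans (pCoreOf_top.trans hO2).le)
  have hEL : layer G = L := le_antisymm (H14.layer_le fun K hK => (hu K hK).le) (H14.comp_le_layer hL)
  rw [hF, hEL]
  refine ⟨H14.simple_of_quasi (H14.comp_quasi hL) ?_, H14.quasi_not_comm (H14.comp_quasi hL)⟩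
  have h1 : L ⊓ centralizer (L : Set G) ≤ pCore 2 G := by
    refine H14.le_pCore_of_commutator hO ?_ (by rw [hO2, commutator_bot_right])
    rw [hEL, H14.commutator_eq_bot_iff_comm]
    exact fun a ha b hb => (ha.2 b hb).symm
  rw [hO2, ← map_subtype_center, le_bot_iff, map_eq_bot_iff_of_injective _ L.subtype_injective] at h1
  exact h1

namespace NM

variable {L D J : Subgroup G} {F : Type} [Field F] (m : NM L F) {c : G}
include m

theorem le_cen (hD : IsPGroup 2 D) (h : D ≤ nor (pCoreOf 2 L)) (hn : L ≤ nor D) :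
    D ≤ cen (pCoreOf 2 L) :=
  cen_symm (le_trans ((m.irr inf_le_left (le_normalizer_inf (self_le_normalizer_pCoreOf L)
    (le_normalizer_centralizer hn))).resolve_left
      (inf_centralizer_ne_bot (isPGroup_pCoreOf L) hD h m.V_ne)).ge inf_le_right)

theorem eq_V (hc : cen (pCoreOf 2 L) ≤ pCoreOf 2 L) (hD : IsPGroup 2 D) (h0 : D ≠ ⊥) (hn : L ≤ nor D) :
    D = pCoreOf 2 L := by
  have nV := self_le_normalizer_pCoreOf (p := 2) L
  have h1 : pCoreOf 2 L ≤ D := le_trans ((m.irr (inf_le_right.trans hc) (le_normalizer_inf hn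
    (le_normalizer_centralizer nV))).resolve_left (inf_centralizer_ne_bot hD (isPGroup_pCoreOf L)
      ((pCoreOf_le L).trans hn) h0)).ge inf_le_left
  by_contra e
  exact (lt_inf_normalizer hD (lt_of_le_of_ne h1 (Ne.symm e))).not_ge ((m.le_cen hD.to_inf_left
    inf_le_right (le_normalizer_inf hn (le_normalizer_normalizer nV))).trans hc)

theorem gas (hJ : IsSyl 2 J L) (ht : T2 c) (h1 : c ∈ cen J) (h2 : ⁅zpowers c, L⁆ ≤ pCoreOf 2 L) :
    ∃ a ∈ pCoreOf 2 L ⊔ zpowers c, a ∈ cen L ∧ ∃ v ∈ pCoreOf 2 L, c = a * v := by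
  have h3 : zpowers c ≤ cen (pCoreOf 2 L) := zpowers_le.2 (centralizer_anti hJ.pCoreOf_le h1)
  have h4 : L ≤ nor (pCoreOf 2 L ⊔ zpowers c) := le_normalizer_of_commutator_le
    (commutator_sup_left_le le_normalizer (le_normalizer_of_le_centralizer h3) m.VL.le h2 |>.trans
      le_sup_left) le_rfl
  have h5 := mem_centralizer_sup_of_index (two_sup (isPGroup_pCoreOf L) ht.isPGroup
    (le_normalizer_of_le_centralizer h3)) (by
      rw [centralizer_sup]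
      exact sup_le (le_inf m.ab (cen_symm h3)) (le_inf h3 (le_centralizer _))) h4
    hJ.not_dvd_relIndex (mem_sup_right (mem_zpowers c)) h1 (W := pCoreOf 2 L) fun l hl =>
      (commutator_comm (zpowers c) L ▸ h2) (commutator_mem_commutator hl (mem_zpowers c))
  obtain ⟨a, ha, v, hv, e⟩ := (mem_sup_left_norm (inf_le_right.trans (le_normalizer_of_le_centralizer
    (centralizer_anti (pCoreOf_le L))))).1 h5
  exact ⟨a, ha.1, ha.2, v, hv, e⟩

end NM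

namespace Pr

variable {q : ℕ} {J L₁ L₂ D X E T : Subgroup G} {F : Type} [Field F] [Fintype F] (P : Pr q J L₁ L₂ F)
  {e g : G}
include P

theorem swap (n₁ : nor (pCoreOf 2 L₁) ≤ nor L₁) (n₂ : nor (pCoreOf 2 L₂) ≤ nor L₂) (ht : T2 e)
    (h : e ∈ cen L₁) : e ∈ cen L₂ := by
  have hJ : e ∈ cen J := centralizer_anti P.s₁.le h
  have h1 : zpowers e ≤ cen (pCoreOf 2 L₂) := zpowers_le.2 (centralizer_anti P.symm.V_le hJ)
  obtain ⟨a, -, ha, v, hv, rfl⟩ := P.m₂.gas P.s₂ ht hJ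
    (P.symm.bk.comm_V ((le_normalizer_of_le_centralizer h1).trans n₂) h1)
  have hz : v ∈ zc J := ⟨P.symm.V_le hv, ((cen J).mul_mem_cancel_left (centralizer_anti P.s₂.le ha)).1 hJ⟩
  obtain ⟨F', _, _, hF, ⟨c⟩⟩ := jobCo G q J L₂ _ _ P.symm.bk P.f.lt
  obtain ⟨l, h0, h1⟩ := exists_ne_zero_one (F := F') (hF ▸ P.f.lt)
  obtain ⟨h, ⟨h2, h3⟩, w⟩ := c.scal_z h0
  have h4 := cm_mem (Co.nZ h3) hz
  have h5 : ⁅h, a * v⁆ = ⁅h, v⁆ := comm_left_mul_of (com ha h2) (com ha (P.s₂.le h4.1)).symm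
  have h6 : ⁅h, v⁆ ∈ zc J ⊓ cen L₁ := ⟨h4, h5 ▸ cm_mem (normalizer_le_normalizer_centralizer _
    (n₁ (P.symm.bk.nA' (le_normalizer h2) h3))) ‹_›⟩
  rw [P.hD, mem_bot] at h6
  exact mul_mem ha (w.free (Co.nZ h3) h1 hz (h6 ▸ one_mem _)).2

theorem key (n₁ : nor (pCoreOf 2 L₁) ≤ nor L₁) (n₂ : nor (pCoreOf 2 L₂) ≤ nor L₂)
    (hc : CharP 2 (nor L₁)) (h : pCoreOf 2 (nor L₁) ⊓ cen L₁ = ⊥) :
    cen (pCoreOf 2 L₁) ≤ pCoreOf 2 L₁ := by
  have nV := normalizer_le_normalizer_pCoreOf (p := 2) L₁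
  have nQ : L₁ ≤ nor (pCoreOf 2 (nor L₁)) := le_normalizer_pCoreOf_of_le le_normalizer
  have hQ := isPGroup_pCoreOf (p := 2) (nor L₁)
  have h1 : pCoreOf 2 L₁ ≤ pCoreOf 2 (nor L₁) :=
    le_pCoreOf (isPGroup_pCoreOf _) ((pCoreOf_le _).trans le_normalizer) nV
  have h2 := P.m₁.le_cen hQ ((pCoreOf_le _).trans nV) nQ
  have h3 : ⁅pCoreOf 2 (nor L₁), L₁⁆ ≤ pCoreOf 2 L₁ := (le_inf (commutator_le_left' nQ)
    (commutator_le_right' (pCoreOf_le _))).trans (pCoreOf_inf_le_of_le le_normalizer)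
  have h4 : pCoreOf 2 (nor L₁) ≤ nor J := le_normalizer_of_commutator_le
    (((commutator_comm _ _).le.trans (commutator_mono le_rfl P.s₁.le)).trans (h3.trans P.V_le)) le_rfl
  have h5 : pCoreOf 2 (nor L₁) ≤ pCoreOf 2 L₁ := fun c hc => by
    have h6 := P.tri.nA' ⟨h4 hc, nV (pCoreOf_le _ hc)⟩
    obtain ⟨y, hy, h7, -⟩ := Bk.act_like P.symm.bk P.f.lt (n₂ h6) (h4 hc) (T2.of_mem hQ hc) fun x hx =>
      P.tri.inf_eq ▸ ⟨h3 (commutator_mem_commutator hc (P.s₁.le (P.symm.V_le hx))), cm_mem h6 hx⟩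
    have h8 := mul_mem (inv_mem (h1 hy)) hc
    obtain ⟨a, ha, ha', v, hv, e⟩ := P.m₁.gas P.s₁ (T2.of_mem hQ h8)
      (by rw [← P.gen, cen, centralizer_sup]; exact ⟨h2 h8, h7⟩)
      ((commutator_mono (zpowers_le.2 h8) le_rfl).trans h3)
    have h9 : a ∈ pCoreOf 2 (nor L₁) ⊓ cen L₁ := ⟨sup_le h1 (zpowers_le.2 h8) ha, ha'⟩
    rw [h, mem_bot] at h9
    rw [h9, one_mul, inv_mul_eq_iff_eq_mul] at e
    exact e ▸ mul_mem hy hv
  exact (le_inf ((le_normalizer_of_le_centralizer le_rfl).trans n₁) le_rfl).trans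
    ((hc.inf_centralizer_le h5).trans h5)

theorem cen_both (n₁ : nor (pCoreOf 2 L₁) ≤ nor L₁) (n₂ : nor (pCoreOf 2 L₂) ≤ nor L₂)
    (c₁ : CharP 2 (nor L₁)) (c₂ : CharP 2 (nor L₂)) (hT : IsSyl 2 T (nor L₁))
    (hO : pCoreOf 2 (T ⊔ L₁ ⊔ L₂) = ⊥) :
    cen (pCoreOf 2 L₁) ≤ pCoreOf 2 L₁ ∧ cen (pCoreOf 2 L₂) ≤ pCoreOf 2 L₂ := by
  have hn : nor L₁ ≤ nor (pCoreOf 2 (nor L₁) ⊓ cen L₁) :=
    le_normalizer_inf (self_le_normalizer_pCoreOf _) (normalizer_le_normalizer_centralizer _)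
  have h1 := P.key n₁ n₂ c₁ (le_bot_iff.1 (hO ▸ le_pCoreOf (isPGroup_pCoreOf _).to_inf_left
    (inf_le_left.trans (hT.pCoreOf_le.trans (le_sup_left.trans le_sup_left)))
    (sup_le (sup_le (hT.le.trans hn) (le_normalizer.trans hn)) (le_normalizer_of_le_centralizer
      (cen_symm fun x hx => P.swap n₁ n₂ (T2.of_mem (isPGroup_pCoreOf _) hx.1) hx.2)))))
  refine ⟨h1, P.symm.key n₂ n₁ c₂ (le_bot_iff.1 (P.m₁.fix ▸ fun x hx => ?_))⟩
  have := P.symm.swap n₂ n₁ (T2.of_mem (isPGroup_pCoreOf _) hx.1) hx.2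
  exact ⟨h1 (centralizer_anti (pCoreOf_le _) this), this⟩

theorem o2 (c₁ : cen (pCoreOf 2 L₁) ≤ pCoreOf 2 L₁) (c₂ : cen (pCoreOf 2 L₂) ≤ pCoreOf 2 L₂) :
    pCoreOf 2 (⊤ : Subgroup G) = ⊥ := by_contra fun h => P.tri.ne
  ((P.m₁.eq_V c₁ (isPGroup_pCoreOf _) h (le_normalizer_pCoreOf_of_le le_top)).symm.trans
    (P.m₂.eq_V c₂ (isPGroup_pCoreOf _) h (le_normalizer_pCoreOf_of_le le_top)))

theorem cenJ : J ⊓ cen (pCoreOf 2 L₁) ≤ pCoreOf 2 L₁ := (inf_le_inf_right _ P.s₁.le).trans P.m₁.cenV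

theorem ea_or (hE : IsElementaryAbelian 2 E) (h : E ≤ J) : E ≤ pCoreOf 2 L₁ ∨ E ≤ pCoreOf 2 L₂ :=
  (P.tri.ea_or hE h).imp (fun e => (le_inf h e).trans P.cenJ) fun e => (le_inf h e).trans P.symm.cenJ

theorem nJ (hX : IsPGroup 2 X) (h1 : J ≤ X) (h2 : X ≤ nor L₁) : X ≤ nor J := by
  rw [← P.s₁.eq_of_le hX.to_inf_left (le_inf h1 P.s₁.le) inf_le_right]
  exact le_normalizer_inf le_normalizer h2

variable (hc : cen (pCoreOf 2 L₁) ≤ pCoreOf 2 L₁)
include hc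

theorem mem_J {F' : Type} [Field F'] (c : Co J L₁ (pCoreOf 2 L₁) (pCoreOf 2 L₂) F') (hg : g ∈ nor L₁)
    (hg' : g ∈ nor J) (ht : T2 g) (e : c.sg g = 1) : g ∈ J := by
  obtain ⟨y, hy, h, -⟩ := c.act_like P.bk P.f.lt hg hg' ht e
  exact (J.mul_mem_cancel_left (inv_mem (P.symm.V_le hy))).1 (P.V_le (hc h))

theorem ea_le (hE : IsElementaryAbelian 2 E) (h1 : E ≤ nor L₁) (h2 : E ≤ nor J)
    (h3 : q * q ≤ Nat.card E) : E ≤ J := by
  obtain ⟨F', _, _, hF, ⟨c⟩⟩ := jobCo G q J L₁ _ _ P.bk P.f.lt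
  by_contra h
  obtain ⟨φ, hφ, h⟩ := SetLike.not_le_iff_exists.1 h
  have hs : ∀ x ∈ E, x ∉ J → c.sg x ≠ 1 := fun x hx e e' =>
    e (P.mem_J hc c (h1 hx) (h2 hx) (T2.of_sq (ea_sq hE hx)) e')
  have h4 := card_le_two_mul (H := J) (K := E) fun x hx y hy e e' =>
    P.mem_J hc c (h1 (mul_mem hx hy)) (h2 (mul_mem hx hy)) (T2.of_sq (ea_sq hE (mul_mem hx hy)))
      (c.sg_mul_of_sq (h1 hx) (h2 hx) (h1 hy) (h2 hy) (by rw [ea_sq hE hx, c.sg_one])
        (by rw [ea_sq hE hy, c.sg_one]) (hs x hx e) (hs y hy e'))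
  have h0 : ∀ (Y : Subgroup G), ∀ x ∈ E ⊓ J, ⁅φ, x⁆ ∈ Y := fun Y x hx => by
    rw [commutatorElement_eq_one_iff_commute.2 (ea_com hE hφ hx.1)]; exact one_mem _
  have h5 : (zc J).relIndex (E ⊓ J) ^ 2 ≤ q := by
    rw [← hF]
    rcases P.ea_or (H12.ea_mono hE inf_le_left) inf_le_right with e | e
    · exact c.fix_a P.bk (h1 hφ) (h2 hφ) (hs φ hφ h) e (h0 _)
    · exact c.fix_b P.bk (h1 hφ) (h2 hφ) (hs φ hφ h) e (h0 _)
  have h6 := c.fix_z (h1 hφ) (h2 hφ) (hs φ hφ h) (X := zc J ⊓ (E ⊓ J)) inf_le_left fun x hx => h0 _ x hx.2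
  rw [P.hD, relIndex_bot_left, hF] at h6
  have h7 := H12.card_inf_mul_relIndex (zc J) (E ⊓ J)
  have h8 : Nat.card ↥(E ⊓ J) ^ 2 ≤ q ^ 2 := by
    rw [← h7, mul_pow, sq q]; exact Nat.mul_le_mul h6 h5
  have h9 := (Nat.pow_le_pow_iff_left two_ne_zero).1 h8
  have := P.f.lt
  nlinarith

theorem bmP (hX : IsPGroup 2 X) (h1 : J ≤ X) (h2 : X ≤ nor L₁) : bm 2 X = J := by
  have h3 := P.nJ hX h1 h2
  have c1 := P.m₁.card_V P.f
  have c2 := P.m₂.card_V P.f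
  have h4 : ∀ E ∈ H12.maxEA 2 X, E ≤ J := fun E hE => P.ea_le hc hE.2.1 (hE.1.trans h2) (hE.1.trans h3)
    (c1 ▸ hE.2.2 _ (P.V_le.trans h1) (P.m₁.ea P.f))
  obtain ⟨E, hE⟩ := H12.exists_mem_maxEA (p := 2) X
  have h5 : Nat.card E ≤ q * q := by
    rcases P.ea_or hE.2.1 (h4 E hE) with e | e
    exacts [c1 ▸ card_le_of_le e, c2 ▸ card_le_of_le e]
  have h6 : jt 2 X = J := le_antisymm (H12.thompsonSubgroupOf_le_iff.2 h4) (P.gen.ge.trans (sup_le
    (H12.le_thompsonSubgroupOf (H12.mem_maxEA_of_card_le hE (P.V_le.trans h1) (P.m₁.ea P.f) (c1 ▸ h5)))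
    (H12.le_thompsonSubgroupOf (H12.mem_maxEA_of_card_le hE (P.symm.V_le.trans h1) (P.m₂.ea P.f)
      (c2 ▸ h5)))))
  refine le_antisymm (fun g hg => ?_) (h6 ▸ jt_le_bm X)
  obtain ⟨F', _, _, -, ⟨c⟩⟩ := jobCo G q J L₁ _ _ P.bk P.f.lt
  rw [bm_eq, h6] at hg
  exact P.mem_J hc c (h2 hg.1) (h3 hg.1) (T2.of_mem hX hg.1) (c.sg_of_cen (h2 hg.1) (h3 hg.1)
    (centralizer_anti (le_oz P.tri.eZ inf_le_left inf_le_right) hg.2))

theorem uno (hn : nor (pCoreOf 2 L₁) ≤ nor L₁) : Uno q J L₁ (pCoreOf 2 L₁) (pCoreOf 2 L₂) := by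
  refine ⟨P.bk, P.gen, fun D hD h0 _ h => ?_, fun _ => P.bmP hc⟩
  obtain rfl := P.m₁.eq_V hc hD h0 h
  obtain ⟨T, hT, hJ⟩ := exists_isSyl_le P.s₁.isPGroup (P.s₁.le.trans h)
  refine ⟨⟨SubN.of_normal h hn, T, hT, block_of_bm P.bk.blk ((P.bmP hc P.s₁.isPGroup le_rfl
    (P.s₁.le.trans le_normalizer)).trans (P.bmP hc hT.isPGroup hJ (hT.le.trans hn)).symm) fun e => ?_⟩, hn⟩
  exact oz_ne_bot hT.isPGroup (fun e' => h0 (le_bot_iff.1 (e' ▸ P.V_le.trans hJ))) (le_bot_iff.1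
    (P.m₁.fix ▸ le_inf ((oz_le_centralizer T).trans ((centralizer_anti (P.V_le.trans hJ)).trans hc))
      (cen_symm e)))

end Pr

end H57.L3
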