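import Cfsg.Agent.H57.L3B
import Cfsg.Agent.H9.SecE8c
import Cfsg.Agent.H9.Sec1235
import Cfsg.Agent.H10.C2Hub

/-! Two groups `V : SL₂(q)` over a common Sylow subgroup: the cases `q = 4` and `q > 4`. -/

set_option autoImplicit false

namespace H57.L3

open Subgroup Cfsg H98 H96 H96.CG H98.H96.CG MatrixGroups
open H52 (zc)
open scoped commutatorElement

universe u

variable {G : Type u} [Group G] [Finite G]

theorem exists_inv {A : Subgroup G} {φ : G} (hA : IsElementaryAbelian 2 A) (h16 : Nat.card A = 16)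
    (hn : φ ∈ nor A) (h2 : φ * φ ∈ A) (h4 : Nat.card ↥(A ⊓ cen1 φ) ≤ 4) :
    Nat.card ↥(A ⊓ cen1 φ) = 4 ∧ ∃ a ∈ A, a * φ * (a * φ) = 1 := by
  have hM : ∀ a ∈ A, ∀ b ∈ A, a * b = b * a := fun a ha b hb => (ea_com hA ha hb).eq
  have hn' : ∀ m ∈ A, φ * m * φ⁻¹ ∈ A := fun m hm => conj_mem_of_mem_normalizer hn hm
  let f := H9.Sec.commHom A hM φ hn'
  have hr : f.range ≤ A ⊓ cen1 φ := by
    rintro _ ⟨m, rfl⟩
    rw [H9.Sec.commHom_apply, ea_inv hA m.2]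
    refine ⟨mul_mem m.2 (hn' _ m.2), mem_cen1.2 ?_⟩
    have e1 := hM _ h2 _ m.2
    have e2 := hM _ m.2 _ (hn' _ m.2)
    calc m * (φ * m * φ⁻¹) * φ = φ * m * φ⁻¹ * (φ * φ * m) * φ⁻¹ := by rw [e1, e2]; group
      _ = φ * (m * (φ * m * φ⁻¹)) := by group
  have h1 := f.ker.card_mul_index
  rw [index_ker, H9.Sec.card_ker_commHom, h16] at h1
  have h3 := card_le_of_le hr
  have h5 : Nat.card ↥(A ⊓ cen1 φ) = 4 := by nlinarith
  have h6 : f.range = A ⊓ cen1 φ := eq_of_le_of_card_ge hr (by rw [h5] at h1 ⊢; omega)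
  obtain ⟨m, hm⟩ : φ * φ ∈ f.range := h6 ▸ ⟨h2, mem_cen1.2 ((Commute.refl φ).mul_left (Commute.refl φ))⟩
  rw [H9.Sec.commHom_apply, ea_inv hA m.2] at hm
  refine ⟨h5, m, m.2, ?_⟩
  rw [← ea_sq hA h2]
  nth_rw 1 [← hm]
  group

theorem Fq.four_le {F : Type} [Field F] [Fintype F] {q : ℕ} (f : Fq F q) : 4 ≤ q :=
  f.card ▸ four_le_card f.two (f.card ▸ f.lt)

namespace Pr

variable {q : ℕ} {J L₁ L₂ S : Subgroup G} {F : Type} [Field F] [Fintype F]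

theorem sec4 (P : Pr 4 J L₁ L₂ F) (hc : cen (pCoreOf 2 L₁) ≤ pCoreOf 2 L₁)
    (hn : nor (pCoreOf 2 L₁) ≤ nor L₁) (hS : IsPGroup 2 S) (h1 : J ≤ S) (h2 : S ≤ nor J) :
    SectionalPRankLE 2 4 S := by
  have u := P.uno hc hn
  have hA := P.m₁.ea P.f
  have h16 : Nat.card (pCoreOf 2 L₁) = 16 := P.m₁.card_V P.f
  have hAS := P.V_le.trans h1
  obtain ⟨F', _, _, hF, ⟨c⟩⟩ := jobCo G 4 J L₁ _ _ P.bk P.f.lt
  have cs : ∀ X ≤ S, Nat.card (X.subgroupOf S) = Nat.card X := fun X h =>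
    Nat.card_congr (subgroupOfEquivOfLe h).toEquiv
  by_cases h : ∀ b ∈ pCoreOf 2 L₁, b ∉ zc J → ∀ g ∈ S, Commute g b → g ∈ pCoreOf 2 L₁
  · obtain ⟨f, hf, h3, h4⟩ := P.bk.exists_opp
    have h5 := (P.bk.opp (h4 ▸ le_sup_right) h3).1
    have h6 : cj f (zc J) ≤ pCoreOf 2 L₁ := cj_le_of_le P.Z_le (P.bk.RA hf)
    refine H9.Sec.C16.sec (T := (pCoreOf 2 L₁).subgroupOf S) (B := (cj f (zc J)).subgroupOf S)
      ⟨hS, fun a ha b hb => Subtype.ext (ea_com hA ha hb).eq, fun a ha => Subtype.ext (ea_sq hA ha),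
        (cs _ hAS).trans h16, comap_mono h6, ?_, fun b hb e g hg => h b (h6 hb) (fun e' => e ?_) g g.2
          (congrArg Subtype.val (mem_centralizer_singleton_iff.1 hg))⟩
    · rw [cs _ (h6.trans hAS), card_cj, ← P.tri.idxD, relIndex_bot_left]
    · have : (b : G) ∈ zc J ⊓ cj f (zc J) := ⟨e', hb⟩
      rwa [h5, P.hD, mem_bot, OneMemClass.coe_eq_one] at this
  push Not at h
  obtain ⟨b, hb, hbZ, φ, hφ, e, hφA⟩ := h
  have nA : ∀ g ∈ S, Commute g b → g ∈ nor (pCoreOf 2 L₁) := fun g hg e => Uno.nA_of_comm u (h2 hg) hb hbZ e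
  have hJ : ∀ g ∈ S, Commute g b → c.sg g = 1 → g ∈ pCoreOf 2 L₁ := fun g hg e e' =>
    u.cent hb hbZ (P.mem_J hc c (hn (nA g hg e)) (h2 hg) (T2.of_mem hS hg) e') e.symm
  have sq : ∀ g ∈ S, Commute g b → c.sg (g * g) = 1 := fun g hg e => by
    rw [c.sg_mul (hn (nA g hg e)) (h2 hg) (hn (nA g hg e)) (h2 hg), aut_sq_four hF]
  have key : ∀ g ∈ S, Commute g b → g ∉ pCoreOf 2 L₁ → Nat.card ↥(pCoreOf 2 L₁ ⊓ cen1 g) = 4 ∧
      ∃ a ∈ pCoreOf 2 L₁, a * g * (a * g) = 1 := fun g hg e e' => by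
    refine exists_inv hA h16 (nA g hg e) (hJ _ (mul_mem hg hg) (e.mul_left e) (sq g hg e)) ?_
    have h0 : ∀ (Y : Subgroup G), ∀ x ∈ pCoreOf 2 L₁ ⊓ cen1 g, ⁅g, x⁆ ∈ Y := fun Y x hx => by
      rw [commutatorElement_eq_one_iff_commute.2 (mem_cen1.1 hx.2).symm]; exact one_mem _
    have h5 := c.fix_a P.bk (hn (nA g hg e)) (h2 hg) (mt (hJ g hg e) e') inf_le_left (h0 _)
    have h6 := c.fix_z (hn (nA g hg e)) (h2 hg) (mt (hJ g hg e) e')
      (X := zc J ⊓ (pCoreOf 2 L₁ ⊓ cen1 g)) inf_le_left fun x hx => h0 _ x hx.2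
    rw [P.hD, relIndex_bot_left] at h6
    rw [hF] at h5 h6
    rw [← H12.card_inf_mul_relIndex (zc J)]
    exact Nat.mul_le_mul ((Nat.pow_le_pow_iff_left two_ne_zero).1 (h6.trans_eq (by norm_num : 4 = 2 ^ 2)))
      ((Nat.pow_le_pow_iff_left two_ne_zero).1 (h5.trans_eq (by norm_num : 4 = 2 ^ 2)))
  obtain ⟨-, a, ha, hs⟩ := key φ hφ e hφA
  have s1 : a * φ ∈ S := mul_mem (hAS ha) hφ
  have s2 : Commute (a * φ) b := (ea_com hA ha hb).mul_left e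
  have s3 : a * φ ∉ pCoreOf 2 L₁ := mt ((pCoreOf 2 L₁).mul_mem_cancel_left ha).1 hφA
  generalize a * φ = s at hs s1 s2 s3
  have h4 := (key s s1 s2 s3).1
  have hz : pCoreOf 2 L₁ ⊓ cen1 s ≤ cen (zpowers s) := inf_le_right.trans (cen1_eq s).le
  have hE := H12.ea_sup (H12.ea_mono hA inf_le_left) (H12.ea_zpowers (by rw [pow_two, hs])) hz
  have hES : pCoreOf 2 L₁ ⊓ cen1 s ⊔ zpowers s ≤ S := sup_le (inf_le_left.trans hAS) (zpowers_le.2 s1)
  refine H9.Sec.SA.sec (A := (pCoreOf 2 L₁ ⊓ cen1 s ⊔ zpowers s).subgroupOf S)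
    ⟨hS, fun a ha => Subtype.ext (ea_sq hE ha), ?_, fun g hg => ?_⟩
  · have h5 := H12.card_sup_mul_card_inf (le_normalizer_of_le_centralizer hz)
    have h6 : Nat.card (zpowers s) = 2 := by
      rw [Nat.card_zpowers, orderOf_eq_prime (x := s) (p := 2) (by rw [pow_two, hs]) fun e => s3 (e ▸ one_mem _)]
    have h7 := two_mul_card_le (inf_lt_right.2 fun h : zpowers s ≤ pCoreOf 2 L₁ ⊓ cen1 s =>
      s3 (h (mem_zpowers s)).1)
    have h8 := Nat.card_pos (α := ↥(pCoreOf 2 L₁ ⊓ cen1 s ⊓ zpowers s))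
    rw [h4, h6, show Nat.card ↥(pCoreOf 2 L₁ ⊓ cen1 s ⊓ zpowers s) = 1 by omega] at h5
    rw [cs _ hES]
    omega
  · have e1 : Commute (g : G) b := congrArg Subtype.val
      (hg ⟨b, hAS hb⟩ (mem_sup_left (⟨hb, mem_cen1.2 s2.symm⟩ : b ∈ pCoreOf 2 L₁ ⊓ cen1 s)))
    have e2 : Commute (g : G) s := congrArg Subtype.val (hg ⟨s, s1⟩ (mem_sup_right (mem_zpowers s)))
    by_cases hgA : (g : G) ∈ pCoreOf 2 L₁
    · exact mem_sup_left (⟨hgA, mem_cen1.2 e2⟩ : (g : G) ∈ pCoreOf 2 L₁ ⊓ cen1 s)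
    have h5 := hJ _ (mul_mem g.2 s1) (e1.mul_left s2) (c.sg_mul_of_sq (hn (nA g g.2 e1)) (h2 g.2)
      (hn (nA s s1 s2)) (h2 s1) (sq g g.2 e1) (sq s s1 s2) (mt (hJ g g.2 e1) hgA) (mt (hJ s s1 s2) s3))
    exact ((pCoreOf 2 L₁ ⊓ cen1 s ⊔ zpowers s).mul_mem_cancel_right (mem_sup_right (mem_zpowers s))).1
      (mem_sup_left ⟨h5, mem_cen1.2 (e2.mul_left (Commute.refl s))⟩)

variable (P : Pr q J L₁ L₂ F)
include P

theorem mv : ¬ nor (pCoreOf 2 L₁) ≤ nor (pCoreOf 2 L₁ ⊓ pCoreOf 2 L₂) := fun h => by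
  rcases P.m₁.irr inf_le_left ((self_le_normalizer_pCoreOf _).trans h) with e | e
  · have := P.tri.idxD
    rw [← P.tri.inf_eq, e, relIndex_bot_left, card_bot] at this
    exact P.tri.one_lt.ne this
  · exact P.symm.not_le (inf_eq_left.1 e)

theorem cc_eq : H10.C2.cc (pCoreOf 2 L₁) = ⊥ :=
  (P.m₁.irr (H10.C2.cc_le _) ((self_le_normalizer_pCoreOf _).trans (H10.C2.nor_le_nor_cc _))).resolve_right
    fun e => P.symm.tri.not_le_cen (le_trans (H10.C2.le_cen_cc (isPGroup_pCoreOf _)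
      (P.symm.V_le.trans P.tri.nA)) (centralizer_anti e.ge))

theorem isL3 [IsSimpleGroup G] (hJ : IsSyl 2 J ⊤) : H10.C2.IsL3 G q := by
  have e : (pCoreOf 2 L₁).relIndex (pCoreOf 2 L₂) = q := by
    rw [← inf_relIndex_right, P.tri.inf_eq, P.tri.idx']
  have hi : ∀ x ∈ pCoreOf 2 L₁ ⊔ pCoreOf 2 L₂, x ^ 2 = 1 → x ∈ pCoreOf 2 L₁ ∨ x ∈ pCoreOf 2 L₂ :=
    fun x hx h => by
      rw [P.gen] at hx
      exact (P.tri.invol hx (by rw [← pow_two, h])).imp (fun e => P.cenJ ⟨hx, e⟩)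
        fun e => P.symm.cenJ ⟨hx, e⟩
  rcases H10.C2.k1 G _ _ ⟨⟨P.m₁.ea P.f, P.m₂.ea P.f, P.gen ▸ hJ, P.symm.V_le.trans P.tri.nA,
    P.V_le.trans P.symm.tri.nA, hi⟩, P.mv, inf_comm (pCoreOf 2 L₂) _ ▸ P.symm.mv⟩
    (e ▸ P.f.four_le) with h | h
  · exact e ▸ h.2
  · have := P.tri.idxD
    rw [← P.tri.inf_eq, ← h.1.2, P.cc_eq, P.symm.cc_eq, sup_idem, relIndex_bot_left, card_bot] at this
    exact absurd this P.tri.one_lt.ne

theorem V_le_normal (hc : cen (pCoreOf 2 L₁) ≤ pCoreOf 2 L₁) (hO : pPrimeCore 2 G = ⊥) {K : Subgroup G}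
    [K.Normal] (hK : K ≠ ⊥) : pCoreOf 2 L₁ ≤ K := by
  have hn : ∀ X : Subgroup G, X ≤ nor K := fun _ => le_top.trans (normalizer_eq_top _).ge
  obtain ⟨S, hS, h⟩ := exists_isSyl_le (isPGroup_pCoreOf (p := 2) L₁) le_top
  have h1 := hS.inf_of_le_normalizer le_top (hn S)
  have h2 : S ⊓ K ≠ ⊥ := fun e => hK (le_bot_iff.1 (hO ▸ H2.le_pPrimeCore_of_isSubnormal
    (Normal.isSubnormal inferInstance) (Nat.prime_two.coprime_iff_not_dvd.2 (h1.eq_bot_iff.1 e)).symm))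
  refine inf_eq_left.1 ((P.m₁.irr inf_le_left (le_normalizer_inf (self_le_normalizer_pCoreOf _)
    (hn _))).resolve_left fun e => inf_centralizer_ne_bot h1.isPGroup (isPGroup_pCoreOf L₁)
      (le_normalizer_inf (h.trans le_normalizer) (hn _)) h2 (le_bot_iff.1 (e ▸ ?_)))
  exact le_inf (inf_le_right.trans hc) (inf_le_left.trans inf_le_right)

theorem le_normal {K : Subgroup G} [K.Normal] (h : J ≤ K) : L₁ ≤ K :=
  inf_eq_left.1 ((P.m₁.normal P.f inf_le_left (le_normalizer_inf le_normalizer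
    (le_top.trans (normalizer_eq_top _).ge))).resolve_left fun e =>
      P.not_le ((le_inf (P.symm.V_le.trans P.s₁.le) (P.symm.V_le.trans h)).trans e))

theorem main (hl : Loc G) (n₁ : nor (pCoreOf 2 L₁) ≤ nor L₁) (n₂ : nor (pCoreOf 2 L₂) ≤ nor L₂)
    (c₁ : cen (pCoreOf 2 L₁) ≤ pCoreOf 2 L₁) (c₂ : cen (pCoreOf 2 L₂) ≤ pCoreOf 2 L₂) :
    SectionalPRankLE 2 4 G ∨ H10.C2.IsL3 (generalizedFittingSubgroup G) q := by
  have hq := P.f.lt
  have hO := hl.odd (P.m₁.ea P.f) (by rw [P.m₁.card_V P.f]; nlinarith)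
  have : Nontrivial G := by
    obtain ⟨x, -, hx⟩ := (Subgroup.bot_or_exists_ne_one _).resolve_left P.m₁.V_ne
    exact ⟨x, 1, hx⟩
  obtain ⟨hs, -⟩ := hl.fstar hO (pCoreOf_top.symm.trans (P.o2 c₁ c₂))
  have hK := H14.fstar_ne_bot (G := G)
  have : (generalizedFittingSubgroup G).Normal := inferInstance
  generalize generalizedFittingSubgroup G = K at *
  have hJ : J ≤ K := P.gen.ge.trans (sup_le (P.V_le_normal c₁ hO hK) (P.symm.V_le_normal c₂ hO hK))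
  have h₁ := P.le_normal hJ
  have h₂ := P.symm.le_normal hJ
  have hc : ∀ L ≤ K, cen (pCoreOf 2 L) ≤ pCoreOf 2 L →
      cen (pCoreOf 2 (L.subgroupOf K)) ≤ pCoreOf 2 (L.subgroupOf K) := fun L h e => by
    rw [pCoreOf_subgroupOf_eq h, cen, centralizer_subgroupOf ((pCoreOf_le _).trans h)]
    exact comap_mono e
  have hn : ∀ L ≤ K, nor (pCoreOf 2 L) ≤ nor L →
      nor (pCoreOf 2 (L.subgroupOf K)) ≤ nor (L.subgroupOf K) := fun L h e => by
    rw [pCoreOf_subgroupOf_eq h, nor, nor, ← subgroupOf_normalizer_eq ((pCoreOf_le _).trans h),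
      ← subgroupOf_normalizer_eq h]
    exact comap_mono e
  have P' := P.sub h₁ h₂
  have am : Amb K := ⟨hl.sub K, P'.o2 (hc _ h₁ c₁) (hc _ h₂ c₂), by
    refine ((normal_of_top_le_normalizer (self_le_normalizer_res ⊤)).eq_bot_or_eq_top).resolve_left
      fun e => P'.m₁.V_ne (le_bot_iff.1 ((pCoreOf_le _).trans (e ▸ ?_)))
    exact (P'.m₁.res_eq P'.f).ge.trans (res_mono le_top)⟩
  have tb : TB q _ _ _ _ _ := ⟨P'.uno (hc _ h₁ c₁) (hn _ h₁ n₁), P'.symm.uno (hc _ h₂ c₂) (hn _ h₂ n₂)⟩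
  rcases P.f.four_le.eq_or_lt with rfl | h4
  · left
    obtain ⟨T, hT, e⟩ := jobJ jobCo K _ _ _ _ _ _ am tb hq
    have h1 := hT.map_of_injective K.subtype_injective
    rw [map_subtype_top] at h1
    obtain ⟨S, hS, h2⟩ := exists_isSyl_le h1.isPGroup le_top
    have h3 := h1.eq_of_le hS.isPGroup.to_inf_left (le_inf h2 h1.le) inf_le_right
    have h4 : jt 2 (S ⊓ K) = J := by
      rw [h3, jt, ← H12.map_thompsonSubgroupOf _ _ K.subtype_injective, show thompsonSubgroupOf 2 T = _ from e,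
        subgroupOf_map_subtype, inf_of_le_left hJ]
    exact H9.Sec.sec_of_sylow hS.toSylowTop (P.sec4 c₁ n₁ hS.isPGroup
      (h4.ge.trans ((jt_le _).trans inf_le_left)) (h4 ▸ le_normalizer_jt (le_normalizer_inf le_normalizer
        (le_top.trans (normalizer_eq_top _).ge))))
  · exact Or.inr (P'.isL3 (jobTB jobCo K _ _ _ _ _ _ am tb h4))

end Pr

omit [Finite G] in
/-- the data of the statement, over a field in `Type` -/
theorem exists_nm {F : Type*} [Field F] {F₀ : Type} [Field F₀] (ε : F ≃+* F₀) {L : Subgroup G}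
    (φ : L ⧸ pCore 2 L ≃* SL(2, F)) (ψ : Additive (pCore 2 L) ≃+ (Fin 2 → F))
    (h : ∀ (g : L) (v : pCore 2 L),
      ψ (Additive.ofMul ⟨g * v * g⁻¹, Normal.conj_mem inferInstance (v : L) v.2 g⟩) =
        Matrix.mulVec (φ (QuotientGroup.mk g) : SL(2, F)) (ψ (Additive.ofMul v))) :
    Nonempty (NM L F₀) := by
  classical
  have hm : ∀ {x : G} (hx : x ∈ pCoreOf 2 L), (⟨x, pCoreOf_le L hx⟩ : L) ∈ pCore 2 L := fun hx => by
    rw [← pCoreOf_subgroupOf]; exact hx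
  let θ : G → Fin 2 → F₀ := fun x =>
    if hx : x ∈ pCoreOf 2 L then fun i => ε (ψ (Additive.ofMul ⟨_, hm hx⟩) i) else 0
  have hθ : ∀ {x : G} (hx : x ∈ pCoreOf 2 L), θ x = fun i => ε (ψ (Additive.ofMul ⟨_, hm hx⟩) i) :=
    fun hx => dif_pos hx
  refine ⟨⟨((H55.slCongr ε).toMonoidHom.comp φ.toMonoidHom).comp (QuotientGroup.mk' _),
    ((H55.slCongr ε).surjective.comp φ.surjective).comp (QuotientGroup.mk'_surjective _), fun l => ?_,
    ⟨θ, bot_le, fun x hx y hy => ?_, fun x hx => ?_, fun a => ?_⟩, fun l v hv => ?_⟩⟩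
  · simp only [MonoidHom.comp_apply, MulEquiv.coe_toMonoidHom, EmbeddingLike.map_eq_one_iff,
      QuotientGroup.mk'_apply, QuotientGroup.eq_one_iff]
    rw [← pCoreOf_subgroupOf, mem_subgroupOf]
  · rw [hθ hx, hθ hy, hθ (mul_mem hx hy)]
    ext i
    rw [Pi.add_apply, ← map_add, ← Pi.add_apply, ← map_add]
    rfl
  · rw [hθ hx, mem_bot]
    refine ⟨fun e => ?_, fun e => ?_⟩
    · have : ψ (Additive.ofMul ⟨_, hm hx⟩) = 0 := funext fun i => by simpa using congrFun e i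
      rw [EmbeddingLike.map_eq_zero_iff] at this
      exact congrArg (fun a : Additive (pCore 2 L) => ((a.toMul : L) : G)) this
    · subst e
      ext i
      exact (congrArg (fun a => ε (a i)) (map_zero ψ)).trans (map_zero ε)
  · obtain ⟨v, hv⟩ := ψ.surjective fun i => ε.symm (a i)
    have h1 : ((v.toMul : L) : G) ∈ pCoreOf 2 L := ⟨_, v.toMul.2, rfl⟩
    refine ⟨_, h1, ?_⟩
    rw [hθ h1]
    ext i
    exact (congrArg (fun a => ε (a i)) hv).trans (ε.apply_symm_apply _)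
  · change θ _ = _ • θ v
    rw [hθ hv, hθ (conj_mem_of_mem_normalizer (self_le_normalizer_pCoreOf L l.2) hv)]
    ext i
    refine (congrArg (fun a => ε (a i)) (h l ⟨_, hm hv⟩)).trans ?_
    rw [sl_smul_apply]
    simp [Matrix.mulVec, dotProduct, H55.slCongr]

end H57.L3
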