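import Cfsg.Agent.H25.TvPair
import Cfsg.Agent.S0215
import Cfsg.Agent.S0205

/-! LD4, slot TVW: finite subgroups of `GL₃` in characteristic two whose transvections are pairwise
opposite. -/

set_option autoImplicit false
set_option linter.unusedVariables false
set_option linter.unusedSectionVars false

namespace H57.LD4W

open Matrix H25.Tv3
open scoped commutatorElement

variable {F : Type*} [Field F] {X : Type*} [Group X] (ρ : X →* GL (Fin 3) F)

/-- the action on column vectors -/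
def act (x : X) (v : Fin 3 → F) : Fin 3 → F := (ρ x).val *ᵥ v

/-- `t` is the transvection with centre `u` and axis `φ` -/
structure Fl (t : X) (u φ : Fin 3 → F) : Prop where
  u0 : u ≠ 0
  φ0 : φ ≠ 0
  orth : φ ⬝ᵥ u = 0
  val : (ρ t).val = 1 + vecMulVec u φ

/-- `x` acts as a scalar -/
def Sc (x : X) : Prop := ∃ c : F, ∀ v, act ρ x v = c • v

/-- the standing hypothesis -/
structure Hy : Prop where
  two : (2 : F) = 0
  inj : Function.Injective ρ
  opp : ∀ t s u φ w ψ, Fl ρ t u φ → Fl ρ s w ψ → φ ⬝ᵥ w = 0 → t = s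

variable {ρ} {t s a b x : X} {u w z φ ψ χ p v : Fin 3 → F}

theorem act_mul (x y : X) (v : Fin 3 → F) : act ρ (x * y) v = act ρ x (act ρ y v) := by
  simp [act]

theorem act_one (v : Fin 3 → F) : act ρ 1 v = v := by simp [act]

theorem act_add (x : X) (v w : Fin 3 → F) : act ρ x (v + w) = act ρ x v + act ρ x w :=
  mulVec_add _ _ _

theorem act_sub (x : X) (v w : Fin 3 → F) : act ρ x (v - w) = act ρ x v - act ρ x w :=
  mulVec_sub _ _ _

theorem act_smul (x : X) (c : F) (v : Fin 3 → F) : act ρ x (c • v) = c • act ρ x v :=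
  mulVec_smul _ _ _

theorem act_ne (x : X) (h : v ≠ 0) : act ρ x v ≠ 0 := fun h0 => h (by
  rw [← act_one (ρ := ρ) v, ← inv_mul_cancel x, act_mul, h0]; simp [act])

theorem eig_ne {c : F} (h : v ≠ 0) (e : act ρ x v = c • v) : c ≠ 0 := by
  rintro rfl; exact act_ne x h (by simpa using e)

theorem eig_inv {c : F} (h : v ≠ 0) (e : act ρ x v = c • v) : act ρ x⁻¹ v = c⁻¹ • v := by
  rw [eq_inv_smul_iff₀ (eig_ne h e), ← act_smul, ← e, ← act_mul, inv_mul_cancel, act_one]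

theorem Hy.ext (H : Hy ρ) (h : ∀ v, act ρ a v = act ρ b v) : a = b :=
  H.inj (Units.ext (ext_iff_mulVec.2 h))

theorem Fl.act (h : Fl ρ t u φ) (v : Fin 3 → F) : act ρ t v = v + (φ ⬝ᵥ v) • u := by
  rw [LD4W.act, h.val, tv_mulVec]

theorem Fl.sq (H : Hy ρ) (h : Fl ρ t u φ) : t * t = 1 := H.ext fun v => by
  rw [act_mul, h.act, h.act, act_one]
  simp [h.orth, add_assoc, ← two_smul F, H.two]

theorem Fl.inv (H : Hy ρ) (h : Fl ρ t u φ) : t⁻¹ = t := inv_eq_of_mul_eq_one_right (h.sq H)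

theorem Fl.ne_one (h : Fl ρ t u φ) : t ≠ 1 := by
  rintro rfl
  have := h.val
  simp [h.u0, h.φ0] at this

theorem Fl.conj (h : Fl ρ t u φ) (g : X) :
    Fl ρ (g * t * g⁻¹) (LD4W.act ρ g u) (φ ᵥ* ((ρ g)⁻¹).val) where
  u0 := act_ne g h.u0
  φ0 h0 := h.φ0 (by simpa using congrArg (· ᵥ* (ρ g).val) h0)
  orth := by rw [LD4W.act, vecMul_inv_dot, h.orth]
  val := by
    rw [map_mul, map_mul, map_inv, show ρ t = tv u φ h.orth from Units.ext h.val, conj_tv_val]; rfl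

theorem Hy.opp' (H : Hy ρ) (h1 : Fl ρ t u φ) (h2 : Fl ρ s w ψ) (h : t ≠ s) :
    φ ⬝ᵥ w ≠ 0 ∧ ψ ⬝ᵥ u ≠ 0 :=
  ⟨fun e => h (H.opp _ _ _ _ _ _ h1 h2 e), fun e => h (H.opp _ _ _ _ _ _ h2 h1 e).symm⟩

/-- the fixed vectors of a product of two transvections -/
theorem Hy.fix (H : Hy ρ) (h1 : Fl ρ t u φ) (h2 : Fl ρ s w ψ) (h : t ≠ s)
    (e : act ρ (t * s) v = v) : φ ⬝ᵥ v = 0 ∧ ψ ⬝ᵥ v = 0 := by
  obtain ⟨a1, a2⟩ := H.opp' h1 h2 h
  have e1 := congrArg (φ ⬝ᵥ ·) e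
  simp [act_mul, h1.act, h2.act, h1.orth, a1] at e1
  rw [act_mul, h2.act, e1, zero_smul, add_zero, h1.act] at e
  exact ⟨by simpa [h1.u0] using e, e1⟩

theorem Hy.line (H : Hy ρ) (h1 : Fl ρ t u φ) (h2 : Fl ρ s w ψ) (h : t ≠ s) :
    ∃ p ≠ 0, φ ⬝ᵥ p = 0 ∧ ψ ⬝ᵥ p = 0 ∧ act ρ (t * s) p = p ∧
      ∀ v, act ρ (t * s) v = v → ∃ c : F, v = c • p := by
  obtain ⟨a1, a2⟩ := H.opp' h1 h2 h
  have n : φ ⨯₃ ψ ≠ 0 := cross_ne_zero (η := w) (by rwa [dotProduct_comm])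
    (by rw [dotProduct_comm, h2.orth]) h2.φ0
  refine ⟨φ ⨯₃ ψ, n, by simp, by simp, by simp [act_mul, h1.act, h2.act], fun v e => ?_⟩
  obtain ⟨b1, b2⟩ := H.fix h1 h2 h e
  exact smul_cross_of_kill n (by rwa [dotProduct_comm]) (by rwa [dotProduct_comm])

theorem Hy.eq_of_sc (H : Hy ρ) (h1 : Fl ρ t u φ) (h2 : Fl ρ s w ψ) (h : Sc ρ (t * s)) : t = s := by
  by_contra hn
  obtain ⟨p, p0, -, -, p1, -⟩ := H.line h1 h2 hn
  obtain ⟨c, hc⟩ := h
  have c1 : c = 1 := smul_left_injective F p0 (by simpa [hc] using p1)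
  exact (H.opp' h1 h2 hn).2 (H.fix h1 h2 hn (v := u) (by rw [hc, c1, one_smul])).2

theorem Hy.odd [Finite X] (H : Hy ρ) (h1 : Fl ρ t u φ) (h2 : Fl ρ s w ψ) :
    Odd (orderOf (t * s)) := by
  have ht := h1.sq H
  have hs := h2.sq H
  by_contra ho
  obtain ⟨k, hk⟩ := Nat.not_odd_iff_even.1 ho
  have hpos := orderOf_pos (t * s)
  have hz : (t * s) ^ k * (t * s) ^ k = 1 := by rw [← pow_add, ← hk, pow_orderOf_eq_one]
  have h0 : t * (t * s) * t⁻¹ = (t * s)⁻¹ := by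
    rw [← mul_assoc, ht, one_mul, _root_.mul_inv_rev, h2.inv H]
  have h4 : ∀ m : ℕ, t * (t * s) ^ m = ((t * s) ^ m)⁻¹ * t := fun m => by
    rw [← mul_inv_eq_iff_eq_mul, ← conj_pow, h0, inv_pow]
  have h3 : (t * s) ^ k * t = t * (t * s) ^ k := by
    rw [h4, inv_eq_of_mul_eq_one_right hz]
  obtain ⟨u', φ', h5⟩ : ∃ u' φ', Fl ρ ((t * s) ^ k * t) u' φ' := by
    obtain ⟨m, rfl | rfl⟩ := Nat.even_or_odd' k
    · have e : (t * s) ^ (2 * m) * t = (t * s) ^ m * t * ((t * s) ^ m)⁻¹ := by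
        rw [eq_mul_inv_iff_mul_eq, mul_assoc, h4, two_mul, pow_add, mul_assoc, mul_inv_cancel_left]
      exact ⟨_, _, e ▸ h1.conj ((t * s) ^ m)⟩
    · have e : (t * s) ^ (2 * m + 1) * t = (t * s) ^ m * (t * s * t⁻¹) * ((t * s) ^ m)⁻¹ := by
        rw [eq_mul_inv_iff_mul_eq, mul_assoc, h4, two_mul, add_assoc, add_comm m 1, ← add_assoc,
          pow_add, mul_assoc, mul_inv_cancel_left, pow_succ, h1.inv H, mul_assoc]
      exact ⟨_, _, e ▸ (h2.conj t).conj ((t * s) ^ m)⟩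
  have h6 : t = (t * s) ^ k * t := by
    by_contra hn
    obtain ⟨a1, a2⟩ := H.opp' h1 h5 hn
    have e : t * ((t * s) ^ k * t) = (t * s) ^ k * t * t := by rw [← mul_assoc, ← h3]
    have e1 := congrArg (fun g => φ ⬝ᵥ act ρ g u) e
    have e2 := congrArg (fun g => φ' ⬝ᵥ act ρ g u) e
    generalize (t * s) ^ k * t = r at h5 e1 e2
    simp [act_mul, h1.act, h5.act, h1.orth, h5.orth, a1, a2] at e1 e2
  exact pow_ne_one_of_lt_orderOf (x := t * s) (n := k) (by omega) (by omega) (by simpa using h6.symm)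

theorem Hy.isConj [Finite X] (H : Hy ρ) (h1 : Fl ρ t u φ) (h2 : Fl ρ s w ψ) :
    ∃ g, g * t * g⁻¹ = s := by
  obtain ⟨m, hm⟩ := H.odd h2 h1
  have h0 : t * (s * t) * t⁻¹ = (s * t)⁻¹ := by
    rw [_root_.mul_inv_rev, h2.inv H, h1.inv H, mul_assoc, mul_assoc, h1.sq H, mul_one]
  have h4 : t * (s * t) ^ m = ((s * t) ^ m)⁻¹ * t := by
    rw [← mul_inv_eq_iff_eq_mul, ← conj_pow, h0, inv_pow]
  have h5 : (s * t) ^ m * (s * t) ^ m * (s * t) = 1 := by
    rw [← pow_add, ← pow_succ, ← two_mul, ← hm, pow_orderOf_eq_one]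
  refine ⟨((s * t) ^ m)⁻¹, ?_⟩
  rw [inv_inv, mul_assoc, h4, ← mul_assoc, ← _root_.mul_inv_rev, inv_eq_of_mul_eq_one_right h5,
    mul_assoc, h1.sq H, mul_one]

theorem Fl.of_commute (h : Fl ρ t u φ) (hc : Commute a t) :
    ∃ c : F, LD4W.act ρ a u = c • u ∧ ∀ v, φ ⬝ᵥ LD4W.act ρ a v = c * φ ⬝ᵥ v := by
  have e : ∀ v, (φ ⬝ᵥ v) • LD4W.act ρ a u = (φ ⬝ᵥ LD4W.act ρ a v) • u := fun v => by
    have := congrArg (fun g => LD4W.act ρ g v) hc.eq
    simpa only [act_mul, h.act, act_add, act_smul, add_right_inj] using this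
  obtain ⟨y, hy⟩ := exists_dot_one h.φ0
  rw [dotProduct_comm] at hy
  have e1 := e y
  rw [hy, one_smul] at e1
  refine ⟨_, e1, fun v => smul_left_injective F h.u0 ?_⟩
  simp only [← e v, e1, smul_smul, mul_comm]

theorem Hy.commute_of_eig (H : Hy ρ) {c d : F} (p0 : p ≠ 0) (h1 : act ρ a p = c • p)
    (h2 : act ρ b p = d • p) (h : Sc ρ ⁅a, b⁆) : Commute a b := by
  obtain ⟨e, he⟩ := h
  have e1 : act ρ ⁅a, b⁆ p = p := by
    rw [commutatorElement_def, act_mul, act_mul, act_mul, eig_inv p0 h2, act_smul, eig_inv p0 h1]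
    simp only [act_smul, h1, h2, smul_smul]
    rw [show d⁻¹ * c⁻¹ * d * c = 1 by
      field_simp [eig_ne p0 h1, eig_ne p0 h2], one_smul]
  have c1 : e = 1 := smul_left_injective F p0 (by simpa [he] using e1)
  exact commutatorElement_eq_one_iff_commute.1 (H.ext fun v => by rw [he, c1, one_smul, act_one])

theorem Sc.commute (H : Hy ρ) (h : Sc ρ a) (b : X) : Commute a b := by
  obtain ⟨c, hc⟩ := h
  exact H.ext fun v => by simp only [act_mul, hc, act_smul]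

theorem Sc.mul (h : Sc ρ a) (h' : Sc ρ b) : Sc ρ (a * b) := by
  obtain ⟨c, hc⟩ := h
  obtain ⟨d, hd⟩ := h'
  exact ⟨c * d, fun v => by rw [act_mul, hd, hc, smul_smul]⟩

theorem Sc.inv (h : Sc ρ a) : Sc ρ a⁻¹ := by
  obtain ⟨c, hc⟩ := h
  refine ⟨c⁻¹, fun v => ?_⟩
  by_cases h0 : v = 0
  · simp [h0, act]
  · exact eig_inv h0 (hc v)

theorem Sc.eq_one (H : Hy ρ) (h : Sc ρ a) (e : a * a = 1) : a = 1 := by
  obtain ⟨c, hc⟩ := h
  have e1 := congrArg (fun g => act ρ g (Pi.single 0 1) 0) e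
  simp [act_mul, hc, act_one] at e1
  have c1 : c = 1 := sub_eq_zero.1 (mul_self_eq_zero.1 (by linear_combination e1 + (1 - c) * H.two))
  exact H.ext fun v => by rw [hc, c1, one_smul, act_one]

/-- the subgroup of scalars -/
def scG (ρ : X →* GL (Fin 3) F) : Subgroup X where
  carrier := {x | Sc ρ x}
  mul_mem' := Sc.mul
  one_mem' := ⟨1, fun v => by rw [act_one, one_smul]⟩
  inv_mem' := Sc.inv

theorem Hy.commute_of_sc (H : Hy ρ) (h : Fl ρ t u φ) (hs : Sc ρ ⁅a, t⁆) : Commute a t := by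
  rw [commutatorElement_def, h.inv H] at hs
  exact mul_inv_eq_iff_eq_mul.1 (H.eq_of_sc (h.conj a) h hs)

/-- three eigenvectors with distinct eigenvalues -/
theorem three_eig {p' p'' : Fin 3 → F} {μ κ ν e : F} (p0 : p ≠ 0) (p2 : p'' ≠ 0)
    (h0 : act ρ b p = p) (h1 : act ρ b p' = μ • p') (h2 : act ρ b p'' = κ • p'') (a1 : μ ≠ 1)
    (a2 : κ ≠ 1) (a3 : κ ≠ μ) (h : act ρ b (p'' + e • (p' - p)) = ν • (p'' + e • (p' - p))) :
    e = 0 := by
  have E0 : (κ - ν) • p'' + (e * (μ - ν)) • p' - (e * (1 - ν)) • p = 0 := by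
    rw [act_add, act_smul, act_sub, h0, h1, h2] at h
    linear_combination (norm := module) h
  have E1 := congrArg (act ρ b) E0
  simp only [act_sub, act_add, act_smul, h0, h1, h2] at E1
  have E2 := congrArg (act ρ b) E1
  simp only [act_sub, act_add, act_smul, h0, h1, h2] at E2
  have z0 : act ρ b 0 = 0 := by simp [act]
  rw [z0] at E1 E2
  rw [z0] at E2
  have b1 : ((κ - 1) * (κ - μ) * (κ - ν)) • p'' = 0 := by
    linear_combination (norm := module) E2 - (1 + μ) • E1 + μ • E0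
  have b2 : (e * ((1 - ν) * (1 - μ) * (1 - κ))) • p = 0 := by
    linear_combination (norm := module) -E2 + (μ + κ) • E1 - (μ * κ) • E0
  have b3 : κ = ν := by simpa [p2, sub_eq_zero, a2, a3] using b1
  simpa [p0, sub_eq_zero, ← b3, a1.symm, a2.symm] using b2

/-- the case of an abelian normal subgroup -/
theorem Hy.abel (H : Hy ρ) (A : Subgroup X) [hA : A.Normal] (hc : ∀ a ∈ A, ∀ b ∈ A, Commute a b)
    (h1 : Fl ρ t u φ) (ha : a ∈ A) (hn : ¬ Commute a t) : ∃ p ≠ 0, φ ⬝ᵥ p = 0 ∧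
      ∀ s w ψ, Fl ρ s w ψ → ψ ⬝ᵥ p ≠ 0 → φ ⬝ᵥ w * ψ ⬝ᵥ u = 1 := by
  have hne : a * t * a⁻¹ ≠ t := fun e => hn (mul_inv_eq_iff_eq_mul.1 e)
  obtain ⟨p, p0, -, p1, p2, p3⟩ := H.line (h1.conj a) h1 hne
  set b := a * t * a⁻¹ * t with hb
  have bA : b ∈ A := by
    have := A.mul_mem ha (hA.conj_mem _ (A.inv_mem ha) t)
    rwa [h1.inv H, ← mul_assoc, ← mul_assoc] at this
  have bt : b * t = t * b⁻¹ := by
    rw [hb, _root_.mul_inv_rev, h1.inv H, (h1.conj a).inv H, mul_assoc _ t t, ← mul_assoc t t,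
      h1.sq H, mul_one, one_mul]
  have key : ∀ g, ∃ ν : F, act ρ b (act ρ g p) = ν • act ρ g p := fun g => by
    have m : g⁻¹ * b * g ∈ A := hA.conj_mem' _ bA g
    obtain ⟨c, hc'⟩ := p3 (act ρ (g⁻¹ * b * g) p) (by rw [← act_mul, (hc _ bA _ m).eq, act_mul, p2])
    exact ⟨c, by rw [← act_smul, ← hc', ← act_mul, ← act_mul]; congr 1; group⟩
  refine ⟨p, p0, p1, fun s w ψ h2 d0 => ?_⟩
  obtain ⟨μ, m1⟩ := key s
  obtain ⟨ν, m2⟩ := key (s * t * s)
  have q0 := act_ne (ρ := ρ) s p0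
  have m0 := eig_ne q0 m1
  have m3 : μ ≠ 1 := fun e => by
    obtain ⟨c, hc'⟩ := p3 _ (by rw [m1, e, one_smul])
    rw [h2.act] at hc'
    have e1 := congrArg (ψ ⬝ᵥ ·) hc'
    simp only [dotProduct_add, dotProduct_smul, h2.orth, smul_eq_mul, mul_zero, add_zero] at e1
    rw [show c = 1 from mul_right_cancel₀ d0 (by rw [one_mul, ← e1]), one_smul] at hc'
    simp [d0, h2.u0] at hc'
  have m4 : act ρ b (act ρ t (act ρ s p)) = μ⁻¹ • act ρ t (act ρ s p) := by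
    rw [← act_mul, bt, act_mul, eig_inv q0 m1, act_smul]
  have m5 := three_eig (e := ψ ⬝ᵥ act ρ t (act ρ s p) / ψ ⬝ᵥ p) (ν := ν) p0 (act_ne t q0) p2 m1 m4 m3
    (by simpa using m3) (fun e => m3 (sub_eq_zero.1 (mul_self_eq_zero.1 (by
      have : μ * μ = 1 := by nth_rewrite 1 [← e]; exact inv_mul_cancel₀ m0
      linear_combination this + (1 - μ) * H.two)))) (by
      convert m2 using 2 <;>
      · rw [act_mul, act_mul, h2.act (act ρ t _), h2.act p, add_sub_cancel_left, smul_smul,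
          div_mul_cancel₀ _ d0])
  rw [div_eq_zero_iff, or_iff_left d0, h1.act, h2.act] at m5
  simp only [dotProduct_add, dotProduct_smul, h2.orth, p1, smul_eq_mul] at m5
  apply mul_left_cancel₀ d0
  linear_combination m5 - (ψ ⬝ᵥ p) * H.two

/-- the case of a subgroup of symplectic type -/
theorem Hy.extra (H : Hy ρ) (A : Subgroup X) [hA : A.Normal] (hc : ∀ a ∈ A, ∀ b ∈ A, Sc ρ ⁅a, b⁆)
    (hz : ∀ a ∈ A, (∀ b ∈ A, Commute a b) → Sc ρ a) (hn : ¬ A ≤ scG ρ)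
    (h1 : Fl ρ t u φ) (h2 : Fl ρ s w ψ) (hne : t ≠ s) : φ ⬝ᵥ w * ψ ⬝ᵥ u = 1 := by
  have k0 : ∀ {t u φ}, Fl ρ t u φ → ∀ b ∈ A, Commute (b * (t * b * t⁻¹)) t := fun {t u φ} h b hb =>
    H.commute_of_sc h (by
      convert hc _ hb _ (hA.conj_mem _ hb t) using 1
      simp only [commutatorElement_def, _root_.mul_inv_rev, h.inv H, inv_inv, mul_assoc]
      simp only [← mul_assoc t t, h.sq H, one_mul, mul_one])
  have k1 : ∀ {t u φ}, Fl ρ t u φ → ∀ a ∈ A, Commute a t → Sc ρ a := fun {t u φ} h a ha e =>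
    hz a ha fun b hb => by
      obtain ⟨c, c1, -⟩ := h.of_commute e
      obtain ⟨d, d1, -⟩ := h.of_commute (k0 h b hb)
      have e1 := commutatorElement_eq_one_iff_commute.2
        (H.commute_of_eig h.u0 c1 d1 (hc _ ha _ (A.mul_mem hb (hA.conj_mem _ hb t))))
      have e2 : ⁅a, t * b * t⁻¹⁆ = ⁅a, b⁆ := by
        rw [← mul_inv_eq_iff_eq_mul.2 ((hc _ ha _ hb).commute H t).symm.eq, conjugate_commutatorElement,
          mul_inv_eq_iff_eq_mul.2 e.symm.eq]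
      refine commutatorElement_eq_one_iff_commute.1 ((hc _ ha _ hb).eq_one H ?_)
      rw [← e1, commutatorElement_mul_right_eq_mul_conj, e2, mul_assoc ⁅a, b⁆, mul_assoc ⁅a, b⁆,
        mul_inv_eq_iff_eq_mul.2 ((hc _ ha _ hb).commute H b).symm.eq]
  have k2 : ∀ a ∈ A, Sc ρ ⁅t * s, a⁆ := fun a ha => by
    have z1 := k1 h1 _ (A.mul_mem ha (hA.conj_mem _ ha t)) (k0 h1 a ha)
    have z2 := k1 h2 _ (A.mul_mem ha (hA.conj_mem _ ha s)) (k0 h2 a ha)
    have e1 := mul_inv_eq_iff_eq_mul.2 (z2.commute H t).symm.eq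
    have e2 := mul_inv_eq_iff_eq_mul.2 (z1.inv.commute H a).eq
    have e3 := (z2.commute H a).eq
    convert z1.inv.mul z2 using 1
    calc ⁅t * s, a⁆ = (a * (t * a * t⁻¹))⁻¹ * a * (t * (a * (s * a * s⁻¹)) * t⁻¹) * a⁻¹ := by
          simp only [commutatorElement_def]; group
      _ = _ := by rw [e1, mul_assoc _ a, ← e3]; group
  by_cases hg : ∀ a ∈ A, Commute (t * s) a
  · obtain ⟨p, p0, -, -, p2, p3⟩ := H.line h1 h2 hne
    have k3 : ∀ a ∈ A, ∃ c : F, act ρ a p = c • p := fun a ha =>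
      p3 _ (by rw [← act_mul, (hg a ha).eq, act_mul, p2])
    refine absurd (fun a ha => hz a ha fun b hb => ?_) hn
    obtain ⟨c, c1⟩ := k3 a ha
    obtain ⟨d, d1⟩ := k3 b hb
    exact H.commute_of_eig p0 c1 d1 (hc a ha b hb)
  push Not at hg
  obtain ⟨a, ha, hg⟩ := hg
  obtain ⟨c, hc'⟩ := k2 a ha
  have c1 : c ≠ 1 := fun e => hg (commutatorElement_eq_one_iff_commute.1
    (H.ext fun v => by rw [hc', e, one_smul, act_one]))
  have e1 : (ρ (t * s)).val = c • (ρ (a * (t * s) * a⁻¹)).val := ext_iff_mulVec.2 fun v => by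
    rw [smul_mulVec]
    exact (congrArg (fun g => act ρ g v) (show t * s = ⁅t * s, a⁆ * (a * (t * s) * a⁻¹) by
      simp only [commutatorElement_def]; group)).trans (by rw [act_mul, hc']; rfl)
  have e2 := congrArg trace e1
  rw [trace_smul, map_mul ρ _ a⁻¹, map_mul ρ a, map_inv, Units.val_mul, Units.val_mul,
    trace_units_conj] at e2
  have e3 : (ρ (t * s)).val.trace = 0 := by
    rw [smul_eq_mul] at e2
    exact (mul_eq_zero.1 (show (c - 1) * _ = 0 by linear_combination -e2)).resolve_left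
      (sub_ne_zero.2 c1)
  rw [map_mul, Units.val_mul, h1.val, h2.val] at e3
  simp only [mul_add, add_mul, one_mul, mul_one, trace_add, trace_one, vecMulVec_mul_vecMulVec,
    trace_vecMulVec, Fintype.card_fin, dotProduct_smul, dotProduct_comm u, dotProduct_comm w,
    h1.orth, h2.orth, smul_eq_mul, Nat.cast_ofNat, smul_dotProduct] at e3
  linear_combination e3 - 2 * H.two

theorem Hy.main [Finite X] (H : Hy ρ) {r : X} (h1 : Fl ρ t u φ) (h2 : Fl ρ s w ψ)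
    (h3 : Fl ρ r z χ) (hd : φ ⬝ᵥ w * ψ ⬝ᵥ z * χ ⬝ᵥ u + φ ⬝ᵥ z * χ ⬝ᵥ w * ψ ⬝ᵥ u ≠ 0) :
    φ ⬝ᵥ w * ψ ⬝ᵥ u = 1 ∨ φ ⬝ᵥ z * χ ⬝ᵥ u = 1 := by
  have a12 : φ ⬝ᵥ w ≠ 0 := fun e => by
    obtain rfl := H.opp _ _ _ _ _ _ h1 h2 e
    have e1 := (h1.act u).symm.trans (h2.act u)
    simp [h1.orth, h2.u0] at e1
    exact hd (by simp [e, e1])
  have a13 : φ ⬝ᵥ z ≠ 0 := fun e => by
    obtain rfl := H.opp _ _ _ _ _ _ h1 h3 e
    have e1 := (h1.act u).symm.trans (h3.act u)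
    simp [h1.orth, h3.u0] at e1
    exact hd (by simp [e, e1])
  have ts : t ≠ s := by
    rintro rfl
    have e1 := (h1.act w).symm.trans (h2.act w)
    simp [h2.orth, h1.u0, a12] at e1
  have hdet : (of ![φ, ψ, χ] * (of ![u, w, z])ᵀ).det ≠ 0 := by
    convert hd using 1
    have : of ![φ, ψ, χ] * (of ![u, w, z])ᵀ = of fun i j => ![φ, ψ, χ] i ⬝ᵥ ![u, w, z] j := rfl
    rw [this]
    simp [det_fin_three, h1.orth, h2.orth, h3.orth]
    ring
  rw [det_mul] at hdet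
  -- the isolated involution
  have ht : orderOf t = 2 := orderOf_eq_prime (by rw [sq, h1.sq H]) h1.ne_one
  obtain ⟨S, hS⟩ := (IsPGroup.of_card (p := 2) (n := 1) (G := Subgroup.zpowers t)
    (by rw [Nat.card_zpowers, ht, pow_one])).exists_le_sylow
  have hS1 : t ∈ S := hS (Subgroup.mem_zpowers t)
  obtain ⟨N, n1, n2, n3⟩ := Cfsg.Agent.S0215.result S t ht hS1 fun g hg => by
    obtain ⟨k, hk⟩ := IsPGroup.iff_orderOf.1 S.isPGroup' ⟨_, S.1.mul_mem hS1 hg⟩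
    have a3 := H.odd h1 (h1.conj g)
    rw [← Subgroup.orderOf_coe] at hk
    have a4 : orderOf (t * (g * t * g⁻¹)) = 2 ^ k := hk
    rw [a4] at a3
    obtain rfl : k = 0 := by_contra fun h0 => absurd ((Nat.odd_pow_iff h0).1 a3) (by decide)
    rw [← inv_eq_of_mul_eq_one_right (orderOf_eq_one_iff.1 a4), h1.inv H]
  obtain ⟨g2, e2⟩ := H.isConj h1 h2
  obtain ⟨g3, e3⟩ := H.isConj h1 h3
  obtain ⟨A, ⟨nA, aN, aZ⟩, hmin⟩ := exists_minimal_of_wellFoundedLT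
    (fun A : Subgroup X => A.Normal ∧ A ≤ N ∧ ¬ A ≤ scG ρ) ⟨N, n1, le_rfl, fun h => ts (H.eq_of_sc
      h1 h2 (h (by simpa [h1.inv H, ← e2, mul_assoc] using n3 g2)))⟩
  have lt : ∀ B : Subgroup X, B.Normal → B ≤ A → B ≠ A → B ≤ scG ρ := fun B b1 b2 b3 =>
    by_contra fun h => b3 (le_antisymm b2 (hmin ⟨b1, b2.trans aN, h⟩ b2))
  have hc : ∀ a ∈ A, ∀ b ∈ A, Sc ρ ⁅a, b⁆ := fun a ha b hb => by
    refine lt ⁅A, A⁆ inferInstance (Subgroup.commutator_le_left _ _) (fun e => ?_)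
      (Subgroup.commutator_mem_commutator ha hb)
    have : Nontrivial A := (Subgroup.nontrivial_iff_ne_bot A).2 (by rintro rfl; exact aZ bot_le)
    have := Cfsg.Agent.S0205.result (G := A) (n2.of_dvd_nat (Subgroup.card_dvd_of_le aN))
    refine (Group.IsSolvable.commutator_lt_top_of_nontrivial A).ne (Subgroup.map_injective
      A.subtype_injective ?_)
    rw [Subgroup.map_subtype_commutator, e, ← MonoidHom.range_eq_map, A.range_subtype]
  by_cases hab : A ⊓ Subgroup.centralizer A = A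
  swap
  · exact Or.inl (H.extra A hc (fun a ha h => lt _ inferInstance inf_le_left hab
      ⟨ha, fun b hb => (h b hb).symm.eq⟩) aZ h1 h2 ts)
  obtain ⟨a, ha, hn⟩ : ∃ a ∈ A, ¬ Commute a t := by
    by_contra hn
    push Not at hn
    refine aZ fun a ha => ?_
    have k : ∀ g, Commute a (g * t * g⁻¹) := fun g => by
      have := (hn _ (nA.conj_mem' _ ha g)).eq
      change a * _ = _ * a
      calc a * (g * t * g⁻¹) = g * (g⁻¹ * a * g * t) * g⁻¹ := by group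
        _ = _ := by rw [this]; group
    obtain ⟨c1, u1, f1⟩ := h1.of_commute (hn a ha)
    obtain ⟨c2, u2, f2⟩ := h2.of_commute (e2 ▸ k g2)
    obtain ⟨c3, u3, f3⟩ := h3.of_commute (e3 ▸ k g3)
    obtain rfl : c2 = c1 := mul_right_cancel₀ a12 (by simpa [u2] using f1 w)
    obtain rfl : c3 = c2 := mul_right_cancel₀ a13 (by simpa [u3] using f1 z)
    refine ⟨c3, fun v => sub_eq_zero.1 (eq_zero_of_mulVec_eq_zero (left_ne_zero_of_mul hdet) ?_)⟩
    funext i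
    fin_cases i
    · simpa [mulVec, sub_eq_zero] using f1 v
    · simpa [mulVec, sub_eq_zero] using f2 v
    · simpa [mulVec, sub_eq_zero] using f3 v
  obtain ⟨p, p0, p1, p2⟩ := H.abel A (fun a ha b hb =>
    (((hab.symm ▸ ha : a ∈ A ⊓ Subgroup.centralizer A).2 b hb).symm : a * b = b * a)) h1 ha hn
  by_cases b2 : ψ ⬝ᵥ p = 0
  swap
  · exact Or.inl (p2 _ _ _ h2 b2)
  refine Or.inr (p2 _ _ _ h3 fun b3 => p0 (eq_zero_of_mulVec_eq_zero (left_ne_zero_of_mul hdet) ?_))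
  funext i
  fin_cases i
  exacts [p1, b2, b3]

end H57.LD4W
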