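import Cfsg.Agent.H20.LD4Tv
import Cfsg.Agent.H57.LD4TVWa

/-! LD4, slot TVW: the monomial lemma. -/

set_option autoImplicit false
set_option linter.unusedVariables false

namespace H57.LD4W

open Matrix H20.LD

universe u

variable {k : Type u} [Field k] {T : V4 k → V4 k → Prop} {K : Subfield k}

/-- block embedding of matrices -/
def blk : Matrix (Fin 3) (Fin 3) k →* M4 k where
  toFun A := !![A 0 0, A 0 1, A 0 2, 0; A 1 0, A 1 1, A 1 2, 0; A 2 0, A 2 1, A 2 2, 0; 0, 0, 0, 1]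
  map_one' := by ext i j; fin_cases i <;> fin_cases j <;> simp
  map_mul' A B := by
    ext i j; fin_cases i <;> fin_cases j <;> simp [mul_apply, Fin.sum_univ_three, Fin.sum_univ_four]

theorem blk_inj : Function.Injective (blk (k := k)) := fun A B h => by
  ext i j
  have := congrFun (congrFun h i.castSucc) j.castSucc
  fin_cases i <;> fin_cases j <;> exact this

theorem blk_tv (u φ : Fin 3 → k) : blk (1 + vecMulVec u φ) = 1 + vecMulVec (ex u) (ex φ) := by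
  ext i j; fin_cases i <;> fin_cases j <;> simp [blk, ex, vecMulVec_apply]

/-- the restricted system: distinct flags are opposite -/
theorem res_opp (h : TS K T) (h2 : Two K) (hS : H20.LD.Sym T) (hN : NoFat T) {u φ w ψ : Fin 3 → k}
    (h1 : res T u φ) (h3 : res T w ψ) (hu : u ≠ 0) (hφ : φ ≠ 0) (hw : w ≠ 0) (hψ : ψ ≠ 0)
    (e : φ ⬝ᵥ w = 0) : vecMulVec u φ = vecMulVec w ψ := by
  have n : ∀ {a : Fin 3 → k}, a ≠ 0 → ex a ≠ 0 := fun h => mt ex_eq_zero.1 h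
  have e' : ψ ⬝ᵥ u = 0 := by
    rw [← ex_dot] at e ⊢
    exact hS _ _ _ _ h1 h3 (n hφ) (n hw) e
  have r := h.toTB.res
  have inj : ∀ {a b : Fin 3 → k} {c : k}, ex a = c • ex b → a = c • b := fun {a b c} h => by
    rw [← sub_eq_zero, ← ex_eq_zero, ex_sub, ex_smul, h, sub_self]
  obtain ⟨c, rfl⟩ : ∃ c : k, w = c • u := by
    by_cases h0 : w ⨯₃ u = 0
    · exact H25.Tv3.smul_of_cross hu h0
    obtain ⟨d, rfl⟩ := H25.Tv3.smul_of_kill h0 (r.orth h3) e' e (r.orth h1) hφ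
    obtain ⟨c, hc⟩ := hN.2 _ _ _ h1 ((r.smul_iff d).2 h3) (n hu) (n hφ)
    refine ⟨d⁻¹ * c, ?_⟩
    rw [mul_smul, ← inj hc, inv_smul_smul₀ (left_ne_zero_of_smul hψ)]
  have h4 := (r.smul_iff c).1 h3
  obtain ⟨d, hd⟩ := hN.1 _ _ _ h1 h4 (n hu) (n hφ)
  have h5 := inj hd
  rcases h2 d (h.maxR h1 (hd ▸ h4) (n hu) (n hφ)) with rfl | rfl
  · simp [hψ, left_ne_zero_of_smul hw] at h5
  · rw [one_smul] at h5
    simp [← h5]

/-- block embedding of groups -/
def emb : GL (Fin 3) k →* G4 k := Units.map blk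

theorem emb_val (g : GL (Fin 3) k) : (emb g).val = blk g.val := rfl

theorem emb_inj : Function.Injective (emb (k := k)) := fun a b e =>
  Units.ext (blk_inj (by rw [← emb_val, ← emb_val, e]))

theorem fl_iff {G : Subgroup (G4 k)} {u φ : Fin 3 → k} :
    (∃ t, Fl (G.comap emb).subtype t u φ) ↔ res (TV G) u φ ∧ u ≠ 0 ∧ φ ≠ 0 := by
  refine ⟨fun ⟨t, a⟩ => ⟨⟨by rw [ex_dot, a.orth], emb t.1, t.2, ?_⟩, a.u0, a.φ0⟩,
    fun ⟨a, hu, hφ⟩ => ?_⟩
  · rw [emb_val, ← blk_tv, ← a.val]; rfl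
  · have o := (tb G).res.orth a
    refine ⟨⟨H25.Tv3.tv u φ o, ?_⟩, hu, hφ, o, rfl⟩
    rw [Subgroup.mem_comap, show emb (H25.Tv3.tv u φ o) = tv _ _ a.1 from
      Units.ext (by rw [emb_val, tv_val, ← blk_tv]; rfl)]
    exact TV.mem a

theorem mw_res {G : Subgroup (G4 k)} [Finite G] (h : TS K (TV G)) (h2 : (2 : k) = 0) (hK : Two K)
    (hS : H20.LD.Sym (TV G)) (hN : NoFat (TV G)) {a b c d e f : k}
    (h0 : res (TV G) (Pi.single 0 1) ![0, a, b]) (h1 : res (TV G) (Pi.single 1 1) ![c, 0, d])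
    (h3 : res (TV G) (Pi.single 2 1) ![e, f, 0]) (hd : a * d * e + b * f * c ≠ 0) :
    a * c = 1 ∨ b * e = 1 := by
  have : Finite (G.comap emb) := Finite.of_injective (fun x : G.comap emb => (⟨_, x.2⟩ : G))
    fun a b e => Subtype.ext (emb_inj (congrArg Subtype.val e))
  have H : Hy (G.comap emb).subtype := ⟨h2, Subgroup.subtype_injective _, fun t s u φ w ψ a b e =>
    Subgroup.subtype_injective _ (Units.ext (by
      rw [a.val, b.val, res_opp h hK hS hN (fl_iff.1 ⟨_, a⟩).1 (fl_iff.1 ⟨_, b⟩).1 a.u0 a.φ0 b.u0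
        b.φ0 e]))⟩
  obtain ⟨t, f1⟩ := fl_iff.2 ⟨h0, by simp, fun e => hd (by
    simp [show a = 0 from congrFun e 1, show b = 0 from congrFun e 2])⟩
  obtain ⟨s, f2⟩ := fl_iff.2 ⟨h1, by simp, fun e => hd (by
    simp [show c = 0 from congrFun e 0, show d = 0 from congrFun e 2])⟩
  obtain ⟨r, f3⟩ := fl_iff.2 ⟨h3, by simp, fun e' => hd (by
    simp [show e = 0 from congrFun e' 0, show f = 0 from congrFun e' 1])⟩
  simpa using H.main f1 f2 f3 (by simpa using hd)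

theorem jobTVW : JobTVW.{u} := fun k _ _ G _ K _ hG h h2 hK hS hN u φ w ψ z χ hn => by
  obtain ⟨B, -, b0, b1, b2, c0, c1, c2⟩ := h.res hn
  refine mw_res (G := cg G B) (K := K) ?_ h2 hK ?_ ?_ ?_ ?_ ?_ hn.2.2.2 <;> rw [tv_cg]
  · exact h.pb B
  · exact hS.pb B
  · exact hN.pb B
  · rw [res, pb, b0, c0]; exact hn.1
  · rw [res, pb, b1, c1]; exact hn.2.1
  · rw [res, pb, b2, c2]; exact hn.2.2.1

end H57.LD4W
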