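import Cfsg.Agent.H31.O7K
import Cfsg.Agent.H58.LDSc
import Cfsg.Agent.H58.LDPL3

/-! Tower O7, job `JobML3`: the configurations in `L₃(r)`. -/

set_option autoImplicit false
set_option maxRecDepth 100000

namespace H57.O7L

open Matrix Cfsg Subgroup H31.O7 H58.LD
open H20.LD (cp)
open H56.SL2M (xx yy hh)
open scoped MatrixGroups

variable {F : Type} [Field F]

/-- the projection -/
abbrev pr (n : ℕ) : SL(n, F) →* PSL(n, F) := QuotientGroup.mk' _

theorem pr_surj (n : ℕ) : Function.Surjective (pr (F := F) n) := QuotientGroup.mk'_surjective _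

theorem pr_eq_one {n : ℕ} {A : SL(n, F)} (h : pr n A = 1) : ∃ r : F, scalar (Fin n) r = A.1 := by
  obtain ⟨r, -, e⟩ := Matrix.SpecialLinearGroup.mem_center_iff.1 ((QuotientGroup.eq_one_iff A).1 h)
  exact ⟨r, e⟩

theorem pr_cj {n : ℕ} {a b c : SL(n, F)} (h : a.1 * b.1 = c.1 * a.1) :
    pr n a * pr n b * (pr n a)⁻¹ = pr n c := by
  rw [mul_inv_eq_iff_eq_mul, ← map_mul, ← map_mul]
  exact congrArg _ (Subtype.ext h)

theorem two_ne (r : ℕ) [CharP F r] (h : r ≠ 2) : (2 : F) ≠ 0 := fun e => by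
  have := (CharP.cast_eq_zero_iff F r 2).1 (by exact_mod_cast e)
  rcases (Nat.dvd_prime Nat.prime_two).1 this with k | k
  · exact CharP.char_ne_one F r k
  · exact h k

theorem top_of_map {Γ Γ' : Type*} [Group Γ] [Group Γ'] {f : Γ →* Γ'} (hf : Function.Surjective f)
    {H : Subgroup Γ'} (h : H.comap f = ⊤) : H = ⊤ := eq_top_iff.2 fun x _ => by
  obtain ⟨y, rfl⟩ := hf x
  exact (h ▸ mem_top y : y ∈ H.comap f)

theorem map_surj {n : ℕ} {R : Type} [CommRing R] (e : R ≃+* F) :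
    Function.Surjective (SpecialLinearGroup.map (n := Fin n) (e : R →+* F)) := fun g =>
  ⟨SpecialLinearGroup.map (e.symm : F →+* R) g, by ext i j; simp⟩

/-- the unipotent radical -/
def uu (a b : F) : SL(3, F) := ⟨!![1, 0, a; 0, 1, b; 0, 0, 1], by simp [det_fin_three]⟩

theorem cy_val : (cy (F := F)).1 = !![0, 0, 1; 1, 0, 0; 0, 1, 0] := rfl
theorem uu_val (a b : F) : (uu a b).1 = !![1, 0, a; 0, 1, b; 0, 0, 1] := rfl

theorem bx (t : F) : (b2 (xx t)).1 = !![1, t, 0; 0, 1, 0; 0, 0, 1] := rfl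
theorem bY (t : F) : (b2 (yy t)).1 = !![1, 0, 0; t, 1, 0; 0, 0, 1] := rfl
theorem bh (s : Fˣ) : (b2 (hh s)).1 = !![(s : F), 0, 0; 0, (s⁻¹ : Fˣ), 0; 0, 0, 1] := rfl

theorem cy3 : cy (F := F) ^ 3 = 1 := Subtype.ext (by
  simp [pow_succ, cy_val, one_fin_three])

theorem cp1 (s : Fˣ) : cp cy 1 (b2 (hh s)) = dg3 (1, s) := by
  rw [cp_one, mul_inv_eq_iff_eq_mul]
  exact Subtype.ext (by simp [cy_val, bh, dg3_val])

theorem cp2 (s : Fˣ) : cp cy 2 (b2 (hh s)) = dg3 (s⁻¹, 1) := by
  rw [← cp_cp cy _ 1 1, cp1, cp_one, mul_inv_eq_iff_eq_mul]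
  exact Subtype.ext (by simp [cy_val, dg3_val])

theorem cp0 (s : Fˣ) : b2 (hh s) = dg3 (s, s⁻¹) :=
  Subtype.ext (by simp [bh, dg3_val])

theorem gen3 (H : Subgroup SL(3, F)) (h1 : ∀ g, b2 g ∈ H) (h2 : cy ∈ H) : H = ⊤ := by
  have cj : ∀ {a b : SL(3, F)}, a ∈ H → cy.1 * a.1 = b.1 * cy.1 → b ∈ H := fun {a b} ha e => by
    rw [show b = cy * a * cy⁻¹ from eq_mul_inv_of_mul_eq (Subtype.ext e.symm)]
    exact mul_mem (mul_mem h2 ha) (inv_mem h2)
  have tv : ∀ (i j : Fin 3) (h : i ≠ j) (c : F), (SpecialLinearGroup.transvection h c).1 =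
      Matrix.of fun a b => (if a = b then 1 else 0) + if a = i ∧ b = j then c else 0 :=
    fun i j h c => mv_tv h c
  have e01 : ∀ c : F, SpecialLinearGroup.transvection (show (0 : Fin 3) ≠ 1 by decide) c ∈ H :=
    fun c => by
      convert h1 (xx c) using 1
      ext i j; fin_cases i <;> fin_cases j <;> simp [tv, bx]
  have e10 : ∀ c : F, SpecialLinearGroup.transvection (show (1 : Fin 3) ≠ 0 by decide) c ∈ H :=
    fun c => by
      convert h1 (yy c) using 1
      ext i j; fin_cases i <;> fin_cases j <;> simp [tv, bY]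
  have st : ∀ (i j : Fin 3) (h : i ≠ j) (h' : i + 1 ≠ j + 1) (c : F),
      SpecialLinearGroup.transvection h c ∈ H → SpecialLinearGroup.transvection h' c ∈ H :=
    fun i j h h' c k => cj k (by
      rw [tv, tv, cy_val]
      ext a b
      fin_cases i <;> fin_cases j <;> simp at h <;> fin_cases a <;> fin_cases b <;>
        simp [mul_apply, Fin.sum_univ_three])
  refine H57.sl_eq_top_of_transvections H fun i j h c => ?_
  have e12 := st 0 1 (by decide) (by decide) c (e01 c)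
  have e21 := st 1 0 (by decide) (by decide) c (e10 c)
  have e20 := st 1 2 (by decide) (by decide) c e12
  have e02 := st 2 1 (by decide) (by decide) c e21
  fin_cases i <;> fin_cases j <;> first | exact absurd rfl h | assumption | exact e01 c | exact e10 c

theorem w7 (hW : JobMW) [Fintype F] (r : ℕ) [CharP F r] (h : r ≠ 2) : W7 PSL(3, F) r := by
  refine (hW F r _ ((pr 3).comp b2) h).2 (fun a b => pr 3 (uu a b)) (fun a b c d => ?_)
    ⟨1, 0, fun e => ?_⟩ (fun t a b => ?_) fun t a b => ?_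
  · rw [← map_mul]
    exact congrArg _ (Subtype.ext (by simp [uu_val, add_comm]))
  · obtain ⟨c, e⟩ := pr_eq_one e
    simpa [uu_val] using congrFun₂ e 0 2
  · exact pr_cj (by simp [uu_val, bx])
  · exact pr_cj (by simp [uu_val, bY, add_comm])

theorem tls [Fintype F] (r : ℕ) [CharP F r] (h : r ≠ 2) (h3 : 3 < Fintype.card F) :
    TLs PSL(3, F) r := by
  have h2 := two_ne (F := F) r h
  have c : ∀ s : Fˣ, cp (pr 3 cy) 1 (((pr 3).comp b2) (hh s)) = pr 3 (dg3 (1, s)) := fun s => by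
    rw [← cp1, map_cp]; rfl
  refine ⟨F, inferInstance, inferInstance, inferInstance, ?_, (pr 3).comp b2, 1, pr 3 cy,
    fun e => ?_, fun s => ⟨by rw [← map_pow, cy3, map_one], ?_, ?_⟩, fun s a => ?_,
    fun s a => by simp, fun g g' => Commute.one_right _, fun s => one_mem _, ?_⟩
  · have : Fintype.card F ≠ 4 := fun e => by
      have := FiniteField.cast_card_eq_zero F
      rw [e, show ((4 : ℕ) : F) = 2 * 2 by norm_num] at this
      exact mul_ne_zero h2 h2 this
    omega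
  · obtain ⟨c, e⟩ := pr_eq_one e
    have e0 := congrFun₂ e 0 0
    have e2 := congrFun₂ e 2 2
    simp [b2_val] at e0 e2
    exact h2 (by linear_combination e0 - e2)
  · rw [c, MonoidHom.comp_apply, cp0]
    exact ((Commute.all _ _).map (dg3 (F := F))).map _
  · rw [c, MonoidHom.comp_apply, ← map_cp, cp2, cp0, ← map_mul, ← map_mul, ← map_mul, ← map_mul]
    simp [show ((1, 1) : Fˣ × Fˣ) = 1 from rfl]
  · simp only [c]
    exact ⟨pr_cj (by simp [dg3_val, bx, mul_comm]), pr_cj (by simp [dg3_val, bY])⟩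
  · exact top_of_map (pr_surj 3) (gen3 _ (fun g => mem_sup_left (mem_sup_left ⟨g, rfl⟩))
      (mem_sup_right (mem_zpowers _)))

theorem hz [Fintype F] (h : Fintype.card F = 3) : HZ PSL(3, F) 3 := by
  let f := (pr 3).comp (SpecialLinearGroup.map (n := Fin 3)
    (ZMod.ringEquivOfPrime F Nat.prime_three h : ZMod 3 →+* F))
  have hf : Function.Surjective f := (pr_surj 3).comp (map_surj _)
  have e : f t3 * f (t3 * y3) = f y3 := by rw [← map_mul]; exact congrArg f (by decide +kernel)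
  refine ⟨f t3, f (t3 * y3), top_of_map hf (eq_top_iff.2 (closure_l3.ge.trans ((closure_le _).2 ?_))),
    by rw [← map_mul, show t3 * t3 = 1 by decide +kernel, map_one],
    by rw [← map_pow, show (t3 * y3) ^ 3 = 1 by decide +kernel, map_one], .inr ⟨?_, ?_⟩, .inl rfl⟩
  · have ha : f t3 ∈ closure {f t3, f (t3 * y3)} := subset_closure (by simp)
    have hb : f (t3 * y3) ∈ closure {f t3, f (t3 * y3)} := subset_closure (by simp)
    exact Set.insert_subset ha (Set.singleton_subset_iff.2 (show f y3 ∈ _ from e ▸ mul_mem ha hb))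
  · rw [e, ← map_pow, show y3 ^ 13 = 1 by decide +kernel, map_one]
  · rw [e, ← map_pow]
    exact f.map_isConj (isConj_iff.2 ⟨⟨!![1, 0, 2; 1, 1, 1; 0, 0, 1], by decide +kernel⟩,
      mul_inv_eq_iff_eq_mul.2 (by decide +kernel)⟩)

theorem jobML3 : JobML3 := fun hW _ _ _ r _ h => ⟨w7 hW r h, tls r h, hz⟩

end H57.O7L
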