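import Cfsg.Agent.H57.O7L3

/-! Tower O7, job `JobML4`: the configuration in `L₄(r)`, `r ≡ 3 mod 4`. -/

set_option autoImplicit false
set_option maxRecDepth 100000

namespace H57.O7L

open Matrix Cfsg Subgroup H31.O7
open H56.SL2M (xx yy hh ww)
open scoped MatrixGroups commutatorElement

variable {F : Type} [Field F]

theorem det4 (g : Matrix (Fin 4) (Fin 4) F) : g.det =
    (g 0 0 * g 1 1 - g 0 1 * g 1 0) * (g 2 2 * g 3 3 - g 2 3 * g 3 2)
    - (g 0 0 * g 1 2 - g 0 2 * g 1 0) * (g 2 1 * g 3 3 - g 2 3 * g 3 1)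
    + (g 0 0 * g 1 3 - g 0 3 * g 1 0) * (g 2 1 * g 3 2 - g 2 2 * g 3 1)
    + (g 0 1 * g 1 2 - g 0 2 * g 1 1) * (g 2 0 * g 3 3 - g 2 3 * g 3 0)
    - (g 0 1 * g 1 3 - g 0 3 * g 1 1) * (g 2 0 * g 3 2 - g 2 2 * g 3 0)
    + (g 0 2 * g 1 3 - g 0 3 * g 1 2) * (g 2 0 * g 3 1 - g 2 1 * g 3 0) := by
  rw [det_succ_row_zero]
  simp [Fin.sum_univ_succ, det_fin_three, Fin.succAbove]
  ring

theorem det2 (g : SL(2, F)) : g 0 0 * g 1 1 - g 0 1 * g 1 0 = 1 := (det_fin_two g.1).symm.trans g.2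

/-- the upper left block -/
def b4 : SL(2, F) →* SL(4, F) := MonoidHom.mk'
  (fun g => ⟨!![g 0 0, g 0 1, 0, 0; g 1 0, g 1 1, 0, 0; 0, 0, 1, 0; 0, 0, 0, 1], by
    simpa [det4] using det2 g⟩) fun a b => Subtype.ext (by
  change _ = (_ : Matrix _ _ F) * (_ : Matrix _ _ F)
  ext i j
  fin_cases i <;> fin_cases j <;> simp [mul_apply, Fin.sum_univ_four])

theorem b4_val (g : SL(2, F)) :
    (b4 g).1 = !![g 0 0, g 0 1, 0, 0; g 1 0, g 1 1, 0, 0; 0, 0, 1, 0; 0, 0, 0, 1] := rfl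

/-- the lower right block -/
def lb (g : SL(2, F)) : SL(4, F) :=
  ⟨!![1, 0, 0, 0; 0, 1, 0, 0; 0, 0, g 0 0, g 0 1; 0, 0, g 1 0, g 1 1], by simpa [det4] using det2 g⟩

/-- the signed four-cycle -/
def σ4 : SL(4, F) := ⟨!![0, 0, 0, -1; 1, 0, 0, 0; 0, 1, 0, 0; 0, 0, 1, 0], by simp [det4]⟩

/-- diagonal signs -/
def dd (a b c : F) (h : a * a = 1 ∧ b * b = 1 ∧ c * c = 1) : SL(4, F) :=
  ⟨!![a, 0, 0, 0; 0, b, 0, 0; 0, 0, c, 0; 0, 0, 0, a * b * c], by
    simp only [det4]; simp; linear_combination b * b * c * c * h.1 + c * c * h.2.1 + h.2.2⟩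

theorem σ4_val : (σ4 (F := F)).1 = !![0, 0, 0, -1; 1, 0, 0, 0; 0, 1, 0, 0; 0, 0, 1, 0] := rfl
theorem lb_val (g : SL(2, F)) :
    (lb g).1 = !![1, 0, 0, 0; 0, 1, 0, 0; 0, 0, g 0 0, g 0 1; 0, 0, g 1 0, g 1 1] := rfl
theorem dd_val (a b c : F) (h : a * a = 1 ∧ b * b = 1 ∧ c * c = 1) :
    (dd a b c h).1 = !![a, 0, 0, 0; 0, b, 0, 0; 0, 0, c, 0; 0, 0, 0, a * b * c] := rfl

theorem tv4 {i j : Fin 4} (h : i ≠ j) (c : F) : (SpecialLinearGroup.transvection h c).1 =
    Matrix.of fun a b => (if a = b then 1 else 0) + if a = i ∧ b = j then c else 0 := by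
  ext a b
  simp [SpecialLinearGroup.transvection_coe, one_apply, single, eq_comm]

theorem gen4 (H : Subgroup SL(4, F)) (hσ : ∀ g ∈ H, σ4 * g * σ4⁻¹ ∈ H) (hw : b4 ww ∈ H)
    (h1 : ∀ c, b4 (xx c) ∈ H) : H = ⊤ := by
  have e01 : ∀ c : F, SpecialLinearGroup.transvection (show (0 : Fin 4) ≠ 1 by decide) c ∈ H :=
    fun c => by
      convert h1 c using 1
      ext i j; fin_cases i <;> fin_cases j <;> simp [tv4, b4_val, H56.SL2M.xx_coe]
  have e10 : ∀ c : F, SpecialLinearGroup.transvection (show (1 : Fin 4) ≠ 0 by decide) c ∈ H :=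
    fun c => by
      convert mul_mem (mul_mem hw (h1 (-c))) (inv_mem hw) using 1
      rw [eq_mul_inv_iff_mul_eq]
      ext i j; fin_cases i <;> fin_cases j <;>
        simp [tv4, b4_val, H56.SL2M.xx_coe, H56.SL2M.ww_coe, mul_apply, Fin.sum_univ_four]
  have st : ∀ {i j : Fin 4} (h : i ≠ j) (h' : i + 1 ≠ j + 1),
      (∀ c : F, SpecialLinearGroup.transvection h c ∈ H) →
        ∀ c : F, SpecialLinearGroup.transvection h' c ∈ H := fun {i j} h h' k c => by
    convert hσ _ (k (if i = 3 ∨ j = 3 then -c else c)) using 1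
    rw [eq_mul_inv_iff_mul_eq]
    refine Subtype.ext ?_
    change (_ : Matrix _ _ F) * (_ : Matrix _ _ F) = (_ : Matrix _ _ F) * (_ : Matrix _ _ F)
    rw [tv4, tv4, σ4_val]
    ext a b
    fin_cases i <;> fin_cases j <;> simp at h <;> fin_cases a <;> fin_cases b <;>
      simp [mul_apply, Fin.sum_univ_four]
  have cm : ∀ {i j k : Fin 4} (h : i ≠ j) (h1 : i ≠ k) (h2 : k ≠ j),
      (∀ c : F, SpecialLinearGroup.transvection h1 c ∈ H) →
      (∀ c : F, SpecialLinearGroup.transvection h2 c ∈ H) →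
        ∀ c : F, SpecialLinearGroup.transvection h c ∈ H := fun h h1 h2 k1 k2 c => by
    rw [← mul_one c, ← H57.sl_commutator_transvection h h1 h2, commutatorElement_def]
    exact mul_mem (mul_mem (mul_mem (k1 _) (k2 _)) (inv_mem (k1 _))) (inv_mem (k2 _))
  have e12 := st _ (by decide) e01
  have e23 := st _ (by decide) e12
  have e30 := st _ (by decide) e23
  have e21 := st _ (by decide) e10
  have e32 := st _ (by decide) e21
  have e03 := st _ (by decide) e32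
  have e02 := cm (by decide) _ _ e01 e12
  have e20 := cm (by decide) _ _ e21 e10
  have e13 := st _ (by decide) e02
  have e31 := st _ (by decide) e20
  refine H57.sl_eq_top_of_transvections H fun i j h c => ?_
  fin_cases i <;> fin_cases j
  exacts [absurd rfl h, e01 c, e02 c, e03 c, e10 c, absurd rfl h, e12 c, e13 c, e20 c, e21 c,
    absurd rfl h, e23 c, e30 c, e31 c, e32 c, absurd rfl h]

/-- the middle block -/
def mb (g : SL(2, F)) : SL(4, F) :=
  ⟨!![1, 0, 0, 0; 0, g 0 0, g 0 1, 0; 0, g 1 0, g 1 1, 0; 0, 0, 0, 1], by simpa [det4] using det2 g⟩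

theorem mb_val (g : SL(2, F)) :
    (mb g).1 = !![1, 0, 0, 0; 0, g 0 0, g 0 1, 0; 0, g 1 0, g 1 1, 0; 0, 0, 0, 1] := rfl

/-- a conjugate of `ww` -/
def j0 : SL(2, F) := ⟨!![1, -2; 1, -1], by norm_num [det_fin_two]⟩

/-- a word for a transvection in characteristic three -/
def wd0 : SL(4, F) := mb j0 * (b4 ww * (b4 j0 * (mb ww * (b4 j0 * (mb j0 * (b4 j0 * (mb j0 *
  (mb ww * (b4 j0 * mb j0)))))))))

theorem wd0_mem (H : Subgroup SL(4, F)) (hσ : ∀ g ∈ H, σ4 * g * σ4⁻¹ ∈ H)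
    (hI : ∀ g : SL(2, F), b4 (g * ww * g⁻¹) ∈ H) : wd0 ∈ H := by
  have h0 : b4 ww ∈ H := by simpa using hI 1
  have h1 : b4 j0 ∈ H := by
    convert hI (xx 1) using 2
    rw [eq_mul_inv_iff_mul_eq]
    refine Subtype.ext ?_
    change !![1, -2; 1, -1] * !![1, 1; 0, 1] = !![1, 1; 0, 1] * !![0, -1; 1, (0 : F)]
    norm_num
  have k : ∀ g, b4 g ∈ H → mb g ∈ H := fun g hg => by
    convert hσ _ hg using 1
    rw [eq_mul_inv_iff_mul_eq]
    exact Subtype.ext (by simp [mb_val, σ4_val, b4_val])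
  have h2 := k _ h0
  have h3 := k _ h1
  exact mul_mem h3 (mul_mem h0 (mul_mem h1 (mul_mem h2 (mul_mem h1 (mul_mem h3 (mul_mem h1
    (mul_mem h3 (mul_mem h2 (mul_mem h1 h3)))))))))

instance : Fact (Nat.Prime 3) := ⟨Nat.prime_three⟩

theorem wd0_eq : b4 (xx (1 : ZMod 3)) = wd0 := by decide +kernel

theorem gen43 (H : Subgroup SL(4, ZMod 3)) (hσ : ∀ g ∈ H, σ4 * g * σ4⁻¹ ∈ H)
    (hI : ∀ g : SL(2, ZMod 3), b4 (g * ww * g⁻¹) ∈ H) : H = ⊤ := by
  refine gen4 H hσ (by simpa using hI 1) fun c => ?_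
  obtain ⟨n, e⟩ := (by decide +kernel : ∀ c : ZMod 3, ∃ n ∈ [0, 1, 2], xx c = xx 1 ^ n) c
  rw [e.2, map_pow, wd0_eq]
  exact pow_mem (wd0_mem H hσ hI) n

theorem key [Fintype F] (h : Fintype.card F % 4 = 3) (H : Subgroup SL(4, F))
    (hσ : ∀ g ∈ H, σ4 * g * σ4⁻¹ ∈ H) (hI : ∀ g : SL(2, F), b4 (g * ww * g⁻¹) ∈ H) : H = ⊤ := by
  by_cases h3 : Fintype.card F = 3
  · let e := ZMod.ringEquivOfPrime F Nat.prime_three h3
    have k1 : SpecialLinearGroup.map (e : ZMod 3 →+* F) σ4 = σ4 := by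
      ext i j; fin_cases i <;> fin_cases j <;> simp [σ4_val]
    have k2 : ∀ g, SpecialLinearGroup.map (e : ZMod 3 →+* F) (b4 g) =
        b4 (SpecialLinearGroup.map (e : ZMod 3 →+* F) g) := fun g => by
      ext i j; fin_cases i <;> fin_cases j <;> simp [b4_val]
    have k3 : SpecialLinearGroup.map (e : ZMod 3 →+* F) ww = ww := by
      ext i j; fin_cases i <;> fin_cases j <;> simp [H56.SL2M.ww_coe]
    refine top_of_map (map_surj e) (gen43 _ (fun g hg => ?_) fun g => ?_)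
    · rw [mem_comap, map_mul, map_mul, map_inv, k1]; exact hσ _ hg
    · rw [mem_comap, k2, map_mul _ _ g⁻¹, map_mul _ g, map_inv, k3]; exact hI _
  · classical
    obtain ⟨s, h0, h1, h2⟩ : ∃ s : F, s ≠ 0 ∧ s ≠ 1 ∧ s ≠ -1 := by
      by_contra! k
      have : (Finset.univ : Finset F) ⊆ {0, 1, -1} := fun s _ => by
        simp only [Finset.mem_insert, Finset.mem_singleton]; tauto
      have := (Finset.card_le_card this).trans Finset.card_le_three
      rw [Finset.card_univ] at this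
      omega
    have h4 : s ^ 4 - 1 ≠ 0 := fun e => by
      have : (s * s + 1) * ((s - 1) * (s + 1)) = 0 := by linear_combination e
      rcases mul_eq_zero.1 this with k | k
      · exact FiniteField.isSquare_neg_one_iff.1 ⟨s, by linear_combination -k⟩ h
      · exact mul_ne_zero (sub_ne_zero.2 h1) (fun k => h2 (by linear_combination k)) k
    have N : normalClosure {ww} ≤ H.comap b4 := (closure_le _).2 fun x hx => by
      obtain ⟨a, rfl, k⟩ := Group.mem_conjugatesOfSet_iff.1 hx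
      obtain ⟨c, rfl⟩ := isConj_iff.1 k
      exact hI c
    have w : ww ∈ normalClosure {(ww : SL(2, F))} := subset_normalClosure rfl
    have n := normalClosure_normal (s := {(ww : SL(2, F))})
    let u := Units.mk0 s h0
    have a : hh (u * u) ∈ normalClosure {(ww : SL(2, F))} := by
      convert mul_mem (n.conj_mem _ w (hh u)) (inv_mem w) using 1
      rw [eq_mul_inv_iff_mul_eq, eq_mul_inv_iff_mul_eq]
      ext i j; fin_cases i <;> fin_cases j <;>
        simp [u, H56.SL2M.hh_coe, H56.SL2M.ww_coe, mul_apply, Fin.sum_univ_two, h0]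
    refine gen4 H hσ (N w) fun c => N ?_
    convert mul_mem a (n.conj_mem _ (inv_mem a) (xx (c / (s ^ 4 - 1)))) using 1
    rw [← mul_assoc, ← mul_assoc, eq_mul_inv_iff_mul_eq, eq_mul_inv_iff_mul_eq]
    ext i j; fin_cases i <;> fin_cases j <;>
      simp [u, H56.SL2M.hh_coe, H56.SL2M.xx_coe, mul_apply, Fin.sum_univ_two, h0]
    field_simp; ring

theorem pr_neg {a b : SL(4, F)} (h : a.1 = -b.1) : pr 4 a = pr 4 b := by
  have : a * b⁻¹ ∈ center SL(4, F) := Matrix.SpecialLinearGroup.mem_center_iff.2 ⟨-1, by norm_num, by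
    change _ = a.1 * (b⁻¹).1
    rw [h, Matrix.neg_mul, show b.1 * (b⁻¹).1 = 1 from congrArg Subtype.val (mul_inv_cancel b), map_neg, map_one]⟩
  rw [← mul_inv_eq_one, ← map_inv, ← map_mul]
  exact (QuotientGroup.eq_one_iff _).2 this

theorem q8y [Fintype F] (h2 : (2 : F) ≠ 0) : ∃ j y : SL(2, F), j * j = ww * ww ∧
    ww * j * ww⁻¹ = j⁻¹ ∧ y * ww * y⁻¹ = j ∧ y * j * y⁻¹ = ww * j := by
  obtain ⟨p, hp⟩ := CharP.exists F
  have : Fact p.Prime := ⟨CharP.char_is_prime F p⟩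
  obtain ⟨a, b, h⟩ := CharP.sq_add_sq F p (-1)
  push_cast at h
  generalize (a : F) = a, (b : F) = b at h
  let j : SL(2, F) := ⟨!![a, b; b, -a], by rw [det_fin_two_of]; linear_combination -h⟩
  let y : SL(2, F) := ⟨!![(1 + a - b) / 2, (a + b - 1) / 2; (1 + a + b) / 2, (1 - a + b) / 2], by
    rw [det_fin_two_of]; field_simp; linear_combination -2 * h⟩
  have jv : j.1 = !![a, b; b, -a] := rfl
  have yv : y.1 = !![(1 + a - b) / 2, (a + b - 1) / 2; (1 + a + b) / 2, (1 - a + b) / 2] := rfl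
  clear_value j y
  refine ⟨j, y, ?_, mul_inv_eq_iff_eq_mul.2 (eq_inv_mul_iff_mul_eq.2 ?_),
    mul_inv_eq_iff_eq_mul.2 ?_, mul_inv_eq_iff_eq_mul.2 ?_⟩
  all_goals
    ext s t; fin_cases s <;> fin_cases t <;>
      simp [jv, yv, H56.SL2M.ww_coe, mul_apply, Fin.sum_univ_two] <;> (try field_simp) <;>
      first | ring1 | linear_combination h | linear_combination -h

theorem jobML4 : JobML4 := by
  intro F _ _ h
  have h2 : (2 : F) ≠ 0 := fun e =>
    FiniteField.isSquare_neg_one_iff.1 ⟨1, by linear_combination -e⟩ h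
  obtain ⟨j, y, e1, e2, e3, e4⟩ := q8y h2
  let φ := (pr (F := F) 4).comp b4
  let s := pr (F := F) 4 σ4
  let t := dd (-1 : F) (-1) 1 (by simp)
  let z := dd (-1 : F) 1 (-1) (by simp)
  let v := dd (1 : F) (-1) (-1) (by simp)
  have ii : φ ww * φ ww = pr 4 t := by
    rw [← map_mul]
    refine congrArg (pr 4) ?_
    ext a b; fin_cases a <;> fin_cases b <;>
      simp [t, dd_val, b4_val, H56.SL2M.ww_coe, mul_apply, Fin.sum_univ_succ]
  have tz : pr 4 t * pr 4 z = pr 4 v := by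
    rw [← map_mul]; exact congrArg _ (Subtype.ext (by simp [t, z, v, dd_val]))
  have zt : pr 4 z * pr 4 t = pr 4 v := by
    rw [← map_mul]; exact congrArg _ (Subtype.ext (by simp [t, z, v, dd_val]))
  have st : s * pr 4 t * s⁻¹ = pr 4 v := pr_cj (by simp [t, v, dd_val, σ4_val])
  have sz : s * pr 4 z * s⁻¹ = pr 4 z := by
    rw [mul_inv_eq_iff_eq_mul, ← map_mul, ← map_mul]
    exact pr_neg (by simp [z, dd_val, σ4_val])
  have sv : s * pr 4 v * s⁻¹ = pr 4 t := by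
    rw [mul_inv_eq_iff_eq_mul, ← map_mul, ← map_mul]
    exact pr_neg (by simp [t, v, dd_val, σ4_val])
  have ne : ∀ (a b c : F) (k), pr 4 (dd a b c k) = 1 → a = b ∧ a = c := fun a b c k e => by
    obtain ⟨r, e⟩ := pr_eq_one e
    have e0 := congrFun₂ e 0 0
    have e1 := congrFun₂ e 1 1
    have e2 := congrFun₂ e 2 2
    simp [dd_val] at e0 e1 e2
    exact ⟨e0.symm.trans e1, e0.symm.trans e2⟩
  have n1 : (-1 : F) ≠ 1 := fun e => h2 (by linear_combination -e)
  have c : ∀ g, Commute (s * s * φ ww * (s * s)⁻¹) (φ g) := fun g => by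
    have : s * s * φ ww * (s * s)⁻¹ = pr 4 (lb ww) := by
      rw [← map_mul]
      exact pr_cj (by simp [σ4_val, lb_val, b4_val])
    rw [this]
    have : lb ww * b4 g = b4 g * lb ww := Subtype.ext (by simp [lb_val, b4_val])
    exact Commute.map this (pr 4)
  have zz : pr 4 z * pr 4 z = 1 := by
    rw [← map_mul, ← map_one (pr (F := F) 4)]
    exact congrArg _ (Subtype.ext (by
      ext a b; fin_cases a <;> fin_cases b <;> simp [z, dd_val]))
  refine ⟨φ ww, φ j, φ y, s * s, pr 4 z, ⟨⟨by rw [← map_mul, e1, map_mul],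
    by rw [← map_inv, ← map_mul, ← map_mul, e2, map_inv], fun e => n1 (ne _ _ _ _ (ii ▸ e)).2⟩,
    by rw [← map_inv, ← map_mul, ← map_mul, e3], by rw [← map_inv, ← map_mul, ← map_mul, e4, map_mul],
    ?_, c _, c _, c _⟩, fun e => n1 (ne _ _ _ _ e).1, zz, fun e => ?_, ?_,
    top_of_map (pr_surj 4) (key h _ (fun g hg => ?_) fun g => ?_)⟩
  · rw [ii]
    refine mul_inv_eq_iff_eq_mul.1 ?_
    calc _ = s * (s * pr 4 t * s⁻¹) * s⁻¹ := by group
      _ = _ := by rw [st, sv]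
  · rw [ii] at e
    exact n1 (ne _ _ _ _ (show pr 4 v = 1 by rw [← tz, ← e, zz])).1.symm
  · rw [ii]; exact zt.trans tz.symm
  · rw [mem_comap, map_mul, map_mul, map_inv]
    refine closure_induction (p := fun x _ => s * x * s⁻¹ ∈ _) (fun x hx => subset_closure ?_)
      (by simp) (fun a b _ _ ha hb => ?_) (fun a _ ha => ?_) (mem_comap.1 hg)
    · obtain ⟨c, k, rfl⟩ := hx
      refine ⟨s * c, ?_, by group⟩
      rw [show s * c * (φ ww * φ ww) * (s * c)⁻¹ = s * (c * (φ ww * φ ww) * c⁻¹) * s⁻¹ by group]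
      rcases k with k | k | k <;> rw [k, ii, tz]
      exacts [.inr (.inr st), .inr (.inl sz), .inl sv]
    · rw [show s * (a * b) * s⁻¹ = s * a * s⁻¹ * (s * b * s⁻¹) by group]
      exact mul_mem ha hb
    · rw [show s * a⁻¹ * s⁻¹ = (s * a * s⁻¹)⁻¹ by group]
      exact inv_mem ha
  · refine subset_closure ⟨φ g, .inl ?_, by simp [φ]⟩
    have : ww * ww = (-1 : SL(2, F)) := by
      ext a b; fin_cases a <;> fin_cases b <;> simp [H56.SL2M.ww_coe, mul_apply, Fin.sum_univ_two]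
    rw [← map_mul, ← map_inv, ← map_mul, ← map_mul, this]
    simp

end H57.O7L
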