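import Cfsg.Agent.H85.S3Kit
import Cfsg.Agent.H30.DZL

/-! S3 (`blueprints/S3.md`), `JobA0`: a Sylow `2`-subgroup of `N ⟨t, v, z⟩`. -/

set_option autoImplicit false
set_option linter.unusedSectionVars false

namespace H57.S3A

open Subgroup Cfsg H98 H1.Gold H85.FZ H49.D8 H85.S3

universe u

variable {G : Type u} [Group G] [Finite G] {t v s z j σ τ n x y e : G} {R : Subgroup G}
  {α β : G →* G}

/-- The Sylow `2`-subgroup `R` of the stabilizer of `1 < V < A`; `α`, `β` are the conjugations by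
the element of order three and by `s`. -/
structure RD (t v s z : G) (α β : G →* G) (R : Subgroup G) : Prop extends DH v s z where
  tt : t * t = 1
  tV : t ∉ cl [v, z]
  cV : ∀ y ∈ R, ∀ e ∈ cl [v, z], y * e = e * y
  ker : ∀ y ∈ R, y * t = t * y → y ∈ cl [v, z] ∨ t * y ∈ cl [v, z]
  sq : ∀ y ∈ R, y * y ∈ cl [v, z]
  tR : t ∈ R
  vR : v ∈ R
  αR : ∀ y ∈ R, α y ∈ R
  βR : ∀ y ∈ R, β y ∈ R
  αt : α t = t
  αz : α z = v
  αv : α v = v * z
  βt : β t = t
  βz : β z = z
  βv : β v = v * z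
  ββ : ∀ x, β (β x) = x
  αβ : ∀ x, α (β (α x)) = β x
  α3 : ∀ y ∈ R, α (α (α y)) = y

namespace RD

variable (h : RD t v s z α β R)
include h

theorem vz1 : v ≠ z := fun e => h.toDH.nc (by rw [e, h.sz])

theorem v1 : v ≠ 1 := fun e => h.toDH.nc (by simp [e])

theorem αvz : α (v * z) = z := by
  rw [map_mul, h.αv, h.αz, h.vz, mul_assoc, h.vv, mul_one]

theorem αV (he : e ∈ cl [v, z]) : α e ∈ cl [v, z] := by
  rcases h.toDH.memV.1 he with a | a | a | a <;> rw [a]
  exacts [by rw [map_one]; exact one_mem _, h.αz ▸ m1 v z, h.αv ▸ mul_mem (m1 v z) (m2 v z),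
    h.αvz.symm ▸ m2 v z]

theorem fixα (he : e ∈ cl [v, z]) (k : α e = e) : e = 1 := by
  rcases h.toDH.memV.1 he with a | a | a | a <;> rw [a] at k
  · exact a
  · exact absurd (h.αz.symm.trans k) h.vz1
  · exact absurd (by simpa using h.αv.symm.trans k) h.z1
  · exact absurd (by simpa using h.αvz.symm.trans k) h.v1

theorem fixβ (he : e ∈ cl [v, z]) (k : β e = e) : e = 1 ∨ e = z := by
  rcases h.toDH.memV.1 he with a | a | a | a
  exacts [.inl a, .inr a, absurd (by simpa [a, h.βv] using k) h.z1,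
    absurd (by simpa [a, h.βv, h.βz] using k) h.z1]

theorem th1 (k : y * t * y⁻¹ = t * z) : α y * t * (α y)⁻¹ = t * v := by
  simpa [h.αt, h.αz] using congrArg α k

/-- `y ↦ y y₁ y₂` under `y ↦ y t e` -/
theorem shift (hy : y ∈ R) (k : y * t * y⁻¹ = t * z) (he : e ∈ cl [v, z]) : ∃ u ∈ cl [v, z],
    y * (t * e) * α (y * (t * e)) * α (α (y * (t * e))) = y * α y * α (α y) * t * u := by
  have e1 := h.αV he
  have e2 := h.αV e1
  have k1 := h.th1 k
  have y1 := h.αR _ hy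
  have y2 := h.αR _ y1
  simp only [map_mul, h.αt]
  generalize α (α e) = e'' at e2 ⊢
  generalize α e = e' at e1 ⊢
  generalize α (α y) = y'' at y2 ⊢
  generalize α y = y' at y1 k1 ⊢
  refine ⟨v * e * e' * e'', mul_mem (mul_mem (mul_mem (m1 v z) he) e1) e2, ?_⟩
  have a1 := h.cV _ (mul_mem y1 (mul_mem h.tR (mul_mem y2 h.tR))) e he
  have a2 := h.cV _ (mul_mem y2 h.tR) e' e1
  have a3 := h.cV _ (mul_mem y1 (mul_mem y2 h.tR)) v (m1 v z)
  calc _ = y * t * (e * (y' * (t * (e' * (y'' * t))))) * e'' := by group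
    _ = y * t * (e * (y' * (t * (y'' * t)))) * e' * e'' := by rw [← a2]; group
    _ = y * t * (y' * t * y'⁻¹) * (y' * (y'' * t)) * e * e' * e'' := by rw [← a1]; group
    _ = y * (t * t) * (v * (y' * (y'' * t))) * e * e' * e'' := by rw [k1]; group
    _ = _ := by rw [h.tt, ← a3]; group

theorem core (hy : y ∈ R) (k : y * t * y⁻¹ = t * z) (hV : y * α y * α (α y) ∈ cl [v, z]) :
    α (α y) = (y * α y)⁻¹ ∧ y * α y = α y * y ∧ (β y = y ∨ β y = y * z) := by
  have y1 := h.αR _ hy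
  have a1 := h.fixα hV (by
    rw [map_mul, map_mul, h.α3 _ hy, ← mul_right_inj y, h.cV y hy _ hV]; group)
  have a2 : α (α y) = (y * α y)⁻¹ := eq_inv_of_mul_eq_one_right a1
  have a3 : y * α y = α y * y := by
    have b1 : (α y * y)⁻¹ * (y * α y) ∈ cl [v, z] := by
      have := mul_mem (mul_mem (h.sq _ (inv_mem (mul_mem y1 hy))) (h.sq _ y1))
        (h.sq _ (mul_mem (mul_mem (inv_mem y1) hy) y1))
      convert this using 1
      group
    rw [eq_comm, ← inv_mul_eq_one]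
    refine h.fixα b1 ?_
    rw [map_mul, map_inv, map_mul, map_mul, a2, ← mul_left_inj y, ← h.cV y hy _ b1]
    group
  refine ⟨a2, a3, ?_⟩
  have s1 := h.βR _ hy
  have s2 : β y * t * (β y)⁻¹ = t * z := by simpa [h.βt, h.βz] using congrArg β k
  rcases h.ker _ (mul_mem (inv_mem hy) s1) (by
    rw [mul_assoc, mul_inv_eq_iff_eq_mul.1 s2, ← k]; group) with b | b
  · refine (h.fixβ b ?_).imp (fun e => (inv_mul_eq_one.1 e).symm) fun e => by rw [← e]; group
    rw [map_mul, map_inv, h.ββ, ← inv_eq_of_mul_eq_one_right (h.toDH.sqV b)]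
    group
  · obtain ⟨u, u1, u2⟩ := h.shift hy k b
    have b1 : α (β y) = β (α (α y)) := by rw [← h.αβ (α (α y)), h.α3 _ hy]
    have b2 : α (β (α (α y))) = β (α y) := h.αβ _
    rw [← mul_assoc t t, h.tt, one_mul, mul_inv_cancel_left, a1, one_mul, b1, b2, ← map_mul,
      ← map_mul, a2, show y * (y * α y)⁻¹ * α y = 1 by rw [a3]; group, map_one] at u2
    exact absurd ((mul_mem_cancel_right u1).1 (u2 ▸ one_mem _)) h.tV

theorem exists_f (hy : y ∈ R) (k : y * t * y⁻¹ = t * z) : ∃ f ∈ R, f * t * f⁻¹ = t * z ∧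
    α (α f) = (f * α f)⁻¹ ∧ f * α f = α f * f ∧ β f = f := by
  have tz := h.cV t h.tR z (m2 v z)
  have tv := h.cV t h.tR v (m1 v z)
  obtain ⟨y, hy, k, hV⟩ : ∃ y ∈ R, y * t * y⁻¹ = t * z ∧ y * α y * α (α y) ∈ cl [v, z] := by
    have y1 := h.αR _ hy
    have y2 := h.αR _ y1
    have k2 : α (α y) * t * (α (α y))⁻¹ = t * (v * z) := by
      simpa [h.αt, h.αv] using congrArg α (h.th1 k)
    have c : y * α y * α (α y) * t = t * (y * α y * α (α y)) := by
      rw [← mul_inv_eq_iff_eq_mul]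
      calc _ = y * (α y * (α (α y) * t * (α (α y))⁻¹) * (α y)⁻¹) * y⁻¹ := by group
        _ = y * (α y * t * (α y)⁻¹ * (α y * (v * z) * (α y)⁻¹)) * y⁻¹ := by rw [k2]; group
        _ = y * t * y⁻¹ * (y * (v * v * z) * y⁻¹) := by
          rw [h.th1 k, h.cV _ y1 _ (mul_mem (m1 v z) (m2 v z))]; group
        _ = t := by
          rw [k, h.vv, one_mul, h.cV y hy z (m2 v z), mul_inv_cancel_right, mul_assoc, h.zz, mul_one]
    rcases h.ker _ (mul_mem (mul_mem hy y1) y2) c with b | b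
    · exact ⟨y, hy, k, b⟩
    · obtain ⟨u, u1, u2⟩ := h.shift hy k (one_mem _)
      exact ⟨y * (t * 1), mul_mem hy (mul_mem h.tR (one_mem _)), by rw [← k]; group,
        u2 ▸ mul_mem (c ▸ b) u1⟩
  obtain ⟨a1, a2, a3 | a3⟩ := h.core hy k hV
  · exact ⟨y, hy, k, a1, a2, a3⟩
  have k' : y * v * t * (y * v)⁻¹ = t * z := by rw [← k, mul_assoc y v, ← tv]; group
  have c := fun x hx => h.cV x hx v (m1 v z)
  have y1 := h.αR _ hy
  obtain ⟨b1, b2, -⟩ := h.core (mul_mem hy h.vR) k' (by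
    have := mul_mem (mul_mem (mul_mem hV (m1 v z)) (mul_mem (m1 v z) (m2 v z))) (m2 v z)
    convert this using 1
    rw [map_mul α y, h.αv, map_mul α (α y), h.αvz]
    calc _ = y * (v * α y) * (v * z * α (α y)) * z := by group
      _ = y * α y * (v * α (α y)) * (v * z) * z := by
        rw [← c _ y1, ← h.cV _ (h.αR _ y1) _ (mul_mem (m1 v z) (m2 v z))]; group
      _ = _ := by rw [← c _ (h.αR _ y1)]; group)
  exact ⟨_, mul_mem hy h.vR, k', b1, b2, by
    rw [map_mul, a3, h.βv, mul_assoc, ← mul_assoc z, ← h.vz, mul_assoc v, h.zz, mul_one]⟩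

end RD

/-- letters `z 0, v 1, s 2, j 3, t 4` -/
def tb5 : Tb := .of 5 [(2, 1, [1, 0]), (3, 1, [2]), (3, 2, [1])] [(3, [0])]

section SA

variable (h : SA t v s z j σ n)
include h

theorem zt : z * t = t * z := by rw [← h.jj, mul_assoc, h.jt, ← mul_assoc, h.jt, mul_assoc]

theorem pres5 : Pres tb5 (val [z, v, s, j, t]) := by
  refine ⟨fun i hi k hk => ?_, fun i hi => ?_⟩ <;> change i < 5 at hi
  · interval_cases i <;> interval_cases k <;> simp only [tb5] <;> wsimp
    exacts [h.vz.symm, h.sz.symm, h.vs, h.toSD.jz.symm, by rw [← h.js]; group,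
      by rw [← h.jv]; group, zt h, h.vt, h.st, h.jt]
  · interval_cases i <;> simp only [tb5] <;> wsimp
    exacts [h.zz, h.vv, h.ss, h.jj, h.tt]

theorem ind5 : Ind (val [z, v, s, j, t]) 5 :=
  Ind.snoc (l := [z, v, s, j]) h.toSD.ind (h.toSD.cl4 ▸ h.tS)

theorem word5 (hx : x ∈ cl [v, s, j, t]) : ∃ w ∈ subs 5, x = W (val [z, v, s, j, t]) w :=
  (pres5 h).mem_cl rfl 5 le_rfl (cl_mono (by simp) hx)

theorem tV : t ∉ cl [v, z] := fun k => h.tS (h.toSD.D_le (h.toDH.V_le k))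

theorem cj_t (hg : x * t = t * x) (k : IsConj t (t * y)) : IsConj t (t * (x * y * x⁻¹)) :=
  k.trans (isConj_iff.2 ⟨x, by rw [← mul_assoc, hg]; group⟩)

theorem cz : IsConj t (t * z) := isConj_iff.2 ⟨n, h.nt⟩

theorem cv : IsConj t (t * v) := h.tri.1 ▸ cj_t h h.σt (cz h)

theorem cvz : IsConj t (t * (v * z)) := h.tri.2 ▸ cj_t h h.σt (cv h)

theorem cs : IsConj t (t * s) := h.jv ▸ cj_t h h.jt (cv h)

theorem csz : IsConj t (t * (s * z)) := by
  have := cj_t h h.jt (cvz h)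
  rwa [← conj_mul, h.jv, h.toSD.jz, mul_inv_cancel_right] at this

theorem notD (k : KT t) (he : e ∈ cl [v, z]) : ¬ IsConj t e := fun c => by
  by_cases e1 : e = 1
  · exact k.nsq 1 (by rwa [e1, ← mul_one 1] at c)
  · obtain ⟨y, -, hy⟩ := h.tri.to_z h.toDH he e1
    exact k.nsq j (h.jj ▸ c.trans (isConj_iff.2 ⟨y, hy⟩))

theorem exists_m (k : KT t) : ∃ m, m * z * m⁻¹ = z ∧ m * v * m⁻¹ = v ∧ m * t * m⁻¹ = t * z := by
  have P := pres5 h
  have I := ind5 h
  have nz : n * z * n⁻¹ = z := by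
    obtain ⟨w, hw, e⟩ := word5 h (conj_mem_of_mem_normalizer h.nT (mem_cl (y := j) (by simp)))
    have e1 : n * z * n⁻¹ = W (val [z, v, s, j, t]) (w ++ w) := by
      rw [W_append, ← e, conj_mul, h.jj]
    rcases (by decide +kernel : ∀ w ∈ subs 5, tb5.eqv (w ++ w ++ (w ++ w)) [] = false ∨
      tb5.same (w ++ w) [] = true ∨ tb5.same (w ++ w) [0] = true) w hw with a | a | a
    · exact absurd (by rw [W_append, ← e1, conj_mul, h.zz]; simp) (P.ne I a)
    · exact absurd (by simpa using e1.trans (P.W_eq a)) h.z1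
    · simpa using e1.trans (P.W_eq a)
  obtain ⟨m, k1, k2, k3⟩ : ∃ m, m * z * m⁻¹ = z ∧ (m * v * m⁻¹ = v ∨ m * v * m⁻¹ = v * z) ∧
      m * t * m⁻¹ = t * z := by
    obtain ⟨w, hw, e⟩ := word5 h (conj_mem_of_mem_normalizer h.nT (mem_cl (y := v) (by simp)))
    have nD : ¬ IsConj t (n * v * n⁻¹) := fun c =>
      notD h k (m1 v z) (c.trans (isConj_iff.2 ⟨n, rfl⟩ : IsConj v _).symm)
    have jz : j * z * j⁻¹ = z := by rw [h.toSD.jz, mul_inv_cancel_right]
    have c := fun x : G => show j * n * x * (j * n)⁻¹ = j * (n * x * n⁻¹) * j⁻¹ by group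
    have jm : ∀ x, n * v * n⁻¹ = x → (j * x * j⁻¹ = v ∨ j * x * j⁻¹ = v * z) → ∃ m, m * z * m⁻¹ = z ∧
        (m * v * m⁻¹ = v ∨ m * v * m⁻¹ = v * z) ∧ m * t * m⁻¹ = t * z := fun x a b =>
      ⟨j * n, by rw [c, nz, jz], by rwa [c, a], by
        rw [c, h.nt, ← conj_mul, jz, h.jt, mul_inv_cancel_right]⟩
    rcases (by decide +kernel : ∀ w ∈ subs 5, tb5.eqv (w ++ w) [] = false ∨ w ∈ [[], [0], [1], [1, 0],
      [2], [2, 0], [4], [4, 0], [4, 1], [4, 1, 0], [4, 2], [4, 2, 0]]) w hw with a | a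
    · exact absurd (by rw [W_append, ← e, conj_mul, h.vv]; simp) (P.ne I a)
    simp only [List.mem_cons, List.not_mem_nil, or_false] at a
    rcases a with rfl | rfl | rfl | rfl | rfl | rfl | rfl | rfl | rfl | rfl | rfl | rfl <;> wsimp at e
    · exact absurd (by simp [conj_eq_one_iff.1 e]) h.toDH.nc
    · exact absurd (by rw [mul_left_cancel (mul_right_cancel (e.trans nz.symm)), h.sz]) h.toDH.nc
    · exact ⟨n, nz, .inl e, h.nt⟩
    · exact ⟨n, nz, .inr e, h.nt⟩
    · exact jm _ e (.inl h.js)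
    · exact jm _ e (.inr (by rw [← conj_mul, h.js, jz]))
    all_goals rw [e] at nD
    exacts [(nD (IsConj.refl t)).elim, (nD (cz h)).elim, (nD (cv h)).elim, (nD (cvz h)).elim,
      (nD (cs h)).elim, (nD (csz h)).elim]
  rcases k2 with k2 | k2
  · exact ⟨m, k1, k2, k3⟩
  have c := fun x : G => show s * m * x * (s * m)⁻¹ = s * (m * x * m⁻¹) * s⁻¹ by group
  exact ⟨s * m, by rw [c, k1, h.sz, mul_inv_cancel_right], by rw [c, k2, ← h.vs, mul_inv_cancel_right],
    by rw [c, k3, ← mul_assoc, h.st, mul_assoc t, h.sz]; group⟩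

theorem presA : Pres (.of 3 []) (val [z, v, t]) := by
  refine ⟨fun i hi k hk => ?_, fun i hi => ?_⟩ <;> change i < 3 at hi
  · interval_cases i <;> interval_cases k <;> wsimp
    exacts [h.vz.symm, zt h, h.vt]
  · interval_cases i <;> wsimp
    exacts [h.zz, h.vv, h.tt]

theorem memA (hx : x ∈ cl [z, v, t]) : x ∈ cl [v, z] ∨ t * x ∈ cl [v, z] := by
  have := (presA h).mem_succ rfl (k := 2) (by decide) (g := x) (by rwa [H_val])
  rwa [H_val, show List.take 2 [z, v, t] = [z, v] from rfl, cl_sw, val_succ, val_succ, val_zero,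
    inv_eq_of_mul_eq_one_right h.tt] at this

theorem ind2 : Ind (val [z, v]) 2 := fun i hi => by
  have := h.toDH.ind i (by omega)
  rw [H_val] at this ⊢
  interval_cases i <;> exact this

theorem cardA : Nat.card (cl [z, v, t]) = 8 := by
  have := (presA h).card rfl (k := 3) le_rfl (Ind.snoc (l := [z, v]) (ind2 h) (cl_sw v z ▸ tV h))
  rwa [H_val] at this

theorem VA : cl [v, z] ≤ cl [z, v, t] := cl_mono (by simp)

theorem tcV (he : e ∈ cl [v, z]) : e * t = t * e := mc1.1 (cl2_le (mc1.2 h.vt) (mc1.2 (zt h)) he)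

theorem sqA (hx : x ∈ cl [z, v, t]) : x * x = 1 := by
  obtain ⟨w, hw, rfl⟩ := (presA h).mem_cl rfl 3 le_rfl hx
  simpa using (presA h).W_eq ((by decide +kernel : ∀ w ∈ subs 3,
    (Tb.of 3 []).same (w ++ w) [] = true) w hw)

theorem tD (he : e ∈ cl [v, z]) : IsConj t (t * e) := by
  rcases h.toDH.memV.1 he with a | a | a | a <;> rw [a]
  exacts [by rw [mul_one], cz h, cv h, cvz h]

theorem exists_R (k : KT t) : ∃ τ R, RD t v s z (MulAut.conj τ).toMonoidHom
    (MulAut.conj s).toMonoidHom R ∧ ∃ y ∈ R, y * t * y⁻¹ = t * z := by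
  have D := h.toDH
  have zA : z ∈ cl [z, v, t] := mem_cl (by simp)
  have vA : v ∈ cl [z, v, t] := mem_cl (by simp)
  have tA : t ∈ cl [z, v, t] := mem_cl (by simp)
  have si : s⁻¹ = s := inv_eq_of_mul_eq_one_right h.ss
  have sz : s * z * s⁻¹ = z := by rw [h.sz, mul_inv_cancel_right]
  have st : s * t * s⁻¹ = t := by rw [h.st, mul_inv_cancel_right]
  have sv : s * v * s⁻¹ = v * z := by rw [si, mul_assoc, h.vs, ← mul_assoc, h.ss, one_mul]
  have σt : σ * t * σ⁻¹ = t := by rw [h.σt, mul_inv_cancel_right]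
  have two : IsPGroup 2 (cl [z, v, t]) := IsPGroup.of_card (n := 3) (cardA h)
  obtain ⟨K, S, mK, nK⟩ := H30.DZ.jobL.stab G [cl [v, z]] (cl [z, v, t])
    (by simp [VA h]) two
  have AA : cl [z, v, t] ≤ cen (cl [z, v, t]) := fun a ha => mcen.2 fun b hb => by
    rw [← inv_eq_of_mul_eq_one_right (sqA h (mul_mem hb ha)), mul_inv_rev,
      inv_eq_of_mul_eq_one_right (sqA h ha), inv_eq_of_mul_eq_one_right (sqA h hb)]
  have sA : s ∈ nor (cl [z, v, t]) := nor_cl (by simp [sz, st, sv, zA, tA, mul_mem vA zA])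
  have σA : σ ∈ nor (cl [z, v, t]) :=
    nor_cl (by simp [h.tri.1, h.tri.2, σt, vA, tA, mul_mem vA zA])
  have sK : s ∈ nor K := nK s (by simpa using ⟨D.le_norV (m2 v s), sA⟩)
  obtain ⟨R, R1, R2, R3, -⟩ := H30.DZ.jobL.lift0 G _ K (cl [z, v, t] ⊔ zpowers s) S
    (H30.DZ.two_sup_zpowers two sA (k := 1) (by rw [pow_one, pow_two, h.ss]; exact one_mem _))
    (sup_le ((AA.trans S.ge).trans le_normalizer) (zpowers_le.2 sK))
  have AR : cl [z, v, t] ≤ R := (le_inf le_sup_left (AA.trans S.ge)).trans R3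
  have sR := R2 (mem_sup_right (mem_zpowers s))
  have sc : ∀ x ∈ cen (cl [z, v, t]), x ∈ R → x ∈ cl [z, v, t] := fun x a b =>
    k.sc t (IsConj.refl t) _ tA (fun e => sqA h) (cardA h) (R ⊓ cen (cl [z, v, t])) inf_le_right
      (R1.isPGroup.to_le inf_le_left) ⟨b, a⟩
  have ofc : ∀ g : G, g * z * g⁻¹ = z → g * v * g⁻¹ = v → g * t * g⁻¹ = t → g ∈ cen (cl [z, v, t]) :=
    fun g a b c => cen_cl.2 (by
      simp only [List.mem_cons, List.not_mem_nil, or_false, forall_eq_or_imp, forall_eq]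
      exact ⟨(mul_inv_eq_iff_eq_mul.1 a).symm, (mul_inv_eq_iff_eq_mul.1 b).symm,
        (mul_inv_eq_iff_eq_mul.1 c).symm⟩)
  have cm : ∀ a b x : G, a * b * x * (a * b)⁻¹ = a * (b * x * b⁻¹) * a⁻¹ := fun a b x => by group
  have σvz := h.tri.vz D
  have svz : s * (v * z) * s⁻¹ = v := by rw [← h.vs, mul_inv_cancel_right]
  obtain ⟨c, c1, c2, c3, c4⟩ := H30.DZ.jobL.lift G _ K R s σ S (AA.trans S.ge) sc R1 sR sA h.ss
    (nK σ (by simpa using ⟨h.tri.nor, σA⟩)) σA
    (ofc _ (by simp only [cm, h.tri.1, h.tri.2, σvz]) (by simp only [cm, h.tri.1, h.tri.2, σvz])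
      (by simp only [cm, σt]))
    (ofc _ (by simp only [cm, h.tri.1, sv, σvz, sz]) (by simp only [cm, h.tri.2, svz])
      (by simp only [cm, σt, st]))
  have cc : ∀ a ∈ cl [z, v, t], c * a * c⁻¹ = a := fun a ha => by
    rw [← mcen.1 c1 a ha, mul_inv_cancel_right]
  have cV : ∀ y ∈ R, ∀ e ∈ cl [v, z], y * e = e * y := fun y hy e he =>
    mul_inv_eq_iff_eq_mul.1 (mul_inv_eq_one.1 (mem_bot.1 (((mK y).1 (R1.le hy)).1 e he)))
  have ker : ∀ y ∈ R, y * t = t * y → y ∈ cl [v, z] ∨ t * y ∈ cl [v, z] := fun y hy e =>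
    memA h (sc y (cen_cl.2 (by
      simp only [List.mem_cons, List.not_mem_nil, or_false, forall_eq_or_imp, forall_eq]
      exact ⟨(cV y hy z (m2 v z)).symm, (cV y hy v (m1 v z)).symm, e.symm⟩)) hy)
  obtain ⟨m, k1, k2, k3⟩ := exists_m h k
  have mV : ∀ e ∈ cl [v, z], m * e * m⁻¹ = e := fun e he => mul_inv_eq_iff_eq_mul.2
    (mc1.1 (cl2_le (H := cen1 m) (mc1.2 (mul_inv_eq_iff_eq_mul.1 k2).symm)
      (mc1.2 (mul_inv_eq_iff_eq_mul.1 k1).symm) he)).symm
  obtain ⟨r, r1, d, d1, rfl⟩ := H30.DZ.st_decomp S R1 ((mK m).2 ⟨fun e he => by simp [mV e he],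
    fun e he => by
      rcases memA h he with a | a
      · simp [mV e a]
      · have := mV _ a
        rw [← conj_mul, k3, mul_assoc, mul_right_inj, ← eq_inv_mul_iff_mul_eq] at this
        rw [this, mul_inv_cancel_right]
        exact inv_mem (m2 v z), trivial⟩)
  refine ⟨c * σ, R, ⟨D, h.tt, tV h, cV, ker, fun y hy => ?_, AR tA, AR vA,
    fun y => conj_mem_of_mem_normalizer c2, fun y => conj_mem_of_mem_normalizer sR,
    (cm c σ t).trans (by rw [σt, cc t tA]), (cm c σ z).trans (by rw [h.tri.1, cc v vA]),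
    (cm c σ v).trans (by rw [h.tri.2, cc _ (mul_mem vA zA)]), st, sz, sv, fun x => ?_, fun x => ?_,
    fun y hy => ?_⟩, r, r1, by rw [← k3, cm, ← mcen.1 d1 t tA, mul_inv_cancel_right]⟩
  · have a := ((mK y).1 (R1.le hy)).2.1 t tA
    refine (ker _ (mul_mem hy hy) ?_).resolve_right fun b => k.nsq y ?_
    · rw [← mul_inv_eq_iff_eq_mul]
      calc _ = y * (y * t * y⁻¹ * t⁻¹ * t) * y⁻¹ := by group
        _ = y * t * y⁻¹ * t⁻¹ * (y * t * y⁻¹ * t⁻¹) * t := by
          rw [← mul_assoc y _ t, cV y hy _ a]; group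
        _ = t := by rw [D.sqV a, one_mul]
    · have := tD h b
      rwa [← mul_assoc, h.tt, one_mul] at this
  · change s * (s * x * s⁻¹) * s⁻¹ = x
    rw [← cm, h.ss]; simp
  · change c * σ * (s * (c * σ * x * (c * σ)⁻¹) * s⁻¹) * (c * σ)⁻¹ = s * x * s⁻¹
    rw [← cm, ← cm, show c * σ * s * (c * σ) = s by
      rw [← mul_right_inj s, h.ss, ← inv_mul_cancel (c * σ), ← c3]; group]
  · change c * σ * (c * σ * (c * σ * y * (c * σ)⁻¹) * (c * σ)⁻¹) * (c * σ)⁻¹ = y
    rw [← cm, ← cm, ← mcen.1 c4 y hy, mul_inv_cancel_right]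

end SA

theorem jobA0 : JobA0.{u} := by
  intro G _ _ t v s z j σ n h k
  obtain ⟨τ, R, H, y, hy, e⟩ := exists_R h k
  obtain ⟨f, fR, f1, f2, f3, f4⟩ := H.exists_f hy e
  have g1 := H.th1 f1
  have gR := H.αR f fR
  have f5 := (H.fixβ (H.sq f fR) (by rw [map_mul, f4])).imp_left id
  have g2 : (MulAut.conj s).toMonoidHom ((MulAut.conj τ).toMonoidHom f) =
      (f * (MulAut.conj τ).toMonoidHom f)⁻¹ := by
    rw [← f2, ← H.α3 ((MulAut.conj s).toMonoidHom _) (H.βR _ gR), H.αβ, f4]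
  have g3 : (MulAut.conj τ).toMonoidHom f * (MulAut.conj τ).toMonoidHom f =
    (MulAut.conj τ).toMonoidHom (f * f) := (map_mul _ _ _).symm
  have τf : τ * f * τ⁻¹ = (MulAut.conj τ).toMonoidHom f := rfl
  generalize (MulAut.conj τ).toMonoidHom f = g at g1 gR f2 f3 g2 g3 τf
  change s * g * s⁻¹ = _ at g2
  change s * f * s⁻¹ = _ at f4
  have si : s⁻¹ = s := inv_eq_of_mul_eq_one_right h.ss
  have c := fun x hx => And.intro (H.cV x hx z (m2 v z)).symm (H.cV x hx v (m1 v z)).symm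
  have ft : f * t = t * (f * z) := by rw [mul_inv_eq_iff_eq_mul.1 f1, mul_assoc, (c f fR).1]
  have gt : g * t = t * (g * v) := by rw [mul_inv_eq_iff_eq_mul.1 g1, mul_assoc, (c g gR).2]
  have gs : g * s = s * (f * g)⁻¹ := by rw [← g2, ← mul_assoc, ← mul_assoc, h.ss, one_mul, si]
  obtain ⟨b, P⟩ : ∃ b, Pres (tbF b) (val [z, v, f, g, t, s]) := by
    have key : ∀ b, f * f = W (val [z, v]) (ow b [0]) → g * g = W (val [z, v]) (ow b [1]) →
        (f * g)⁻¹ = g * (f * W (val [z, v]) (ow b [1, 0])) → Pres (tbF b) (val [z, v, f, g, t, s]) :=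
      fun b a1 a2 a3 => by
        refine ⟨fun i hi k hk => ?_, fun i hi => ?_⟩ <;> change i < 6 at hi
        · cases b <;> interval_cases i <;> interval_cases k <;> simp only [tbF, ow, cond] at a3 ⊢ <;>
            wsimp at a3 ⊢ <;> first
            | exact h.vz.symm | exact (c f fR).1 | exact (c f fR).2 | exact (c g gR).1
            | exact (c g gR).2 | exact f3 | exact zt h | exact h.vt | exact ft | exact gt
            | exact h.sz.symm | exact h.vs | exact (mul_inv_eq_iff_eq_mul.1 f4).symm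
            | exact a3 ▸ gs | exact h.st.symm
        · cases b <;> interval_cases i <;> simp only [tbF, ow, cond] at a1 a2 ⊢ <;>
            wsimp at a1 a2 ⊢ <;> first
            | exact h.zz | exact h.vv | exact a1 | exact a2 | exact h.tt | exact h.ss
    rcases f5 with a | a
    · rw [a, map_one] at g3
      exact ⟨false, key _ a g3 (by
        rw [mul_inv_rev, inv_eq_of_mul_eq_one_right a, inv_eq_of_mul_eq_one_right g3]; simp [ow])⟩
    · rw [a, H.αz] at g3
      refine ⟨true, key _ (by simpa [ow] using a) (by simpa [ow] using g3) ?_⟩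
      simp only [ow, cond]
      wsimp
      refine inv_eq_of_mul_eq_one_right ?_
      calc _ = f * (g * g) * f * (v * z) := by group
        _ = 1 := by rw [g3, ← (c f fR).2, mul_assoc v, a, H.toDH.sqV (mul_mem (m1 v z) (m2 v z))]
  have wf : (tbF b).wf = true := by cases b <;> rfl
  have n6 : (tbF b).n = 6 := rfl
  have I : Ind (val [z, v, f, g, t, s]) 6 := by
    refine Ind.snoc (l := [z, v, f, g, t]) (Ind.snoc (l := [z, v, f, g]) (Ind.snoc (l := [z, v, f])
      (Ind.snoc (l := [z, v]) (ind2 h) fun a => h.z1 ?_) fun a => ?_) fun a => h.z1 ?_)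
      fun a => h.toDH.nc ?_
    · rw [tcV h (cl_sw z v ▸ a), mul_inv_cancel_right] at f1
      simpa using f1
    · have a1 : cl [z, v, f] ≤ nor (cl [z, t]) := cl_le.2 (by
        have := zt h
        simp only [List.mem_cons, List.not_mem_nil, or_false, forall_eq_or_imp, forall_eq]
        exact ⟨le_normalizer (m1 z t), nor_cl (by simp [h.vz, h.vt, m1, m2]),
          nor_cl (by simp [← (c f fR).1, f1, m1, mul_mem (m2 z t) (m1 z t)])⟩)
      have a2 := conj_mem_of_mem_normalizer (a1 a) (m2 z t)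
      rw [g1, mul_mem_cancel_left (m2 z t)] at a2
      exact h.toDH.nc (mc1.1 (cl2_le (H := cen1 s) (mc1.2 h.sz.symm) (mc1.2 h.st.symm) a2))
    · have := mc1.1 ((cl_le (K := cen1 f)).2 (by simp [mc1, c f fR, f3]) a)
      rw [← this, mul_inv_cancel_right] at f1
      simpa using f1
    · exact (mc1.1 ((cl_le (K := cen1 v)).2 (by simp [mc1, c f fR, c g gR, h.vz, h.vt]) a)).symm
  refine ⟨b, f, g, τ, k, P, ?_, H.αt, H.αz, H.αv, τf, f2, cs h⟩
  have := P.card wf (k := 6) le_rfl I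
  rwa [H_val] at this

end H57.S3A
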