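import Cfsg.Agent.H86.SPODef
import Cfsg.Agent.H77.SOFL

/-! STD-SP (row S3129), slot `STDSP-O-OH`: automorphisms of `R` that keep the roots. -/

set_option autoImplicit false
set_option linter.unusedSectionVars false

namespace H57.SPOOH

open H64.YE (OH tw)
open H59.SO (Om E Root)
open H56 H58 QuadraticMap H86.SPO

theorem coe_refl {F V : Type} [Field F] [AddCommGroup V] [Module F V] {Q : QuadraticForm F V}
    {W : Submodule F V} (w a : W) : (refl (Q.restrict W) w a : V) = refl Q (w : V) a := by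
  simp [refl_apply, polar]

theorem jobOH : JobOH := by
  intro n F _ _ _ _ _ _ b c o V _ _ _ Q ι r w d k kd θ hθ hr
  have p := d.par.toPar0
  have h := r.isHyp 0
  obtain ⟨T, hT⟩ := H77.SOFL.exists_gam_R p h hθ fun g hg => by
    rw [← kd.rt, ← kd.rt]; exact (hr g hg).symm
  let w' : hperp Q (r.e 0) (r.f 0) := ⟨w, mem_hperp.2 ⟨d.we 0, d.wf 0⟩⟩
  have q1 : Q (T w' : V) ≠ 0 := fun e => by
    have : Q w = 0 := (Gam.Q_apply_eq_zero T (v := w')).1 e
    rw [d.qw] at this
    exact one_ne_zero this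
  have tE : ∀ u a : hperp Q (r.e 0) (r.f 0),
      ta Q u (E Q (r.e 0) a) = E Q (r.e 0) (refl (Q.restrict _) u a : hperp Q (r.e 0) (r.f 0)) := by
    intro u a
    rw [k.tE, coe_refl, refl_apply_of_orth (by rw [polar_comm]; exact (mem_hperp.1 u.2).1)]
  obtain ⟨g, hg⟩ := kd.tf _ q1
  refine ⟨g * (ta Q w g)⁻¹, fun x hx => ?_⟩
  obtain ⟨a, rfl⟩ := H77.SOFL.exists_hperp h hx
  have e1 : T (refl (Q.restrict _) w' a) = refl (Q.restrict _) (T w') (T a) := by
    rw [← Gam.conjO_refl, Gam.conjO_apply, Gam.inv_apply_apply]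
  rw [tE w' a, hT, hT, e1, ← tE, ← hg]
  simp [tw, mul_assoc]

end H57.SPOOH
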