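import Cfsg.Agent.H53.WUKit
import Cfsg.Agent.H32.Extend
import Cfsg.Agent.H29.Central

/-! Tower WU: abstract character lemmas for the Borel subgroup of `SU₃`. -/

set_option autoImplicit false

namespace H57.WU3

open Cfsg H28 H53.WU
open scoped ComplexConjugate

variable {P : Type} [Group P]

theorem sum_sub [Fintype P] (H : Subgroup P) [DecidablePred (· ∈ H)] (f : P → ℂ) :
    ∑ᶠ x : H, f x = ∑ g, if g ∈ H then f g else 0 := by
  rw [finsum_eq_sum_of_fintype, ← Finset.sum_filter]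
  exact (Finset.sum_subtype _ (fun g => by simp) f).symm

/-- Characters over the restriction of `om` to `Q`, for abelian `P / Q`. -/
theorem gal [Finite P] {Q : Subgroup P} [Q.Normal] (hc : commutator P ≤ Q) {om s : P → ℂ}
    (ho : IsIrrCharacter P om) (hs : IsIrrCharacter P s) (h : ∑ᶠ u : Q, s u * conj (om u) ≠ 0) :
    ∃ ξ, IsCharacter P ξ ∧ (∀ u ∈ Q, ξ u = ξ 1) ∧ s = om * ξ := by
  classical
  have := Fintype.ofFinite P
  by_contra! h0
  refine h ?_
  have key : ∀ θ ∈ Finset.univ.filter (fun χ : IrrCharacter P => Q ≤ charKer (χ : P → ℂ)),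
      ∑ g, s g * conj (om g * ((θ : P → ℂ) 1 * (θ : P → ℂ) g)) = 0 := fun θ hθ => by
    have k := (Finset.mem_filter.1 hθ).2
    have d := θ.2.degree_one_iff.2 (hc.trans k)
    have := hs.classInner_of_ne (ho.mul_linear θ.2.isCharacter d)
      (h0 _ θ.2.isCharacter fun u hu => apply_of_mem_charKer (k hu))
    rw [d]
    simpa [← card_mul_classInner, this] using (card_mul_classInner s (om * θ.1)).symm
  have := Finset.sum_eq_zero key
  rw [Finset.sum_comm] at this
  simp only [← Finset.mul_sum, ← map_sum] at this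
  simp only [sum_degree_mul_apply_ker] at this
  rw [sum_sub Q fun u => s u * conj (om u)]
  refine mul_right_cancel₀ (b := (Q.index : ℂ)) (by exact_mod_cast Subgroup.index_ne_zero_of_finite) ?_
  rw [zero_mul, Finset.sum_mul]
  refine (Finset.sum_congr rfl fun g _ => ?_).trans this
  split_ifs <;> simp [mul_assoc]

variable [Finite P] {Z Q : Subgroup P} {q : ℕ} {om : P → ℂ}

/-- The data of the Borel subgroup. -/
structure Bo (Z Q : Subgroup P) (q : ℕ) (om : P → ℂ) : Prop where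
  le : Z ≤ Q
  two : 2 ≤ q
  cZ : Nat.card Z = q
  cQ : Nat.card Q = q ^ 3
  ch : IsCharacter P om
  o1 : om 1 = q * (q - 1)
  oZ : ∀ t ∈ Z, t ≠ 1 → om t = -q
  oQ : ∀ u ∈ Q, u ∉ Z → om u = 0
  cj : ∀ t ∈ Z, ∀ t' ∈ Z, t ≠ 1 → t' ≠ 1 → ∃ k, k * t * k⁻¹ = t'

theorem sum_const {s : P → ℂ} {c : ℂ} (h : ∀ t ∈ Z, t ≠ 1 → s t = c) :
    ∑ᶠ x : Z, s x = s 1 + (Nat.card Z - 1) * c := by
  classical
  have := Fintype.ofFinite Z
  rw [finsum_eq_sum_of_fintype, ← Finset.add_sum_erase _ _ (Finset.mem_univ 1),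
    Finset.sum_congr rfl fun (x : Z) hx => h x x.2 fun e => Finset.ne_of_mem_erase hx (Subtype.ext e),
    Finset.sum_const, Finset.card_erase_of_mem (Finset.mem_univ _), nsmul_eq_mul, Finset.card_univ,
    Nat.cast_pred Fintype.card_pos, Nat.card_eq_fintype_card, OneMemClass.coe_one]

theorem Bo.inner (h : Bo Z Q q om) {s : P → ℂ} (hs : av Z s = 0) :
    ∑ᶠ u : Q, s u * conj (om u) = q ^ 2 * s 1 := by
  classical
  have := Fintype.ofFinite P
  rw [av_eq_zero, sum_sub] at hs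
  rw [sum_sub Q fun u => s u * conj (om u), Finset.sum_congr rfl (g := fun g =>
    (if g = 1 then q ^ 2 * s 1 else 0) + -q * if g ∈ Z then s g else 0) fun g _ => ?_,
    Finset.sum_add_distrib, ← Finset.mul_sum, hs]
  · simp
  by_cases h1 : g = 1
  · simp [h1, h.o1, one_mem]; ring
  by_cases h2 : g ∈ Z
  · simp [h1, h2, h.le h2, h.oZ g h2 h1, mul_comm]
  by_cases h3 : g ∈ Q
  · simp [h1, h2, h.oQ g h3 h2]
  · simp [h1, h2, h3]

theorem Bo.dvd (h : Bo Z Q q om) {s : P → ℂ} (hc : IsCharacter P s) (hs : av Z s = 0) {d : ℕ}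
    (hd : s 1 = d) : q * (q - 1) ∣ d := by
  have two := h.two
  have q0 : (q : ℂ) ≠ 0 := by exact_mod_cast (by omega : q ≠ 0)
  refine Nat.Coprime.mul_dvd_of_dvd_of_dvd ((Nat.coprime_self_sub_right (by omega)).2 (by simp)) ?_ ?_
  · have := Fintype.ofFinite Q
    obtain ⟨m, hm⟩ := (hc.restrict Q).classInner_nat (h.ch.restrict Q)
    have e := card_mul_classInner (fun x : Q => s x) fun x : Q => om x
    rw [hm, ← finsum_eq_sum_of_fintype, h.inner hs, h.cQ, hd] at e
    refine ⟨m, Nat.cast_injective (R := ℂ) (mul_left_cancel₀ (pow_ne_zero 2 q0) ?_)⟩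
    push_cast at e ⊢
    linear_combination -e
  · have := Finite.one_lt_card_iff_nontrivial.1 (h.cZ ▸ two : 1 < Nat.card Z)
    obtain ⟨⟨t, ht⟩, t1⟩ := exists_ne (1 : Z)
    replace t1 : t ≠ 1 := fun e => t1 (Subtype.ext e)
    rw [av_eq_zero, sum_const (c := s t) fun t' ht' h1 => by
      obtain ⟨k, rfl⟩ := h.cj t ht t' ht' t1 h1
      exact hc.isClassFunction t k, h.cZ, hd] at hs
    refine H29.dvd_of_isIntegral_div (by omega) ?_
    have q1 : ((q - 1 : ℕ) : ℂ) ≠ 0 := by exact_mod_cast (by omega : q - 1 ≠ 0)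
    rw [show (d : ℂ) / (q - 1 : ℕ) = -s t by
      rw [div_eq_iff q1, Nat.cast_pred (by omega)]; linear_combination hs]
    exact (hc.isIntegral t).neg

theorem Bo.av_om (h : Bo Z Q q om) : av Z om = 0 := by
  rw [av_eq_zero, sum_const h.oZ, h.o1, h.cZ]; ring

theorem Bo.irr (h : Bo Z Q q om) : IsIrrCharacter P om := by
  have two := h.two
  have o1 : om 1 = (q * (q - 1) : ℕ) := by rw [h.o1, Nat.cast_mul, Nat.cast_pred (by omega)]
  rcases h.ch.induction (P := fun s => s = 0 ∨ ∃ φ θ, IsIrrCharacter P φ ∧ IsCharacter P θ ∧ s = φ + θ)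
    (Or.inl rfl) fun φ θ a b _ => Or.inr ⟨φ, θ, a, b, rfl⟩ with e | ⟨φ, θ, a, b, e⟩
  · rw [e, Pi.zero_apply, eq_comm, Nat.cast_eq_zero] at o1
    exact absurd o1 (Nat.mul_ne_zero (by omega) (by omega))
  obtain ⟨d, d0, hd⟩ := a.exists_degree_pos
  obtain ⟨d', hd'⟩ := b.exists_degree
  have := Nat.le_of_dvd d0 (h.dvd a.isCharacter (av_eq_zero_of_add a.isCharacter b (e ▸ h.av_om)) hd)
  rw [e, Pi.add_apply, hd, hd', ← Nat.cast_add, Nat.cast_inj] at o1
  rw [e, b.eq_zero_of_apply_one (by rw [hd', show d' = 0 by omega, Nat.cast_zero]), add_zero]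
  exact a

theorem Bo.main (h : Bo Z Q q om) [Q.Normal] (hc : commutator P ≤ Q) {s : P → ℂ}
    (hs : IsCharacter P s) : av Z s = 0 →
      ∃ ξ, IsCharacter P ξ ∧ (∀ u ∈ Q, ξ u = ξ 1) ∧ s = om * ξ := by
  refine hs.induction (P := fun s => av Z s = 0 → ∃ ξ, IsCharacter P ξ ∧ (∀ u ∈ Q, ξ u = ξ 1) ∧
    s = om * ξ) (fun _ => ⟨0, isCharacter_zero, fun _ _ => rfl, (mul_zero _).symm⟩) ?_
  intro φ θ a b ih h0
  obtain ⟨ξ, x1, x2, rfl⟩ := ih (av_eq_zero_of_add b a.isCharacter (by rwa [add_comm]))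
  obtain ⟨ξ', y1, y2, rfl⟩ := gal hc h.irr a (by
    rw [h.inner (av_eq_zero_of_add a.isCharacter b h0)]
    exact mul_ne_zero (pow_ne_zero 2 (by exact_mod_cast (by have := h.two; omega : q ≠ 0)))
      a.apply_one_ne_zero)
  exact ⟨ξ' + ξ, y1.add x1, fun u hu => by simp [x2 u hu, y2 u hu], (mul_add _ _ _).symm⟩

omit [Finite P] in
/-- An element acting freely on `Z`. -/
theorem vanish {G : Type} [Group G] [Finite G] {χ : G → ℂ} (h : IsCharacter G χ) {Z : Subgroup G}
    (h0 : av Z χ = 0) {p : G} (hn : ∀ z ∈ Z, p⁻¹ * z * p ∈ Z) (hf : ∀ z ∈ Z, p * z = z * p → z = 1) :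
    χ p = 0 := by
  have := Fintype.ofFinite Z
  have e := sum_coset_eq_zero h le_rfl h0 p
  let f : Z → Z := fun z => ⟨p⁻¹ * z * p * (z : G)⁻¹, mul_mem (hn z z.2) (inv_mem z.2)⟩
  have hb : Function.Bijective f := Finite.injective_iff_bijective.1 fun a b k => by
    have k' : p⁻¹ * a * p * (a : G)⁻¹ = p⁻¹ * b * p * (b : G)⁻¹ := congrArg Subtype.val k
    refine Subtype.ext (inv_mul_eq_one.1 (hf _ (mul_mem (inv_mem b.2) a.2) ?_)).symm
    calc _ = (b : G)⁻¹ * p * (p⁻¹ * b * p * (b : G)⁻¹) * a := by group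
      _ = _ := by rw [← k']; group
  rw [finsum_eq_sum_of_fintype, ← hb.sum_comp, Finset.sum_congr rfl (g := fun _ => χ p) fun z _ => by
    rw [← h.isClassFunction p z]; congr 1; simp only [f]; group, Finset.sum_const,
    Finset.card_univ, nsmul_eq_mul, ← Nat.card_eq_fintype_card] at e
  exact (mul_eq_zero.1 e).resolve_left (card_ne_zero' _)

omit [Finite P] in
/-- Determinants in a perfect group. -/
theorem det_pow {G : Type} [Group G] [Finite G] (hG : commutator G = ⊤) {χ ω : G → ℂ}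
    (h : IsCharacter G χ) (h' : IsCharacter G ω) {H : Subgroup G} (f : H →* ℂˣ)
    (e : ∀ p : H, χ p = ω p * f p) {d : ℕ} (hd : ω 1 = d) (p : H) : f p ^ d = 1 := by
  have one : ∀ {n : ℕ} (ρ : Representation ℂ G (Fin n → ℂ)) (g : G), LinearMap.det (ρ g) = 1 :=
    fun ρ g => congrArg Units.val (Abelianization.commutator_subset_ker
      (LinearMap.det.comp ρ).toHomUnits (hG.ge (Subgroup.mem_top g)))
  obtain ⟨n, ρ, rfl⟩ := h
  obtain ⟨m, ρ', rfl⟩ := h'
  let σ : Representation ℂ H (Fin m → ℂ) :=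
    { toFun := fun g => (f g : ℂ) • ρ' g
      map_one' := by simp
      map_mul' := fun a b => by simp [smul_smul, mul_comm] }
  obtain ⟨k⟩ := nonempty_equiv_of_character_eq σ (ρ.comp H.subtype) (funext fun g => by
    refine Eq.trans ?_ (e g).symm
    simp [σ, Representation.character, mul_comm])
  have := H32.det_eq_of_equiv k p
  change LinearMap.det ((f p : ℂ) • ρ' p) = LinearMap.det (ρ p) at this
  rw [Representation.char_one, Nat.cast_inj] at hd
  rw [LinearMap.det_smul, one, one, mul_one, hd] at this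
  exact Units.ext (by simpa using this)

end H57.WU3
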