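import Cfsg.Agent.H57.WU3a

/-! Tower WU: the Borel subgroup of `SU₃`, job S3. -/

set_option autoImplicit false

namespace H57.WU3

open Cfsg H28 H59 H53.WU H53.WU.HS Module

theorem av_subgroupOf {G : Type} [Group G] {Z H : Subgroup G} (h : Z ≤ H) (χ : G → ℂ) :
    av (Z.subgroupOf H) (fun x : H => χ x) = av Z χ := by
  rw [av, av, Nat.card_congr (Subgroup.subgroupOfEquivOfLe h).toEquiv,
    ← finsum_comp_equiv (Subgroup.subgroupOfEquivOfLe h).toEquiv]
  rfl

variable {S : HS} {e f : S.V}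

/-- The eigenvalue on `e`. -/
noncomputable def ev (he : S.Iso e) : S.Ps e →* S.Fˣ := MonoidHom.mk' (fun p => p.2.choose) fun a b =>
  Units.ext (smul_left_injective S.F he.1 (by
    refine (a * b).2.choose_spec.symm.trans ((congrArg a.1.1 b.2.choose_spec).trans ?_)
    rw [map_smul]
    exact (congrArg _ a.2.choose_spec).trans ((smul_smul _ _ _).trans (by rw [mul_comm]; rfl))))

theorem ev_spec (he : S.Iso e) (p : S.Ps e) : p.1.1 e = (ev he p : S.F) • e := p.2.choose_spec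

theorem ev_eq (he : S.Iso e) {p : S.Ps e} {a : S.Fˣ} (h : p.1.1 e = (a : S.F) • e) : ev he p = a :=
  Units.ext (smul_left_injective S.F he.1 ((ev_spec he p).symm.trans h))

theorem rk1 (h3 : S.n = 3) (H : IsHyp S.B e f) : finrank S.F (hypPerp S.B e f) = 1 := by
  have := S.h.finrank_hypPerp H.ee H.ef
  simp only [n] at h3
  omega

theorem Rs_le (ge : JobGE) (h3 : S.n = 3) (he : S.Iso e) : S.Rs e ≤ S.Qs e := by
  obtain ⟨f, H⟩ := he.exists_hyp
  refine ge S e he _ le_rfl fun y hy h => inf_le_left.trans (Eq.le ?_)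
  have w0 : H.proj y = 0 := by
    by_contra hw
    refine hw ((S.h.isHerm_hypForm H.ee H.ef).nondeg _ fun w => ?_)
    obtain ⟨c, rfl⟩ := (finrank_eq_one_iff_of_nonzero' _ hw).1 (rk1 h3 H) w
    have := H.form_eq y y
    rw [hy.2, h] at this
    change S.B (H.proj y) (c • (H.proj y : S.V)) = 0
    rw [form_smul_right, show S.B (H.proj y) (H.proj y) = 0 by simpa using this.symm, mul_zero]
  have d := H.decomp y
  rw [h, w0, zero_smul, add_zero, Submodule.coe_zero, add_zero] at d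
  rw [d, Qs_smul e fun k => hy.1 (by rw [d, k, zero_smul])]

theorem mem_Q (ge : JobGE) (h3 : S.n = 3) (he : S.Iso e) {p : S.Ps e} (h : ev he p = 1) :
    p.1 ∈ S.Qs e := Rs_le ge h3 he ((ev_spec he p).trans (by rw [h]; exact one_smul _ _))

theorem zt_eq (h3 : S.n = 3) (c : S.Fˣ) (g : S.G) (U : Submodule S.F S.V)
    (h : ∀ v, (c : S.F) • g.1 v = v ↔ v ∈ U) :
    S.zt (scalarEquiv S.V c * g.1) = -(-(S.q : ℂ)) ^ finrank S.F U := by
  rw [zt, h3, show LinearMap.ker _ = U from Submodule.ext fun v => by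
    rw [LinearMap.mem_ker, LinearMap.sub_apply, sub_eq_zero]; exact h v]
  ring

theorem q1_ne (S : HS) : (S.q : ℂ) + 1 ≠ 0 := by exact_mod_cast Nat.succ_ne_zero S.q

theorem ω_eq {g : S.G} {x : ℂ} (h : ∑ᶠ c : S.μ, S.zt (scalarEquiv S.V c.1 * g.1) = (S.q + 1) * x) :
    S.ω g = x := by
  simp only [ω, za, MonoidHom.one_apply, Units.val_one, one_mul, h]
  rw [inv_mul_cancel_left₀ (q1_ne S)]

theorem ω_one (za : JobZa) (h : S.Good) (h3 : S.n = 3) : S.ω 1 = S.q * (S.q - 1) :=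
  mul_right_cancel₀ (q1_ne S) (by rw [(za S h).2.2.1, h3]; ring)

theorem ω_Z (h3 : S.n = 3) (he : S.Iso e) {t : S.G} (ht : t ∈ S.Zs e) (t1 : t ≠ 1) :
    S.ω t = -S.q := by
  obtain ⟨-, k, hk⟩ := ht
  replace hk : ∀ x, t.1 x = x + (k * S.B e x) • e := hk
  have k0 : k ≠ 0 := fun e => t1 (Subtype.ext (LinearEquiv.ext fun x => by simp [hk, e]))
  have r := S.h.finrank_add_finrank_perp (Submodule.span S.F {e})
  rw [finrank_span_singleton he.1, show finrank S.F S.V = 3 from h3] at r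
  refine ω_eq ((sum_const (s := fun c => S.zt (scalarEquiv S.V c * t.1)) (c := -1)
    fun c _ c1 => ?_).trans ?_)
  · rw [zt_eq h3 c t ⊥ fun v => ⟨fun h => ?_, fun h => by simp [(Submodule.mem_bot _).1 h]⟩]
    · simp
    have c0 : (c : S.F) - 1 ≠ 0 := sub_ne_zero.2 (by simpa using c1)
    have h1 := congrArg (S.B e) h
    rw [hk, map_smul, map_add, map_smul, he.2, smul_zero, add_zero, smul_eq_mul] at h1
    have h2 : S.B e v = 0 := (mul_eq_zero.1 (by linear_combination h1)).resolve_left c0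
    rw [hk, h2, mul_zero, zero_smul, add_zero] at h
    exact (smul_eq_zero.1 (by rw [sub_smul, h, one_smul, sub_self])).resolve_left c0
  · rw [zt_eq h3 1 t (perp S.B (Submodule.span S.F {e})) fun v => by
      simp [mem_perp_singleton, hk, he.1, k0], show finrank S.F (perp S.B _) = 2 by omega, S.card_μ]
    push_cast
    ring

theorem av_ω (za : JobZa) (h : S.Good) (h3 : S.n = 3) (he : S.Iso e) : av (S.Zs e) S.ω = 0 := by
  rw [av_eq_zero, sum_const fun t ht => ω_Z h3 he ht, ω_one za h h3, card_Zs he]; ring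

theorem Qs_le_Ps (e : S.V) : S.Qs e ≤ S.Ps e := (Qs_le_Rs e).trans (Rs_le_Ps e)

theorem bo (za : JobZa) (h : S.Good) (h3 : S.n = 3) (he : S.Iso e) :
    Bo ((S.Zs e).subgroupOf (S.Ps e)) ((S.Qs e).subgroupOf (S.Ps e)) S.q fun p => S.ω p := by
  have le := (Zs_le_Qs he).trans (Qs_le_Ps e)
  have ch := ((za S h).1 1).isCharacter.restrict (S.Ps e)
  refine ⟨fun _ h => Zs_le_Qs he h, S.two_le_q,
    (Nat.card_congr (Subgroup.subgroupOfEquivOfLe le).toEquiv).trans (card_Zs he),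
    (Nat.card_congr (Subgroup.subgroupOfEquivOfLe (Qs_le_Ps e)).toEquiv).trans
      (by rw [card_Qs he, h3]), ch, ω_one za h h3,
    fun t ht t1 => ω_Z h3 he ht fun e => t1 (Subtype.ext e),
    fun u hu hu' => off_Z he (Qs_le_Ps e) ch ((av_subgroupOf le _).trans (av_ω za h h3 he)) hu hu',
    fun t ht t' ht' t1 t1' => ?_⟩
  obtain ⟨s, s0, hs⟩ := S.h.exists_conj_eq he.2 ht ht' (fun e => t1 (Subtype.ext (Subtype.ext e)))
    fun e => t1' (Subtype.ext (Subtype.ext e))
  obtain ⟨k, hk⟩ := exists_eig h3.ge he (Units.mk0 s s0)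
  exact ⟨⟨k, _, hk⟩, Subtype.ext (Subtype.ext (hs k k.2.1 hk))⟩

theorem jobS3 (za : JobZa) (ge : JobGE) : JobS3 := by
  intro S e h h3 he χ hχ h0
  have : ((S.Qs e).subgroupOf (S.Ps e)).Normal := ⟨fun u hu p => conj_Qs_of_Ps p.2 hu⟩
  obtain ⟨ξ, x1, x2, x3⟩ := (bo za h h3 he).main
    (fun p hp => mem_Q ge h3 he (Abelianization.commutator_subset_ker (ev he) hp))
    (hχ.restrict (S.Ps e)) ((av_subgroupOf ((Zs_le_Qs he).trans (Qs_le_Ps e)) _).trans h0)
  exact ⟨ξ, x1, x2, congrFun x3⟩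

end H57.WU3
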