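import Cfsg.Agent.H57.WU3b

/-! Tower WU: the torus of `SU₃`, job D3. -/

set_option autoImplicit false

namespace H57.WU3

open Cfsg H28 H59 H53.WU H53.WU.HS Module

variable {S : HS} {e f : S.V}

theorem ω_off (za : JobZa) (h : S.Good) (h3 : S.n = 3) (he : S.Iso e) {p : S.Ps e}
    (hp : ev he p ∉ S.μ) : S.ω p = 0 := by
  obtain ⟨f, H⟩ := he.exists_hyp
  refine vanish ((za S h).1 1).isCharacter (av_ω za h h3 he)
    (fun z hz => by simpa using conj_Zs_of_Ps (inv_mem p.2) hz) fun z hz c => ?_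
  obtain ⟨-, k, hk⟩ := hz
  replace hk : ∀ x, z.1 x = x + (k * S.B e x) • e := hk
  have e1 : p.1.1 (z.1 f) = z.1 (p.1.1 f) := congrArg (fun g : S.G => g.1 f) c
  have e2 := p.1.2.1 e f
  rw [hk, hk, map_add, map_smul, ev_spec he, add_right_inj, smul_smul, H.ef] at e1
  rw [ev_spec he, form_smul_left, H.ef] at e2
  have e3 := smul_left_injective S.F he.1 e1
  have k0 : k = 0 := by
    by_contra k0
    refine hp ((mem_normOne' S.hF).2 (mul_left_cancel₀ k0 ?_))
    linear_combination frob S.hF (ev he p) * e3 + k * e2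
  exact Subtype.ext (LinearEquiv.ext fun x => by simp [hk, k0])

/-- The diagonal element with eigenvalue `a` on `e`. -/
def Tau (H : IsHyp S.B e f) (a : S.F) (l : S.G) : Prop :=
  ∀ v, l.1 v = (a * S.B f v) • e + ((frob S.hF a)⁻¹ * S.B e v) • f +
    (frob S.hF a / a) • (H.proj v : S.V)

theorem exists_tau (h3 : S.n = 3) (H : IsHyp S.B e f) (a : S.Fˣ) : ∃ l, Tau H a l := by
  have s0 := S.h.conj_ne_zero a.ne_zero
  let u : S.Fˣ := Units.mk0 (frob S.hF a / a) (div_ne_zero s0 a.ne_zero)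
  obtain ⟨l, hl, h1, h2, h4⟩ := S.h.exists_levi H.ee H.ff H.ef a.ne_zero
    (k := scalarEquiv (hypPerp S.B e f) u) (scalarEquiv_mem_isom (by
      simp only [u, Units.val_mk0, map_div₀, S.h.invol]; field_simp)) (by
      rw [det_of_scalar (scalarEquiv_apply u), rk1 h3 H]; simp [u])
  refine ⟨⟨l, hl⟩, fun v => ?_⟩
  conv_lhs => rw [H.decomp v]
  simp only [map_add, map_smul, h1, h2, h4, smul_smul, mul_comm]
  rfl

namespace Tau

variable {H : IsHyp S.B e f} {a : S.F} {l : S.G} (h : Tau H a l)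
include h

theorem he : l.1 e = a • e := by rw [h]; simp [H.fe, H.ee, H.proj_e]

theorem hf : l.1 f = (frob S.hF a)⁻¹ • f := by rw [h]; simp [H.ff, H.ef, H.proj_f]

/-- Eigenvectors. -/
theorem eig (c : S.F) (v : S.V) : c • l.1 v = v ↔ (c * a - 1) * S.B f v = 0 ∧
    (c * (frob S.hF a)⁻¹ - 1) * S.B e v = 0 ∧ (c * (frob S.hF a / a) - 1) • H.proj v = 0 := by
  constructor
  · intro k
    have k1 := congrArg (S.B f) k
    have k2 := congrArg (S.B e) k
    have k3 := congrArg H.proj k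
    rw [h] at k1 k2 k3
    simp only [map_add, map_smul, H.fe, H.ff, H.ee, H.ef, IsHyp.ew, IsHyp.fw, H.proj_e, H.proj_f,
      H.proj_coe, smul_eq_mul, smul_zero, zero_add, smul_smul] at k1 k2 k3
    exact ⟨by linear_combination k1, by linear_combination k2, by
      rw [sub_smul, k3, one_smul, sub_self]⟩
  · rintro ⟨k1, k2, k3⟩
    have k4 := congrArg Subtype.val k3
    have d := H.decomp v
    rw [h]
    simp only [Submodule.coe_smul, Submodule.coe_zero] at k4
    linear_combination (norm := module) k1 • e + k2 • f + k4 - d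

end Tau

theorem ω_tau (h : S.Good) (h3 : S.n = 3) (H : IsHyp S.B e f) {c : S.μ} (c1 : c ≠ 1) {l : S.G}
    (hl : Tau H c.1 l) : S.ω l = 1 - S.q := by
  classical
  have := Fintype.ofFinite S.μ
  have inj : ∀ {x y : S.μ}, ((x.1 : S.F) = y.1) ↔ x = y := Units.val_inj.trans Subtype.val_inj
  have c0 := c.1.ne_zero
  have hσ : frob S.hF c.1 = (c.1 : S.F)⁻¹ := eq_inv_of_mul_eq_one_left ((mem_normOne' S.hF).1 c.2)
  have ne : c⁻¹ ≠ c ^ 2 := fun k => c1 ((pow_bij h.2.2).1 (by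
    simp only [h3, one_pow]; rw [pow_succ, ← k, inv_mul_cancel]))
  have r := S.h.finrank_add_finrank_perp (hypPerp S.B e f)
  rw [rk1 h3 H, show finrank S.F S.V = 3 from h3] at r
  have val : ∀ d : S.μ, S.zt (scalarEquiv S.V d.1 * l.1) =
      -1 + ((if d = c⁻¹ then 1 - (S.q : ℂ) ^ 2 else 0) + if d = c ^ 2 then 1 + (S.q : ℂ) else 0) := by
    intro d
    have n1 : (d.1 : S.F) * c.1 - 1 = 0 ↔ d = c⁻¹ := by
      rw [sub_eq_zero, ← inj, ← eq_div_iff c0]; simp
    have n2 : (d.1 : S.F) * ((c.1 : S.F)⁻¹ / c.1) - 1 = 0 ↔ d = c ^ 2 := by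
      rw [sub_eq_zero, ← inj, div_eq_mul_inv, ← sq, inv_pow, mul_inv_eq_one₀ (pow_ne_zero 2 c0)]; simp
    have eg := hl.eig d.1
    simp only [hσ, inv_inv, mul_eq_zero, smul_eq_zero, n1, n2] at eg
    by_cases d1 : d = c⁻¹
    · have d2 : d ≠ c ^ 2 := d1 ▸ ne
      rw [zt_eq h3 d.1 l (perp S.B (hypPerp S.B e f)) fun v => (eg v).trans ?_,
        show finrank S.F (perp S.B _) = 2 by omega]
      · simp [d1, ne]; ring
      simp only [d1, ne, true_or, true_and, false_or]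
      refine ⟨fun k x hx => ?_, fun k => (S.h.isHerm_hypForm H.ee H.ef).nondeg' _ fun x => ?_⟩
      · have := H.form_eq x v
        rwa [k, (mem_perp_pair.1 hx).1, (mem_perp_pair.1 hx).2, map_zero, zero_mul, zero_mul,
          Submodule.coe_zero, map_zero, add_zero, add_zero] at this
      · have := H.form_eq x v
        rw [k x x.2, IsHyp.ew, IsHyp.fw, H.proj_coe] at this
        change S.B x (H.proj v) = 0
        simpa using this.symm
    by_cases d2 : d = c ^ 2
    · rw [zt_eq h3 d.1 l (hypPerp S.B e f) fun v => (eg v).trans ?_, rk1 h3 H]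
      · simp [d2, ne.symm]
      simp [d2, ne.symm, mem_perp_pair, and_comm]
    rw [zt_eq h3 d.1 l ⊥ fun v => (eg v).trans ?_]
    · simp [d1, d2]
    simp only [d1, d2, false_or, Submodule.mem_bot]
    exact ⟨fun ⟨a, b, k⟩ => by rw [H.decomp v, a, b, k]; simp, by rintro rfl; simp⟩
  refine ω_eq ?_
  simp only [val, finsum_eq_sum_of_fintype, Finset.sum_add_distrib, Finset.sum_ite_eq',
    Finset.mem_univ, if_true, Finset.sum_const, Finset.card_univ, ← Nat.card_eq_fintype_card, S.card_μ]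
  simp
  ring

theorem cen_le (h : S.Good) (h3 : S.n = 3) (H : IsHyp S.B e f) :
    ∃ g : S.G, Subgroup.centralizer {g} ≤ S.Ps e ⊓ S.Ps f := by
  obtain ⟨t, ht⟩ := IsCyclic.exists_ofOrder_eq_natCard (α := S.Fˣ)
  rw [Nat.card_units, Nat.card_eq_fintype_card, S.hF] at ht
  have q3 : 3 ≤ S.q := by have := S.two_le_q; have := h.ne_two; omega
  have lt : S.q + 1 < S.q ^ 2 - 1 := by rw [Nat.lt_sub_iff_add_lt]; nlinarith
  have pw : ∀ m, m ≠ 0 → m ≤ S.q + 1 → (t : S.F) ^ m ≠ 1 := fun m a b k =>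
    pow_ne_one_of_lt_orderOf a (by omega) (Units.ext k)
  have t0 := t.ne_zero
  have s0 := S.h.conj_ne_zero t0
  have n1 : frob S.hF t * t ≠ 1 := fun k => pw _ (by omega) le_rfl (by rw [pow_succ]; exact k)
  have n2 : frob S.hF t ≠ t * t := fun k => pw (S.q - 2) (by omega) (by omega)
    (mul_right_cancel₀ (pow_ne_zero 2 t0) (by
      rw [← pow_add, Nat.sub_add_cancel (by omega), one_mul, sq]; exact k))
  have n3 : frob S.hF t * frob S.hF t ≠ t := fun k => n2 (by
    rw [← congrArg (frob S.hF) k, map_mul, S.h.invol])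
  obtain ⟨g, hg⟩ := exists_tau h3 H t
  refine ⟨g, fun x hx => ?_⟩
  have cm : ∀ v, g.1 (x.1 v) = x.1 (g.1 v) := fun v =>
    congrArg (fun y : S.G => y.1 v) (Subgroup.mem_centralizer_singleton_iff.1 hx).symm
  have key : ∀ {v : S.V} {c : S.F}, v ≠ 0 → x.1 v = c • v → x ∈ S.Ps v := fun hv k =>
    ⟨Units.mk0 _ fun c0 => hv (x.1.map_eq_zero_iff.1 (by rw [k, c0, zero_smul])), k⟩
  constructor
  · obtain ⟨-, b, c⟩ := (hg.eig (t : S.F)⁻¹ (x.1 e)).1 (by
      rw [cm, hg.he, map_smul, inv_smul_smul₀ t0])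
    rw [mul_eq_zero, or_iff_right fun k => n1 (by field_simp at k; linear_combination -k)] at b
    rw [smul_eq_zero, or_iff_right fun k => n2 (by field_simp at k; linear_combination k)] at c
    exact key H.e_ne (by simpa [b, c] using H.decomp (x.1 e))
  · obtain ⟨b, -, c⟩ := (hg.eig (frob S.hF t) (x.1 f)).1 (by
      rw [cm, hg.hf, map_smul, smul_inv_smul₀ s0])
    rw [mul_eq_zero, or_iff_right fun k => n1 (by linear_combination k)] at b
    rw [smul_eq_zero, or_iff_right fun k => n3 (by field_simp at k; linear_combination k)] at c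
    exact key H.f_ne (by simpa [b, c] using H.decomp (x.1 f))

theorem jobD3 (za : JobZa) (ge : JobGE) : JobD3 := by
  classical
  intro S e h h3 he χ ξ hχ hξ hQ hP
  obtain ⟨f, H⟩ := he.exists_hyp
  have two := S.two_le_q
  have fin : (∀ p, ev he p ∈ S.μ → ξ p = ξ 1) → ∀ p ∈ S.Ps e, χ p = ξ 1 * S.ω p := fun k p hp => by
    rw [hP ⟨p, hp⟩, mul_comm]
    by_cases m : ev he ⟨p, hp⟩ ∈ S.μ
    · rw [k _ m]
    · rw [ω_off za h h3 he m, mul_zero, mul_zero]
  have ker : ∀ p p', ev he p = ev he p' → ξ p = ξ p' := fun p p' k => by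
    rw [← apply_mul_of_mem_charKer (hξ.mem_charKer.2 (hQ (p * p'⁻¹) (mem_Q ge h3 he (by simp [k])))) p',
      inv_mul_cancel_right]
  refine ⟨fun x1 p hp => (fin (fun p m => ?_) p hp).trans (by rw [x1, one_mul]), ?_⟩
  · obtain ⟨φ, rfl⟩ := hξ.exists_hom x1
    have d := det_pow h.perfect hχ ((za S h).1 1).isCharacter φ hP (d := (S.q - 1) * S.q) (by
      rw [Nat.cast_mul, Nat.cast_pred (by omega), mul_comm]; exact ω_one za h h3)
    obtain ⟨x, x0, hx⟩ := exists_div_eq_of_norm_one S.h.ne_id S.h.invol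
      (c := (ev he p : S.F)) (by rw [mul_comm]; exact (mem_normOne' S.hF).1 m)
    obtain ⟨k, hk⟩ := exists_eig h3.ge he (Units.mk0 x x0)⁻¹
    have e1 : φ p = φ ⟨k, _, hk⟩ ^ (S.q - 1) := Units.ext (by
      rw [← map_pow]
      refine ker _ _ (Units.ext ?_)
      rw [map_pow, ev_eq he (p := ⟨k, _, hk⟩) hk]
      rw [frob_apply, ← Nat.sub_add_cancel (by omega : 1 ≤ S.q), pow_succ, ← mul_assoc] at hx
      simpa using eq_inv_of_mul_eq_one_left (mul_right_cancel₀ x0 (hx.symm.trans (one_mul x).symm)))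
    have e2 : φ p ^ (S.q + 1) = 1 := Units.ext (by
      rw [← map_pow, ← map_one φ]
      exact ker _ _ (by rw [map_pow, map_one]; exact Units.ext (mem_normOne.1 m)))
    rw [pow_succ, e1, ← pow_mul, d, one_mul, ← e1] at e2
    simp [e2]
  refine or_iff_not_imp_left.2 fun nf => fin ?_
  obtain ⟨g, hg⟩ := cen_le h h3 H
  have h0 := av_eq_zero.1 (av_mono hχ hg (by by_contra k; exact nf ⟨g, k⟩))
  choose τ hτ using exists_tau h3 H
  let τ' : S.Fˣ → S.Ps e := fun a => ⟨τ a, a, (hτ a).he⟩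
  have eτ : ∀ a, ev he (τ' a) = a := fun a => ev_eq he (hτ a).he
  let F : S.Fˣ → ↥(S.Ps e ⊓ S.Ps f) := fun a => ⟨τ a, (τ' a).2,
    (Units.mk0 _ (S.h.conj_ne_zero a.ne_zero))⁻¹, by simpa using (hτ a).hf⟩
  have one : ∀ x ∈ S.Rs e, x.1 f = f → x = 1 := fun x hx k => Subtype.ext
    (H.ext (Rs_le ge h3 he hx) (one_mem _)
      ((H.cu_eq (u := 0) (a := 0) (by simpa)).trans (H.cu_eq (u := 0) (a := 0) (by simp)).symm)
      ((H.ca_eq (u := 0) (a := 0) (by simpa)).trans (H.ca_eq (u := 0) (a := 0) (by simp)).symm))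
  have hF : Function.Bijective F := by
    refine ⟨fun a b k => by
      rw [← eτ a, ← eτ b]; exact congrArg _ (Subtype.ext (congrArg (·.1) k)), ?_⟩
    rintro ⟨x, ⟨a, ha⟩, b, hb⟩
    have e2 := x.2.1 e f
    rw [ha, hb, form_smul_left, form_smul_right, H.ef, mul_one] at e2
    refine ⟨a, Subtype.ext (inv_mul_eq_one.1 (one _ ?_ ?_))⟩
    · exact (τ a).1.symm_apply_eq.2 (ha.trans (hτ a).he.symm)
    · exact (τ a).1.symm_apply_eq.2 (hb.trans (by rw [(hτ a).hf, eq_inv_of_mul_eq_one_right e2]))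
  have := Fintype.ofFinite ↥(S.Ps e ⊓ S.Ps f)
  have := Fintype.ofFinite S.μ
  have t1 : τ' 1 = 1 := Subtype.ext (one _ ((hτ 1).he.trans (one_smul _ _)) (by simpa using (hτ 1).hf))
  rw [finsum_eq_sum_of_fintype, ← hF.sum_comp, Finset.sum_congr rfl (g := fun a =>
    (if a = 1 then (S.q ^ 2 - 1) * ξ 1 else 0) + (1 - S.q) * if a ∈ S.μ then ξ (τ' a) else 0)
    fun a _ => (hP (τ' a)).trans ?_, Finset.sum_add_distrib, ← Finset.mul_sum,
    ← sum_sub S.μ fun a => ξ (τ' a), finsum_eq_sum_of_fintype] at h0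
  · have q1 : (S.q : ℂ) - 1 ≠ 0 := sub_ne_zero.2 (by exact_mod_cast (by omega : S.q ≠ 1))
    have s0 : ∑ c : S.μ, (ξ 1 - ξ (τ' c)) = 0 := mul_left_cancel₀ q1 (by
      rw [Finset.sum_sub_distrib, Finset.sum_const, Finset.card_univ, ← Nat.card_eq_fintype_card,
        S.card_μ]
      simp only [Finset.sum_ite_eq', Finset.mem_univ, if_true] at h0
      simp only [nsmul_eq_mul]
      push_cast
      linear_combination h0)
    have s1 := congrArg Complex.re s0
    rw [Complex.re_sum, Complex.zero_re, Finset.sum_eq_zero_iff_of_nonneg fun c _ => by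
      rw [Complex.sub_re]; exact sub_nonneg.2 (hξ.re_le _)] at s1
    intro p m
    rw [ker p _ (eτ _).symm]
    exact apply_of_mem_charKer (hξ.mem_charKer_iff_re.2
      (sub_eq_zero.1 (s1 ⟨_, m⟩ (Finset.mem_univ _))).symm)
  by_cases a1 : a = 1
  · rw [a1, t1, if_pos rfl, if_pos (one_mem _), OneMemClass.coe_one, ω_one za h h3]; ring
  by_cases m : a ∈ S.μ
  · rw [if_neg a1, if_pos m, zero_add]
    exact congrArg (· * _) (ω_tau h h3 H (c := ⟨a, m⟩) (fun k => a1 (congrArg (·.1) k)) (hτ a))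
  · rw [ω_off za h h3 he (by rwa [eτ]), if_neg a1, if_neg m]; simp

end H57.WU3
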